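import Groth.Agent.H48.EtaleVal
import Groth.Agent.H56.AbsFlat
import Mathlib.RingTheory.Unramified.LocalRing
import Mathlib.RingTheory.Unramified.LocalStructure
import Mathlib.RingTheory.ZariskisMainTheorem
import Mathlib.RingTheory.Etale.Basic

/-!
# Local rings of étale algebras over valuation rings
-/

set_option autoImplicit false
universe u

open IsLocalRing

namespace Groth.Agent.H48.EtaleValApp

variable {A B : Type u} [CommRing A] [IsDomain A] [ValuationRing A] [CommRing B] [Algebra A B]
  [Algebra.Etale A B] (m : Ideal B) [m.IsPrime]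

theorem eq_zero_or_eq_mul (hm : m.comap (algebraMap A B) = maximalIdeal A) (b : Localization.AtPrime m) :
    b = 0 ∨ ∃ (c : A) (u : (Localization.AtPrime m)ˣ), c ≠ 0 ∧
      b = u * algebraMap A (Localization.AtPrime m) c := by
  classical
  let L := Localization.AtPrime m
  obtain ⟨C, hC, r, hrm, hbij⟩ :=
    Algebra.QuasiFiniteAt.exists_fg_and_exists_notMem_and_awayMap_bijective (R := A) m
  have : Module.Finite A C := ⟨(Submodule.fg_top _).2 hC⟩
  have hB : Module.IsTorsionFree A B :=
    Submodule.isTorsionFree_iff_torsion_eq_bot.2 (Module.Flat.flat_iff_torsion_eq_bot_of_isBezout.1 inferInstance)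
  have : Module.IsTorsionFree A C := by
    have hinj : Function.Injective C.val.toLinearMap := Subtype.val_injective
    exact hinj.moduleIsTorsionFree C.val.toLinearMap (map_smul C.val.toLinearMap)
  -- every element of `B` lands in `C` after multiplying by a power of `r`
  have hC' : ∀ x : B, ∃ (n : ℕ) (y : C), (y : B) = (r : B) ^ n * x := by
    intro x
    obtain ⟨z, hz⟩ := hbij.2 (algebraMap B _ x)
    obtain ⟨y, ⟨_, k, rfl⟩, rfl⟩ := IsLocalization.exists_mk'_eq (Submonoid.powers r) z
    rw [Localization.awayMap, IsLocalization.Away.map, IsLocalization.map_mk',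
      IsLocalization.mk'_eq_iff_eq_mul, ← map_mul,
      IsLocalization.eq_iff_exists (Submonoid.powers (C.val.toRingHom r))] at hz
    obtain ⟨⟨_, j, rfl⟩, hj⟩ := hz
    refine ⟨j + k, r ^ j * y, ?_⟩
    push_cast
    change (r : B) ^ j * (y : B) = (r : B) ^ j * (x * (((r ^ k : C) : B))) at hj
    rw [hj]; push_cast; ring
  let q : Ideal C := m.comap C.val.toRingHom
  have hq : maximalIdeal A ≤ q.comap (algebraMap A C) := fun a ha => by
    show algebraMap A B a ∈ m
    rw [← Ideal.mem_comap, hm]; exact ha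
  have hout : ∀ x : B, x ∉ m → ∃ (n : ℕ) (y : C), y ∉ q ∧ (y : B) = (r : B) ^ n * x := fun x hx => by
    obtain ⟨n, y, hy⟩ := hC' x
    refine ⟨n, y, fun h => ?_, hy⟩
    change (y : B) ∈ m at h
    rw [hy] at h
    exact (‹m.IsPrime›.mem_or_mem h).elim (fun h' => hrm (‹m.IsPrime›.mem_of_pow_mem n h')) hx
  let φ : C →+* L := (algebraMap B L).comp C.val.toRingHom
  have hφ : ∀ y : C, y ∉ q → IsUnit (φ y) := fun y hy => IsLocalization.map_units L (⟨(y : B), hy⟩ : m.primeCompl)
  have hφ0 : ∀ d : C, φ d = 0 ↔ ∃ s ∉ q, s * d = 0 := by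
    intro d
    constructor
    · intro h
      obtain ⟨⟨t, ht⟩, htd⟩ := (IsLocalization.map_eq_zero_iff m.primeCompl L (d : B)).1 h
      obtain ⟨n, y, hy, hyt⟩ := hout t ht
      exact ⟨y, hy, Subtype.ext (by push_cast; rw [hyt, mul_assoc]; simp_all)⟩
    · rintro ⟨s, hs, h⟩
      exact (hφ s hs).mul_right_eq_zero.1 (by rw [← map_mul, h, map_zero])
  have : IsLocalHom (algebraMap A L) := by
    refine ⟨fun a ha => by_contra fun hu => ?_⟩
    have h1 : algebraMap A B a ∈ m := by rw [← Ideal.mem_comap, hm]; exact hu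
    exact (IsLocalization.AtPrime.to_map_mem_maximal_iff L m (algebraMap A B a)).2 h1
      (by rwa [← IsScalarTower.algebraMap_apply])
  have : Algebra.EssFiniteType B L := Algebra.EssFiniteType.of_isLocalization L m.primeCompl
  have : Algebra.EssFiniteType A L := Algebra.EssFiniteType.comp A B L
  have : Algebra.FormallyUnramified B L := Algebra.FormallyUnramified.of_isLocalization (Rₘ := L) m.primeCompl
  have : Algebra.FormallyUnramified A L := Algebra.FormallyUnramified.comp A B L
  have hmaxL : (maximalIdeal A).map (algebraMap A L) = maximalIdeal L :=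
    Algebra.FormallyUnramified.map_maximalIdeal
  have hmax : ∀ d ∈ q, ∃ s ∉ q, s * d ∈ (maximalIdeal A).map (algebraMap A C) := by
    intro d hd
    have h1 : algebraMap B L d ∈ ((maximalIdeal A).map (algebraMap A B)).map (algebraMap B L) := by
      rw [Ideal.map_map, ← IsScalarTower.algebraMap_eq, hmaxL]
      exact (IsLocalization.AtPrime.to_map_mem_maximal_iff L m (d : B)).2 hd
    rw [IsLocalization.algebraMap_mem_map_algebraMap_iff m.primeCompl] at h1
    obtain ⟨t, ht, htd⟩ := h1
    -- lift the membership to `C`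
    have key : ∀ x ∈ (maximalIdeal A).map (algebraMap A B),
        ∃ (n : ℕ) (y : C), y ∈ (maximalIdeal A).map (algebraMap A C) ∧ (y : B) = (r : B) ^ n * x := by
      intro x hx
      induction hx using Submodule.span_induction with
      | mem x hx =>
        obtain ⟨a, ha, rfl⟩ := hx
        exact ⟨0, algebraMap A C a, Ideal.mem_map_of_mem _ ha, by simp⟩
      | zero => exact ⟨0, 0, zero_mem _, by simp⟩
      | add x y _ _ hx hy =>
        obtain ⟨n, a, ha, ha'⟩ := hx
        obtain ⟨k, b, hb, hb'⟩ := hy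
        exact ⟨n + k, r ^ k * a + r ^ n * b, add_mem (Ideal.mul_mem_left _ _ ha) (Ideal.mul_mem_left _ _ hb),
          by push_cast; rw [ha', hb']; ring⟩
      | smul z x _ hx =>
        obtain ⟨n, a, ha, ha'⟩ := hx
        obtain ⟨k, z', hz'⟩ := hC' z
        exact ⟨k + n, z' * a, Ideal.mul_mem_left _ _ ha, by push_cast; rw [ha', hz', smul_eq_mul]; ring⟩
    obtain ⟨k, y, hy, hy'⟩ := key _ htd
    obtain ⟨n, t', ht', htt⟩ := hout t ht
    refine ⟨r ^ k * t', fun h => (Ideal.IsPrime.mem_or_mem inferInstance h).elim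
      (fun h' => hrm (show (r : C) ∈ q from Ideal.IsPrime.mem_of_pow_mem inferInstance k h')) ht', ?_⟩
    have : r ^ k * t' * d = r ^ n * y := Subtype.ext (by push_cast; rw [hy', htt]; ring)
    rw [this]
    exact Ideal.mul_mem_left _ _ hy
  have : IsReduced B := Groth.Agent.H56.AbsFlat.isReduced_of_weaklyEtale A B
  have : IsReduced L := isReduced_localizationPreserves (R := B) m.primeCompl L inferInstance
  have hred : ∀ (d s : C) (n : ℕ), s ∉ q → s * d ^ n = 0 → ∃ t ∉ q, t * d = 0 := fun d s n hs h =>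
    (hφ0 d).1 (IsReduced.eq_zero _ ⟨n, by rw [← map_pow]; exact (hφ0 _).2 ⟨s, hs, h⟩⟩)
  -- reduce to elements of `C`
  obtain ⟨x, ⟨t, ht⟩, rfl⟩ := IsLocalization.exists_mk'_eq m.primeCompl b
  obtain ⟨n, d, hd⟩ := hC' x
  have hr : IsUnit (algebraMap B L ((r : B) ^ n * t)) :=
    IsLocalization.map_units L (⟨_, mul_mem (pow_mem (show (r : B) ∈ m.primeCompl from hrm) n) ht⟩ : m.primeCompl)
  have hbd : IsLocalization.mk' L x (⟨t, ht⟩ : m.primeCompl) * algebraMap B L ((r : B) ^ n * t) = φ d := by
    show _ = algebraMap B L (d : B)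
    rw [hd, map_mul, map_mul, mul_left_comm]
    congr 1
    rw [IsLocalization.mk'_spec L x (⟨t, ht⟩ : m.primeCompl)]
  rcases EtaleVal.content q hq hmax hred d with h | ⟨c, hc, s, hs, t', ht', hst⟩
  · left
    rw [← hφ0, ← hbd] at h
    exact hr.mul_left_eq_zero.1 h
  · right
    refine ⟨c, (hφ t' ht').unit * (hφ s hs).unit⁻¹ * hr.unit⁻¹, hc, ?_⟩
    have h2 : φ s * (IsLocalization.mk' L x (⟨t, ht⟩ : m.primeCompl) * hr.unit) = algebraMap A L c * φ t' := by
      rw [IsUnit.unit_spec, hbd, ← map_mul, hst]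
      show algebraMap B L (c • (t' : B)) = _
      rw [Algebra.smul_def, map_mul, ← IsScalarTower.algebraMap_apply]
      rfl
    rw [← (hφ s hs).unit_spec, ← (hφ t' ht').unit_spec] at h2
    generalize IsLocalization.mk' L x (⟨t, ht⟩ : m.primeCompl) = z at h2 ⊢
    generalize (hφ t' ht').unit = U at h2 ⊢
    generalize (hφ s hs).unit = S at h2 ⊢
    generalize hr.unit = R at h2 ⊢
    calc z = ↑S⁻¹ * ↑R⁻¹ * (↑S * (z * ↑R)) := by
            rw [show (↑S⁻¹ * ↑R⁻¹ * (↑S * (z * ↑R)) : L) = z * ((↑S⁻¹ * ↑S) * (↑R⁻¹ * ↑R)) by ring]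
            simp
      _ = _ := by rw [h2, Units.val_mul, Units.val_mul]; ring

theorem isDomain (hm : m.comap (algebraMap A B) = maximalIdeal A) :
    IsDomain (Localization.AtPrime m) := by
  have : Module.Flat A (Localization.AtPrime m) :=
    have : Module.Flat B (Localization.AtPrime m) := IsLocalization.flat _ m.primeCompl
    Module.Flat.trans A B _
  have hinj : Function.Injective (algebraMap A (Localization.AtPrime m)) := by
    refine (injective_iff_map_eq_zero _).2 fun a ha => by_contra fun ha0 => one_ne_zero (α := Localization.AtPrime m) ?_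
    refine (Module.Flat.torsion_eq_bot (R := A) (M := Localization.AtPrime m)).le ?_
    exact ⟨⟨a, mem_nonZeroDivisors_of_ne_zero ha0⟩, by
      show a • (1 : Localization.AtPrime m) = 0
      rw [Algebra.smul_def, mul_one, ha]⟩
  have : NoZeroDivisors (Localization.AtPrime m) := ⟨fun {a b} hab => by
    rcases eq_zero_or_eq_mul m hm a with rfl | ⟨c, u, hc, rfl⟩
    · exact Or.inl rfl
    rcases eq_zero_or_eq_mul m hm b with rfl | ⟨c', u', hc', rfl⟩
    · exact Or.inr rfl
    exfalso
    have : algebraMap A (Localization.AtPrime m) (c * c') = 0 := by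
      refine (u * u').isUnit.mul_right_eq_zero.1 ?_
      rw [← hab, Units.val_mul, map_mul]; ring
    exact mul_ne_zero hc hc' ((map_eq_zero_iff _ hinj).1 this)⟩
  exact NoZeroDivisors.to_isDomain _

end Groth.Agent.H48.EtaleValApp
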