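import Groth.Agent.Lib.Henselian.PairUP
import Groth.Agent.Lib.Henselian.NoetherianCriterion
import Mathlib.RingTheory.AdicCompletion.Functoriality
import Mathlib.RingTheory.LocalProperties.Basic

/-! Henselizations of Noetherian pairs. -/

set_option autoImplicit false
universe u

open Groth.Agent.Lib.Henselian Groth.Agent.Lib.Henselian.Pointed

namespace Groth.Agent.H48.PairNoeth

theorem mem_map_of_forall {A S : Type u} [CommRing A] [IsNoetherianRing A] [CommRing S] [Algebra A S]
    [Module.Flat A S] (a J : Ideal A) (ha : a.map (algebraMap A S) ≤ Ideal.jacobson ⊥) {z : A}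
    (h : ∀ n : ℕ, algebraMap A S z ∈ (J ⊔ a ^ n).map (algebraMap A S)) :
    algebraMap A S z ∈ J.map (algebraMap A S) := by
  refine Ideal.mem_of_localization_maximal fun M hM => ?_
  let L := Localization.AtPrime M
  have : Module.Flat S L := IsLocalization.flat L M.primeCompl
  have : Module.Flat A L := Module.Flat.trans A S L
  have hcomp : algebraMap A L = (algebraMap S L).comp (algebraMap A S) := IsScalarTower.algebraMap_eq A S L
  rw [Ideal.map_map, ← hcomp, ← IsScalarTower.algebraMap_apply]
  refine NoetherianCriterion.mem_map_of_forall_mem_sup a J ?_ fun n => ?_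
  · rw [hcomp, ← Ideal.map_map, ← Localization.AtPrime.map_eq_maximalIdeal]
    exact Ideal.map_mono (ha.trans (sInf_le ⟨bot_le, hM⟩))
  · rw [hcomp, ← Ideal.map_map, RingHom.comp_apply]
    exact Ideal.mem_map_of_mem _ (h n)

theorem isNoetherianRing {A : Type u} [CommRing A] [IsNoetherianRing A] {I : Ideal A}
    {B : Type u} [CommRing B] [Algebra A B] (hB : Hens2.IsPairHenselization A I B) : IsNoetherianRing B := by
  classical
  have hjac : I.map (algebraMap A B) ≤ Ideal.jacobson ⊥ := hB.1.jac
  have : IsNoetherianRing (B ⧸ I.map (algebraMap A B)) :=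
    isNoetherianRing_of_surjective (A ⧸ I) _ _ (PairUP.quotientMap_bijective hB).2
  refine NoetherianCriterion.isNoetherianRing_of_fg_closed (I.map (algebraMap A B))
    (Ideal.FG.map (IsNoetherian.noetherian I) _) fun J hJ x hx => ?_
  obtain ⟨s, rfl⟩ := hJ
  let e := PairHenselization.equivOfIsPairHenselization hB
  obtain ⟨A', _, _, _, φ, hφ⟩ := Lim.exists_etale_range ((insert x s).image e.symm)
  have hflat := LimProps.flat_of_etale φ
  let ψ : A' →ₐ[A] B := e.toAlgHom.comp φ
  have hψ : ∀ y ∈ insert x s, ∃ z, ψ z = y := fun y hy => by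
    obtain ⟨z, hz⟩ := hφ (Finset.mem_image_of_mem _ hy)
    exact ⟨z, by show e (φ z) = y; rw [hz, e.apply_symm_apply]⟩
  let : Algebra A' B := ψ.toRingHom.toAlgebra
  have : Module.Flat A' B := by
    let : Algebra A' (PairHenselization.PairHenselization I) := φ.toRingHom.toAlgebra
    have : Module.Flat A' (PairHenselization.PairHenselization I) := hflat
    let e' : PairHenselization.PairHenselization I ≃ₐ[A'] B :=
      AlgEquiv.ofRingEquiv (f := e.toRingEquiv) fun z => rfl
    exact Module.Flat.of_linearEquiv e'.symm.toLinearEquiv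
  have : IsNoetherianRing A' := Algebra.FiniteType.isNoetherianRing A A'
  obtain ⟨z, rfl⟩ := hψ x (Finset.mem_insert_self x s)
  let J' : Ideal A' := Ideal.span (ψ ⁻¹' (s : Set B))
  have hJ' : J'.map (algebraMap A' B) = Ideal.span (s : Set B) := by
    rw [Ideal.map_span]
    congr 1
    exact Set.image_preimage_eq_of_subset fun y hy => hψ y (Finset.mem_insert_of_mem hy)
  have haa : (I.map (algebraMap A A')).map (algebraMap A' B) = I.map (algebraMap A B) := by
    rw [Ideal.map_map]
    exact congrArg (fun g => Ideal.map g I) ψ.comp_algebraMap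
  have h1 := mem_map_of_forall (S := B) (I.map (algebraMap A A')) J' (haa.le.trans hjac) (z := z) fun n => by
    rw [Ideal.map_sup, Ideal.map_pow, hJ', haa]
    exact hx n
  rwa [hJ'] at h1

theorem completion_bijective {A : Type u} [CommRing A] {I : Ideal A}
    {B : Type u} [CommRing B] [Algebra A B] (hB : Hens2.IsPairHenselization A I B) :
    Function.Bijective (AdicCompletion.map I (Algebra.linearMap A B) :
      AdicCompletion I A → AdicCompletion I B) := by
  have hn : ∀ n : ℕ, Function.Bijective ((Algebra.linearMap A B).reduceModIdeal (I ^ n)) := by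
    intro n
    have h := PairUP.quotientMap_pow_bijective hB n
    have htop : (I ^ n • ⊤ : Submodule A A) = I ^ n := by rw [smul_eq_mul, Ideal.mul_top]
    have hmem : ∀ y : B, y ∈ (I ^ n • ⊤ : Submodule A B) ↔ y ∈ (I ^ n).map (algebraMap A B) := fun y => by
      rw [Ideal.smul_top_eq_map, Submodule.restrictScalars_mem]
    refine ⟨fun q q' hq => ?_, fun q => ?_⟩
    · obtain ⟨r, rfl⟩ := Submodule.Quotient.mk_surjective _ q
      obtain ⟨r', rfl⟩ := Submodule.Quotient.mk_surjective _ q'
      rw [LinearMap.reduceModIdeal_apply, LinearMap.reduceModIdeal_apply, Submodule.Quotient.eq, hmem,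
        ← map_sub, Algebra.linearMap_apply] at hq
      refine (Submodule.Quotient.eq _).2 ?_
      rw [htop]
      refine Ideal.Quotient.eq_zero_iff_mem.1 (h.1 ?_)
      rw [map_zero, Ideal.quotientMap_mk, Ideal.Quotient.eq_zero_iff_mem]
      exact hq
    · obtain ⟨y, rfl⟩ := Submodule.Quotient.mk_surjective _ q
      obtain ⟨r, hr⟩ := h.2 (Ideal.Quotient.mk _ y)
      obtain ⟨r, rfl⟩ := Ideal.Quotient.mk_surjective r
      refine ⟨Submodule.Quotient.mk r, ?_⟩
      rw [LinearMap.reduceModIdeal_apply, Submodule.Quotient.eq, hmem, Algebra.linearMap_apply]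
      rwa [Ideal.quotientMap_mk, Ideal.Quotient.eq] at hr
  refine ⟨fun x y hxy => AdicCompletion.ext fun n => (hn n).1 ?_, fun y => ?_⟩
  · rw [← AdicCompletion.map_val_apply, hxy, AdicCompletion.map_val_apply]
  · choose g hg using fun n => (hn n).2 (y.val n)
    refine ⟨⟨g, fun {m n} hmn => (hn m).1 ?_⟩, AdicCompletion.ext hg⟩
    have := LinearMap.congr_fun
      (AdicCompletion.transitionMap_comp_reduceModIdeal (I := I) (Algebra.linearMap A B) hmn) (g n)
    rw [LinearMap.comp_apply, LinearMap.comp_apply] at this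
    refine this.symm.trans ?_
    exact (congrArg (AdicCompletion.transitionMap I B hmn) (hg n)).trans ((y.2 hmn).trans (hg m).symm)

end Groth.Agent.H48.PairNoeth
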