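import Groth.Agent.H48.RamBound
import Mathlib.FieldTheory.IsAlgClosed.AlgebraicClosure
import Mathlib.FieldTheory.SeparableClosure

/-!
Ramification bookkeeping for intermediate fields below a fixed valuation subring of the big field.
-/

set_option autoImplicit false
set_option linter.style.haveILetI false
universe u
open IsLocalRing EtRam

namespace Groth.Agent.H48.Abhy

variable {A K Ω : Type u} [CommRing A] [IsDomain A] [IsDiscreteValuationRing A] [Field K] [Algebra A K]
  [IsFractionRing A K] [Field Ω] [Algebra K Ω] (W : ValuationSubring Ω)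

/-- The trace of `W` on an intermediate field. -/
abbrev V (E : IntermediateField K Ω) : ValuationSubring E := W.comap E.val.toRingHom

/-- The inclusion of traces. -/
def res {E F : IntermediateField K Ω} (h : E ≤ F) : V W E →+* V W F :=
  RingHom.codRestrict ((IntermediateField.inclusion h).toRingHom.comp (V W E).subtype) (V W F) fun x => x.2

theorem res_injective {E F : IntermediateField K Ω} (h : E ≤ F) : Function.Injective (res W h) :=
  fun _ _ hab => Subtype.ext ((IntermediateField.inclusion h).toRingHom.injective (congrArg Subtype.val hab))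

instance isLocalHom_res {E F : IntermediateField K Ω} (h : E ≤ F) : IsLocalHom (res W h) :=
  DomVal.isLocalHom_of_dominates (A := V W E) (g := (IntermediateField.inclusion h).toRingHom.comp (V W E).subtype)
    (V := V W F) (DomVal.dominates_subtype (f := (IntermediateField.inclusion h).toRingHom) (V W F))

/-- The ramification index. -/
noncomputable def e {E F : IntermediateField K Ω} (h : E ≤ F) : ℕ :=
  letI := (res W h).toAlgebra
  Ideal.ramificationIdx' (maximalIdeal (V W E)) (maximalIdeal (V W F))

/-- Separability of the residue extension. -/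
def S {E F : IntermediateField K Ω} (h : E ≤ F) : Prop :=
  letI := (res W h).toAlgebra
  haveI : IsLocalHom (algebraMap (V W E) (V W F)) := isLocalHom_res W h
  Algebra.IsSeparable (ResidueField (V W E)) (ResidueField (V W F))

theorem fin_le {E F : IntermediateField K Ω} (h : E ≤ F) [FiniteDimensional K F] : FiniteDimensional K E :=
  FiniteDimensional.of_injective (IntermediateField.inclusion h).toLinearMap (IntermediateField.inclusion h).toRingHom.injective

variable {W} (hW : Dominates A ((algebraMap K Ω).comp (algebraMap A K)) W)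

include hW

theorem dominates (E : IntermediateField K Ω) : Dominates A ((algebraMap K E).comp (algebraMap A K)) (V W E) := by
  rw [DomVal.dominates_comap_iff, show E.val.toRingHom.comp ((algebraMap K E).comp (algebraMap A K)) =
    (algebraMap K Ω).comp (algebraMap A K) from RingHom.ext fun a => E.val.commutes _]
  exact hW

theorem isDVR (E : IntermediateField K Ω) [FiniteDimensional K E] : IsDiscreteValuationRing (V W E) :=
  FSExt.isDVR (V W E) (dominates hW E)

theorem residue_algebraic {E F : IntermediateField K Ω} (h : E ≤ F) [FiniteDimensional K F] :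
    letI := (res W h).toAlgebra
    haveI : IsLocalHom (algebraMap (V W E) (V W F)) := isLocalHom_res W h
    Algebra.IsAlgebraic (ResidueField (V W E)) (ResidueField (V W F)) := by
  haveI : FiniteDimensional K E := fin_le h
  haveI := isDVR hW E
  letI : Algebra E F := (IntermediateField.inclusion h).toRingHom.toAlgebra
  haveI : IsScalarTower K E F := IsScalarTower.of_algebraMap_eq fun _ => rfl
  haveI : FiniteDimensional E F := Module.Finite.of_restrictScalars_finite K E F
  exact FSExt.residue_algebraic (A := V W E) (K := E) (K₁ := F) (V W F) (DomVal.dominates_subtype (f := (IntermediateField.inclusion h).toRingHom) (V W F))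

theorem e_mul {E F G : IntermediateField K Ω} (h : E ≤ F) (h' : F ≤ G) [FiniteDimensional K G] :
    e W (h.trans h') = e W h * e W h' := by
  haveI : FiniteDimensional K F := fin_le h'
  haveI : FiniteDimensional K E := fin_le h
  haveI := isDVR hW E; haveI := isDVR hW F; haveI := isDVR hW G
  letI := (res W h).toAlgebra; letI := (res W h').toAlgebra; letI := (res W (h.trans h')).toAlgebra
  haveI : IsScalarTower (V W E) (V W F) (V W G) := IsScalarTower.of_algebraMap_eq fun _ => rfl
  haveI : IsLocalHom (algebraMap (V W E) (V W F)) := isLocalHom_res W h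
  haveI : IsLocalHom (algebraMap (V W F) (V W G)) := isLocalHom_res W h'
  haveI : IsLocalHom (algebraMap (V W E) (V W G)) := isLocalHom_res W (h.trans h')
  exact DomVal.ramificationIdx_mul (res_injective W h) (res_injective W h')

theorem S_iff {E F G : IntermediateField K Ω} (h : E ≤ F) (h' : F ≤ G) :
    S W (h.trans h') ↔ S W h ∧ S W h' := by
  letI := (res W h).toAlgebra; letI := (res W h').toAlgebra; letI := (res W (h.trans h')).toAlgebra
  haveI : IsLocalHom (algebraMap (V W E) (V W F)) := isLocalHom_res W h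
  haveI : IsLocalHom (algebraMap (V W F) (V W G)) := isLocalHom_res W h'
  haveI : IsLocalHom (algebraMap (V W E) (V W G)) := isLocalHom_res W (h.trans h')
  haveI : IsScalarTower (ResidueField (V W E)) (ResidueField (V W F)) (ResidueField (V W G)) :=
    IsScalarTower.of_algebraMap_eq fun x => by obtain ⟨x, rfl⟩ := residue_surjective x; rfl
  exact ⟨fun (H : Algebra.IsSeparable _ _) => ⟨Algebra.isSeparable_tower_bot_of_isSeparable _ _ (ResidueField (V W G)),
    Algebra.isSeparable_tower_top_of_isSeparable (ResidueField (V W E)) _ _⟩,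
    fun ⟨(h1 : Algebra.IsSeparable _ _), (h2 : Algebra.IsSeparable _ _)⟩ =>
      Algebra.IsSeparable.trans (ResidueField (V W E)) (ResidueField (V W F)) (ResidueField (V W G))⟩

/-- Abhyankar's lemma. -/
theorem abhyankar {E₀ E₁ E₂ : IntermediateField K Ω} [FiniteDimensional K E₁] [FiniteDimensional K E₂]
    (h₁ : E₀ ≤ E₁) (h₂ : E₀ ≤ E₂) (hs : S W h₁)
    (he : (e W h₁ : ResidueField (V W E₀)) ≠ 0) (hdvd : e W h₁ ∣ e W h₂) :
    e W (le_sup_right : E₂ ≤ E₁ ⊔ E₂) = 1 ∧ S W (le_sup_right : E₂ ≤ E₁ ⊔ E₂) := by
  haveI : FiniteDimensional K E₀ := fin_le h₁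
  haveI := isDVR hW E₀; haveI := isDVR hW E₁; haveI := isDVR hW E₂; haveI := isDVR hW (E₁ ⊔ E₂)
  letI := (res W h₁).toAlgebra; letI := (res W h₂).toAlgebra
  haveI : IsLocalHom (algebraMap (V W E₀) (V W E₁)) := isLocalHom_res W h₁
  haveI : IsLocalHom (algebraMap (V W E₀) (V W E₂)) := isLocalHom_res W h₂
  haveI : Algebra.IsSeparable (ResidueField (V W E₀)) (ResidueField (V W E₁)) := hs
  haveI : Algebra.IsGeometricallyReduced (ResidueField (V W E₀)) (ResidueField (V W E₁)) :=
    FSExt.geomRed_of_separable _ _
  let i₁ := (IntermediateField.inclusion (le_sup_left : E₁ ≤ E₁ ⊔ E₂)).toRingHom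
  let i₂ := (IntermediateField.inclusion (le_sup_right : E₂ ≤ E₁ ⊔ E₂)).toRingHom
  obtain ⟨hu, hg⟩ := FSExt.main (res_injective W h₁) (res_injective W h₂) (i₁.comp (V W E₁).subtype)
    (i₂.comp (V W E₂).subtype) (i₁.injective.comp Subtype.val_injective) (i₂.injective.comp Subtype.val_injective)
    (RingHom.ext fun _ => Subtype.ext rfl) (by
      refine eq_top_iff.2 fun z htop => ?_
      clear htop
      let T := Subfield.closure (Set.range (i₁.comp (V W E₁).subtype) ∪ Set.range (i₂.comp (V W E₂).subtype))
      have h1 : ∀ x : E₁, i₁ x ∈ T := fun x => by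
        rcases (V W E₁).mem_or_inv_mem x with h | h
        · exact Subfield.subset_closure (Or.inl ⟨⟨x, h⟩, rfl⟩)
        · rw [← inv_inv (i₁ x), ← map_inv₀]; exact inv_mem (Subfield.subset_closure (Or.inl ⟨⟨x⁻¹, h⟩, rfl⟩))
      have h2 : ∀ x : E₂, i₂ x ∈ T := fun x => by
        rcases (V W E₂).mem_or_inv_mem x with h | h
        · exact Subfield.subset_closure (Or.inr ⟨⟨x, h⟩, rfl⟩)
        · rw [← inv_inv (i₂ x), ← map_inv₀]; exact inv_mem (Subfield.subset_closure (Or.inr ⟨⟨x⁻¹, h⟩, rfl⟩))
      have hle : ((E₁ ⊔ E₂ : IntermediateField K Ω)).toSubfield ≤ T.map (E₁ ⊔ E₂ : IntermediateField K Ω).val.toRingHom := by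
        let T' : IntermediateField K Ω := Subfield.toIntermediateField
          (T.map (E₁ ⊔ E₂ : IntermediateField K Ω).val.toRingHom)
          (fun k => ⟨i₁ (algebraMap K E₁ k), h1 _, rfl⟩)
        exact (sup_le (fun x hx => ⟨i₁ ⟨x, hx⟩, h1 _, rfl⟩ : E₁ ≤ T') (fun x hx => ⟨i₂ ⟨x, hx⟩, h2 _, rfl⟩) :
          E₁ ⊔ E₂ ≤ T')
      obtain ⟨y, hy, hyz⟩ := hle z.2
      rw [← (show y = z from Subtype.ext hyz)]; exact hy)
    (V W (E₁ ⊔ E₂)) (DomVal.dominates_subtype (f := i₁) (V W (E₁ ⊔ E₂)))
    (DomVal.dominates_subtype (f := i₂) (V W (E₁ ⊔ E₂))) (Or.inl (residue_algebraic hW h₂)) he hdvd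
  letI := (res W (le_sup_right : E₂ ≤ E₁ ⊔ E₂)).toAlgebra
  haveI : IsLocalHom (algebraMap (V W E₂) (V W (E₁ ⊔ E₂))) := isLocalHom_res W le_sup_right
  refine ⟨(DomVal.isWeaklyUnramified_iff (res_injective W le_sup_right)).1 hu, ?_⟩
  haveI : Algebra.IsGeometricallyReduced (ResidueField (V W E₂)) (ResidueField (V W (E₁ ⊔ E₂))) := hg
  haveI := residue_algebraic hW (le_sup_right : E₂ ≤ E₁ ⊔ E₂)
  exact FSExt.isSeparable_of_geomRed _ _

/-- The map from `A`. -/
noncomputable def base (E : IntermediateField K Ω) : A →+* V W E := RingHom.codRestrict _ (V W E) (dominates hW E).1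

theorem base_bijective : Function.Bijective (base hW (⊥ : IntermediateField K Ω)) := by
  refine ⟨fun a b h => IsFractionRing.injective A K ((algebraMap K _).injective (congrArg Subtype.val h)), fun x => ?_⟩
  obtain ⟨k, hk⟩ := (IntermediateField.botEquiv K Ω).symm.surjective (x : (⊥ : IntermediateField K Ω))
  rw [IntermediateField.botEquiv_symm] at hk
  have hkW : algebraMap K Ω k ∈ W := by
    have := congrArg Subtype.val hk
    exact (show algebraMap K Ω k = ((x : (⊥ : IntermediateField K Ω)) : Ω) from this) ▸ x.2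
  rcases ValuationRing.isInteger_or_isInteger A k with ⟨a, rfl⟩ | ⟨a, ha⟩
  · exact ⟨a, Subtype.ext hk⟩
  · by_cases hu : IsUnit a
    · refine ⟨(hu.unit⁻¹ : Aˣ), Subtype.ext ?_⟩
      show algebraMap K _ (algebraMap A K _) = _
      rw [map_units_inv, IsUnit.unit_spec, ha, inv_inv]
      exact hk
    · by_cases hk0 : k = 0
      · refine ⟨0, Subtype.ext ?_⟩
        rw [map_zero, ← hk, hk0]
        exact (map_zero (algebraMap K (⊥ : IntermediateField K Ω))).symm
      · exfalso
        have h1 := hW.2 a hu
        have h2 := (W.valuation_le_one_iff _).2 hkW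
        rw [RingHom.comp_apply, ha, map_inv₀, map_inv₀] at h1
        have h0 : W.valuation (algebraMap K Ω k) ≠ 0 := (Valuation.ne_zero_iff _).2 ((map_ne_zero _).2 hk0)
        exact absurd h1 (not_lt.2 (one_le_inv_iff₀.2 ⟨zero_lt_iff.2 h0, h2⟩))

theorem base_iff (E : IntermediateField K Ω) [FiniteDimensional K E] :
    letI : Algebra A (V W E) := (base hW E).toAlgebra
    ∀ [IsLocalHom (algebraMap A (V W E))],
    (Ideal.ramificationIdx' (maximalIdeal A) (maximalIdeal (V W E)) = e W (bot_le : ⊥ ≤ E)) ∧
    (IsWeaklyUnramified A (V W E) ↔ e W (bot_le : ⊥ ≤ E) = 1) ∧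
    (Algebra.IsSeparable (ResidueField A) (ResidueField (V W E)) ↔ S W (bot_le : ⊥ ≤ E)) ∧
    (∀ n : ℕ, (n : ResidueField A) ≠ 0 → (n : ResidueField (V W (⊥ : IntermediateField K Ω))) ≠ 0) := by
  intro _
  haveI := isDVR hW E; haveI := isDVR hW (⊥ : IntermediateField K Ω)
  letI : Algebra A (V W E) := (base hW E).toAlgebra
  letI : Algebra A (V W (⊥ : IntermediateField K Ω)) := (base hW ⊥).toAlgebra
  haveI : IsLocalHom (algebraMap A (V W (⊥ : IntermediateField K Ω))) := DomVal.isLocalHom_of_dominates (dominates hW ⊥)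
  letI := (res W (bot_le : ⊥ ≤ E)).toAlgebra
  haveI : IsLocalHom (algebraMap (V W (⊥ : IntermediateField K Ω)) (V W E)) := isLocalHom_res W bot_le
  haveI : IsScalarTower A (V W (⊥ : IntermediateField K Ω)) (V W E) := IsScalarTower.of_algebraMap_eq fun a =>
    Subtype.ext (Subtype.ext rfl)
  obtain ⟨hbi, hbs⟩ := base_bijective hW
  have hbe : IsWeaklyUnramified A (V W (⊥ : IntermediateField K Ω)) := by
    have hc : (maximalIdeal (V W (⊥ : IntermediateField K Ω))).comap
        (algebraMap A (V W (⊥ : IntermediateField K Ω))) = maximalIdeal A :=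
      ((local_hom_TFAE (algebraMap A (V W (⊥ : IntermediateField K Ω)))).out 0 4).1
        ‹IsLocalHom (algebraMap A (V W (⊥ : IntermediateField K Ω)))›
    rw [IsWeaklyUnramified, ← hc]
    exact Ideal.map_comap_of_surjective _ hbs _
  have he := DomVal.ramificationIdx_mul hbi (res_injective W (bot_le : ⊥ ≤ E))
  rw [(DomVal.isWeaklyUnramified_iff hbi).1 hbe, one_mul] at he
  have hAE : Function.Injective (algebraMap A (V W E)) := by
    rw [IsScalarTower.algebraMap_eq A (V W (⊥ : IntermediateField K Ω)) (V W E)]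
    exact (res_injective W bot_le).comp hbi
  have hks : Function.Surjective (algebraMap (ResidueField A) (ResidueField (V W (⊥ : IntermediateField K Ω)))) := by
    intro x
    obtain ⟨x, rfl⟩ := residue_surjective x
    obtain ⟨a, rfl⟩ := hbs x
    exact ⟨residue A a, rfl⟩
  refine ⟨he, (DomVal.isWeaklyUnramified_iff hAE).trans (by rw [he]; rfl), ?_, fun n hn => ?_⟩
  · haveI : IsScalarTower (ResidueField A) (ResidueField (V W (⊥ : IntermediateField K Ω))) (ResidueField (V W E)) :=
      IsScalarTower.of_algebraMap_eq fun x => by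
        obtain ⟨x, rfl⟩ := residue_surjective x
        exact congrArg _ (IsScalarTower.algebraMap_apply A (V W (⊥ : IntermediateField K Ω)) (V W E) x)
    haveI : Algebra.IsSeparable (ResidueField A) (ResidueField (V W (⊥ : IntermediateField K Ω))) := by
      refine ⟨fun x => ?_⟩
      obtain ⟨y, rfl⟩ := hks x
      exact isSeparable_algebraMap y
    exact ⟨fun h => Algebra.isSeparable_tower_top_of_isSeparable (ResidueField A) _ _,
      fun (h : Algebra.IsSeparable _ _) => Algebra.IsSeparable.trans (ResidueField A)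
        (ResidueField (V W (⊥ : IntermediateField K Ω))) (ResidueField (V W E))⟩
  · rw [← map_natCast (algebraMap (ResidueField A) (ResidueField (V W (⊥ : IntermediateField K Ω))))]
    exact (map_ne_zero _).2 hn

end Groth.Agent.H48.Abhy
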