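import Groth.Agent.Lib.Cohen.CTensorReduced
import Groth.Agent.H22.DepthTensor
import Groth.Agent.Lib.LocalFlat.Criterion

/-!
Structure of completed tensor products over a field.
-/

set_option autoImplicit false
set_option linter.style.haveILetI false

universe u

open scoped TensorProduct
open IsLocalRing

attribute [local instance] Algebra.TensorProduct.rightAlgebra

namespace Groth.Agent.H48.CTensor

open Groth.Agent.Lib.Cohen.CTensorReduced (isAdicComplete_ps maximalIdeal_ps exists_finite)

variable (k A B : Type u) [Field k] [CommRing A] [CommRing B] [Algebra k A] [Algebra k B]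
  [IsNoetherianRing A] [IsNoetherianRing B] [IsLocalRing A] [IsLocalRing B]
  [IsAdicComplete (maximalIdeal A) A] [IsAdicComplete (maximalIdeal B) B]

set_option maxHeartbeats 1000000 in
/-- The completed tensor product as a finite algebra over a power series ring. -/
theorem exists_model [Module.Finite k (ResidueField A)] :
    ∃ (d : ℕ) (g : MvPowerSeries (Fin d) k →ₐ[k] A),
      Ideal.span (Set.range fun i => g (MvPowerSeries.X i)) = maximalIdeal A ∧ g.toRingHom.Finite ∧
      (letI : Algebra (MvPowerSeries (Fin d) k) A := g.toRingHom.toAlgebra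
       ∃ Ψ : MvPowerSeries (Fin d) B ⊗[MvPowerSeries (Fin d) k] A ≃+* EGA4.CTensor k A B,
        (∀ a : A, Ψ ((1 : MvPowerSeries (Fin d) B) ⊗ₜ a) = algebraMap A (EGA4.CTensor k A B) a) ∧
        (∀ b : B, Ψ ((MvPowerSeries.C b : MvPowerSeries (Fin d) B) ⊗ₜ 1) =
          algebraMap B (EGA4.CTensor k A B) b)) := by
  classical
  obtain ⟨d, g, hgm, hgfin⟩ := exists_finite k A
  let R := MvPowerSeries (Fin d) k
  let C := MvPowerSeries (Fin d) B
  letI : Algebra R A := g.toRingHom.toAlgebra
  haveI : IsScalarTower k R A := IsScalarTower.of_algebraMap_eq fun l => (g.commutes l).symm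
  haveI : Module.Finite R A := hgfin
  haveI : IsScalarTower k R C := IsScalarTower.of_algebraMap_eq fun l => by
    simp [R, C, MvPowerSeries.algebraMap_apply'', MvPowerSeries.algebraMap_apply]
  let T := C ⊗[R] A
  haveI := isAdicComplete_ps B d
  let M := maximalIdeal C
  haveI : Module.Finite C T := inferInstance
  haveI hcompl : IsAdicComplete M T := Groth.Agent.Lib.Adic.Complete.isAdicComplete_of_finite
  let MT : Ideal T := M.map (algebraMap C T)
  have hMT : ∀ j, ∀ z : T, z ∈ (M ^ j • ⊤ : Submodule C T) ↔ z ∈ MT ^ j := fun j z => by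
    rw [Ideal.smul_top_eq_map, ← Ideal.map_pow, Submodule.restrictScalars_mem]
  -- the map out of the tensor product
  let φ : A ⊗[k] B →ₐ[k] T := Algebra.TensorProduct.lift
    ((Algebra.TensorProduct.includeRight : A →ₐ[R] T).restrictScalars k)
    ((((Algebra.TensorProduct.includeLeft : C →ₐ[R] T).restrictScalars k)).comp
      ((IsScalarTower.toAlgHom B B C).restrictScalars k))
    fun _ _ => Commute.all _ _
  let I := EGA4.cTensorIdeal k A B
  have hφA : ∀ a : A, φ (a ⊗ₜ 1) = (1 : C) ⊗ₜ[R] a := fun a => by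
    change ((1 : C) ⊗ₜ[R] a) * ((algebraMap B C 1) ⊗ₜ[R] (1 : A)) = _
    rw [map_one, Algebra.TensorProduct.tmul_mul_tmul, one_mul, mul_one]
  have hφB : ∀ b : B, φ ((1 : A) ⊗ₜ b) = (MvPowerSeries.C b : C) ⊗ₜ[R] (1 : A) := fun b => by
    change ((1 : C) ⊗ₜ[R] (1 : A)) * (algebraMap B C b ⊗ₜ[R] (1 : A)) = _
    rw [Algebra.TensorProduct.tmul_mul_tmul, one_mul, one_mul]
    rfl
  have hM := maximalIdeal_ps B d
  have hXM : ∀ i, (MvPowerSeries.X i : C) ∈ M := fun i => by
    change _ ∈ maximalIdeal _
    rw [hM]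
    exact Ideal.mem_sup_left (Ideal.subset_span ⟨i, rfl⟩)
  have hφI : I.map φ ≤ MT := by
    change (EGA4.cTensorIdeal k A B).map φ ≤ MT
    rw [EGA4.cTensorIdeal, Ideal.map_le_iff_le_comap, sup_le_iff,
      Ideal.map_le_iff_le_comap, Ideal.map_le_iff_le_comap, ← hgm, Ideal.span_le]
    constructor
    · rintro _ ⟨i, rfl⟩
      change φ (g (MvPowerSeries.X i) ⊗ₜ 1) ∈ MT
      rw [hφA, show g (MvPowerSeries.X i) = (MvPowerSeries.X i : R) • (1 : A) from
        (Algebra.algebraMap_eq_smul_one (A := A) (MvPowerSeries.X i : R)), ← TensorProduct.smul_tmul,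
        ← Algebra.algebraMap_eq_smul_one]
      have : algebraMap R C (MvPowerSeries.X i) = MvPowerSeries.X i := by
        simp [R, C, MvPowerSeries.algebraMap_apply'']
      rw [this]
      exact Ideal.mem_map_of_mem (algebraMap C T) (hXM i)
    · intro b hb
      change φ ((1 : A) ⊗ₜ b) ∈ MT
      rw [hφB]
      refine Ideal.mem_map_of_mem (algebraMap C T) ?_
      change _ ∈ maximalIdeal _
      rw [hM]
      exact Ideal.mem_sup_right (Ideal.mem_map_of_mem _ hb)
  -- left inverses modulo powers of the ideal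
  have hG : ∀ j, ∃ G : T →+* (A ⊗[k] B) ⧸ I ^ j,
      (∀ a, G (φ a) = Ideal.Quotient.mk _ a) ∧ MT.map G ≤ I.map (Ideal.Quotient.mk (I ^ j)) := by
    intro j
    let Q := (A ⊗[k] B) ⧸ I ^ j
    let IQ : Ideal Q := I.map (Ideal.Quotient.mk (I ^ j))
    have hIQ : IQ ^ j = ⊥ := by rw [← Ideal.map_pow, Ideal.map_quotient_self]
    haveI := Groth.Agent.H24.PowerSeries.isAdicComplete_of_pow_eq_bot IQ j hIQ
    letI : Algebra B (A ⊗[k] B) := Algebra.TensorProduct.rightAlgebra
    haveI : IsScalarTower k B (A ⊗[k] B) := IsScalarTower.of_algebraMap_eq fun l => by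
      change _ = (1 : A) ⊗ₜ algebraMap k B l
      rw [Algebra.algebraMap_eq_smul_one (A := B), TensorProduct.tmul_smul,
        Algebra.algebraMap_eq_smul_one]
      rfl
    let iA : A →ₐ[k] Q :=
      (Ideal.Quotient.mkₐ k (I ^ j)).comp (Algebra.TensorProduct.includeLeft : A →ₐ[k] A ⊗[k] B)
    have hiA : ∀ i, iA (g (MvPowerSeries.X i)) ∈ IQ := fun i =>
      Ideal.mem_map_of_mem _ (Ideal.mem_sup_left (Ideal.mem_map_of_mem _
        (hgm ▸ Ideal.subset_span ⟨i, rfl⟩)))
    obtain ⟨f, hf⟩ := Groth.Agent.H24.PowerSeries.exists_hom (A := B) IQ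
      (fun i => iA (g (MvPowerSeries.X i))) hiA
    let fR : R →ₐ[k] Q :=
      (f.restrictScalars k).comp ((IsScalarTower.toAlgHom R R C).restrictScalars k)
    have hcomp : fR = iA.comp g := by
      refine Groth.Agent.H24.PowerSeries.hom_ext IQ (fun i => ?_) fun i => ?_
      · change f (algebraMap R C (MvPowerSeries.X i)) ∈ IQ
        rw [show algebraMap R C (MvPowerSeries.X i) = MvPowerSeries.X i by
          simp [R, C, MvPowerSeries.algebraMap_apply''], hf]
        exact hiA i
      · change f (algebraMap R C (MvPowerSeries.X i)) = _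
        rw [show algebraMap R C (MvPowerSeries.X i) = MvPowerSeries.X i by
          simp [R, C, MvPowerSeries.algebraMap_apply''], hf]
        rfl
    let iA' : A →ₐ[R] Q := { iA.toRingHom with commutes' := fun r => rfl }
    let f' : C →ₐ[R] Q := { f.toRingHom with commutes' := fun r => AlgHom.congr_fun hcomp r }
    let G : T →ₐ[R] Q := Algebra.TensorProduct.lift f' iA' fun _ _ => Commute.all _ _
    refine ⟨G.toRingHom, fun a => ?_, ?_⟩
    · induction a using TensorProduct.induction_on with
      | zero => rw [map_zero, map_zero, map_zero]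
      | add x y hx hy => rw [map_add, map_add, map_add, hx, hy]
      | tmul a b =>
        have h1 : φ (a ⊗ₜ[k] b) = (MvPowerSeries.C b : C) ⊗ₜ[R] a := by
          rw [show a ⊗ₜ[k] b = (a ⊗ₜ[k] (1 : B)) * ((1 : A) ⊗ₜ[k] b) by simp, map_mul, hφA, hφB,
            Algebra.TensorProduct.tmul_mul_tmul, one_mul, mul_one]
        rw [h1]
        change f (algebraMap B C b) * iA a = _
        rw [AlgHom.commutes, mul_comm]
        change Ideal.Quotient.mk _ (a ⊗ₜ[k] (1 : B)) * Ideal.Quotient.mk _ ((1 : A) ⊗ₜ[k] b) = _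
        rw [← map_mul, Algebra.TensorProduct.tmul_mul_tmul, one_mul, mul_one]
    · rw [Ideal.map_map, Ideal.map_le_iff_le_comap]
      change maximalIdeal _ ≤ _
      rw [hM, sup_le_iff, Ideal.span_le, Ideal.map_le_iff_le_comap]
      constructor
      · rintro _ ⟨i, rfl⟩
        change f (MvPowerSeries.X i) * iA 1 ∈ IQ
        rw [hf]
        exact Ideal.mul_mem_right _ _ (hiA i)
      · intro b hb
        change f (algebraMap B C b) * iA 1 ∈ IQ
        rw [AlgHom.commutes]
        exact Ideal.mul_mem_right _ _ (Ideal.mem_map_of_mem _ (Ideal.mem_sup_right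
          (Ideal.mem_map_of_mem _ hb)))
  have hXalg : ∀ i, algebraMap R C (MvPowerSeries.X i) = MvPowerSeries.X i := fun i => by
    simp [R, C, MvPowerSeries.algebraMap_apply'']
  have hφX : ∀ i, φ (g (MvPowerSeries.X i) ⊗ₜ 1) = algebraMap C T (MvPowerSeries.X i) := fun i => by
    rw [hφA, show g (MvPowerSeries.X i) = (MvPowerSeries.X i : R) • (1 : A) from
      (Algebra.algebraMap_eq_smul_one (A := A) (MvPowerSeries.X i : R)), ← TensorProduct.smul_tmul,
      ← Algebra.algebraMap_eq_smul_one, hXalg]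
    rfl
  let XT : Ideal T := (Ideal.span (Set.range (MvPowerSeries.X : Fin d → C))).map (algebraMap C T)
  have hstep : ∀ t : T, ∃ a, t - φ a ∈ XT := fun t => by
    induction t using TensorProduct.induction_on with
    | zero => exact ⟨0, by simp⟩
    | add x y hx hy =>
      obtain ⟨a, ha⟩ := hx
      obtain ⟨a', ha'⟩ := hy
      exact ⟨a + a', by rw [map_add, add_sub_add_comm]; exact add_mem ha ha'⟩
    | tmul c a =>
      refine ⟨a ⊗ₜ MvPowerSeries.constantCoeff c, ?_⟩
      have h1 : φ (a ⊗ₜ MvPowerSeries.constantCoeff c) =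
          (MvPowerSeries.C (MvPowerSeries.constantCoeff c) : C) ⊗ₜ[R] a := by
        rw [show a ⊗ₜ[k] MvPowerSeries.constantCoeff c =
          (a ⊗ₜ[k] (1 : B)) * ((1 : A) ⊗ₜ[k] MvPowerSeries.constantCoeff c) by simp, map_mul, hφA, hφB,
          Algebra.TensorProduct.tmul_mul_tmul, one_mul, mul_one]
      rw [h1, ← TensorProduct.sub_tmul]
      have h2 : c - MvPowerSeries.C (MvPowerSeries.constantCoeff c) ∈
          Ideal.span (Set.range (MvPowerSeries.X : Fin d → C)) :=
        Groth.Agent.H23.PSAut.mem_span_X_of_constantCoeff _ (by simp)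
      rw [show ((c - MvPowerSeries.C (MvPowerSeries.constantCoeff c)) ⊗ₜ[R] a : T) =
        algebraMap C T (c - MvPowerSeries.C (MvPowerSeries.constantCoeff c)) * ((1 : C) ⊗ₜ[R] a) by
          rw [Algebra.TensorProduct.algebraMap_apply, Algebra.TensorProduct.tmul_mul_tmul, Algebra.algebraMap_self, RingHom.id_apply, mul_one, one_mul]]
      exact Ideal.mul_mem_right _ _ (Ideal.mem_map_of_mem _ h2)
  have hXMT : XT ≤ MT := Ideal.map_mono (Ideal.span_le.2 (Set.range_subset_iff.2 hXM))
  have hdense : ∀ j t, ∃ a, t - φ a ∈ MT ^ j := by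
    intro j
    induction j with
    | zero => exact fun t => ⟨0, by simp⟩
    | succ j ih =>
      intro t
      have key : ∀ u ∈ XT, ∀ c : T, ∃ a, c * u - φ a ∈ MT ^ (j + 1) := by
        intro u hu
        simp only [XT, Ideal.map_span] at hu
        induction hu using Submodule.span_induction with
        | mem x hx =>
          obtain ⟨_, ⟨i, rfl⟩, rfl⟩ := hx
          intro c
          obtain ⟨a, ha⟩ := ih c
          refine ⟨a * (g (MvPowerSeries.X i) ⊗ₜ 1), ?_⟩
          rw [map_mul, hφX, ← sub_mul, Submodule.pow_succ]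
          exact Ideal.mul_mem_mul ha (Ideal.mem_map_of_mem _ (hXM i))
        | zero => exact fun c => ⟨0, by simp⟩
        | add x y _ _ hx hy =>
          intro c
          obtain ⟨a, ha⟩ := hx c
          obtain ⟨a', ha'⟩ := hy c
          exact ⟨a + a', by rw [map_add, mul_add, add_sub_add_comm]; exact add_mem ha ha'⟩
        | smul r x _ hx =>
          intro c
          obtain ⟨a, ha⟩ := hx (c * r)
          exact ⟨a, by rwa [smul_eq_mul, ← mul_assoc]⟩
      obtain ⟨a, ha⟩ := hstep t
      obtain ⟨a', ha'⟩ := key _ ha 1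
      refine ⟨a + a', ?_⟩
      rwa [one_mul, sub_sub, ← map_add] at ha'
  choose G hG1 hG2 using hG
  have hGMT : ∀ j, ∀ t ∈ MT ^ j, G j t = 0 := fun j t ht => by
    have h4 := Ideal.mem_map_of_mem (G j) ht
    rw [Ideal.map_pow] at h4
    have h5 := Ideal.pow_right_mono (hG2 j) j h4
    rw [← Ideal.map_pow, Ideal.map_quotient_self] at h5
    exact h5
  have hGval : ∀ j t a, t - φ a ∈ MT ^ j → G j t = Ideal.Quotient.mk _ a := fun j t a h => by
    have := hGMT j _ h
    rwa [map_sub, hG1, sub_eq_zero] at this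
  have hcompat : ∀ {m n : ℕ} (hle : m ≤ n), (Ideal.Quotient.factorPow I hle).comp (G n) = G m := by
    intro m n hle
    refine RingHom.ext fun t => ?_
    obtain ⟨a, ha⟩ := hdense n t
    rw [RingHom.comp_apply, hGval n t a ha, hGval m t a (Ideal.pow_le_pow_right hle ha)]
    rfl
  let Ψ : T →+* EGA4.CTensor k A B := AdicCompletion.liftRingHom I G hcompat
  have hΨφ : ∀ x, Ψ (φ x) = algebraMap (A ⊗[k] B) (EGA4.CTensor k A B) x := fun x =>
    AdicCompletion.ext_evalₐ fun j => by
      rw [AdicCompletion.evalₐ_liftRingHom, hG1, AlgHom.commutes]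
      rfl
  have hinj : Function.Injective Ψ := by
    rw [injective_iff_map_eq_zero]
    intro t ht
    refine IsHausdorff.haus' (I := M) _ fun j => ?_
    rw [SModEq.zero, hMT]
    obtain ⟨a, ha⟩ := hdense j t
    have h1 : G j t = 0 := by
      rw [← AdicCompletion.evalₐ_liftRingHom I G hcompat, show AdicCompletion.liftRingHom I G hcompat t = 0 from ht,
        map_zero]
    rw [hGval j t a ha, Ideal.Quotient.eq_zero_iff_mem] at h1
    have h2 : φ a ∈ MT ^ j := by
      refine Ideal.pow_right_mono hφI j ?_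
      rw [← Ideal.map_pow]
      exact Ideal.mem_map_of_mem _ h1
    simpa using add_mem ha h2
  have hsurj : Function.Surjective Ψ := fun x => by
    choose a ha using fun i => Ideal.Quotient.mk_surjective (AdicCompletion.evalₐ I i x)
    have hCauchy : ∀ {m n : ℕ}, m ≤ n → φ (a m) ≡ φ (a n) [SMOD (M ^ m • ⊤ : Submodule C T)] := by
      intro m n hmn
      rw [SModEq.sub_mem, hMT, ← map_sub]
      refine Ideal.pow_right_mono hφI m ?_
      rw [← Ideal.map_pow]
      refine Ideal.mem_map_of_mem _ ?_
      rw [← Ideal.Quotient.eq, ha m, ← Groth.Agent.Lib.Excellent.CompletionTopology.factor_evalₐ hmn x,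
        ← ha n]
      rfl
    obtain ⟨L, hL⟩ := IsPrecomplete.prec (I := M) inferInstance hCauchy
    refine ⟨L, AdicCompletion.ext_evalₐ fun j => ?_⟩
    rw [AdicCompletion.evalₐ_liftRingHom, ← ha j]
    refine hGval j L (a j) ?_
    rw [← neg_sub]
    exact neg_mem ((hMT j _).1 (SModEq.sub_mem.1 (hL j)))
  refine ⟨d, g, hgm, hgfin, RingEquiv.ofBijective Ψ ⟨hinj, hsurj⟩, fun a => ?_, fun b => ?_⟩
  · change Ψ _ = _
    rw [← hφA, hΨφ, IsScalarTower.algebraMap_apply A (A ⊗[k] B) (EGA4.CTensor k A B)]
    rfl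
  · change Ψ _ = _
    rw [← hφB, hΨφ, IsScalarTower.algebraMap_apply B (A ⊗[k] B) (EGA4.CTensor k A B)]
    rfl

section Pieces

variable (d : ℕ)

omit [Algebra k B] [IsAdicComplete (maximalIdeal B) B] in
/-- Power series with coefficients in the maximal ideal. -/
theorem ker_map_residue :
    RingHom.ker (MvPowerSeries.map (σ := Fin d) (Ideal.Quotient.mk (maximalIdeal B))) =
      (maximalIdeal B).map (algebraMap B (MvPowerSeries (Fin d) B)) := by
  classical
  refine le_antisymm (fun f hf => ?_) (Ideal.map_le_iff_le_comap.2 fun b hb => ?_)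
  · obtain ⟨s, hs⟩ := (IsNoetherian.noetherian (maximalIdeal B) : (maximalIdeal B).FG)
    have hc : ∀ n, MvPowerSeries.coeff n f ∈ Submodule.span B (s : Set B) := fun n => by
      rw [hs, ← Ideal.Quotient.eq_zero_iff_mem, ← MvPowerSeries.coeff_map,
        RingHom.mem_ker.1 hf, map_zero]
    have hc' : ∀ n, ∃ w : B → B, ∑ x ∈ s, w x • x = MvPowerSeries.coeff n f := fun n => by
      obtain ⟨w, -, hw⟩ := Submodule.mem_span_finset.1 (hc n)
      exact ⟨w, hw⟩
    choose w hw using hc'
    let g : B → MvPowerSeries (Fin d) B := fun x n => w n x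
    have hf' : f = ∑ x ∈ s, MvPowerSeries.C x * g x := by
      ext n
      rw [← hw n, map_sum]
      refine Finset.sum_congr rfl fun x _ => ?_
      rw [MvPowerSeries.coeff_C_mul, smul_eq_mul, mul_comm]
      rfl
    rw [hf']
    exact sum_mem fun x hx => Ideal.mul_mem_right _ _
      (Ideal.mem_map_of_mem (algebraMap B _) (hs ▸ Submodule.subset_span hx))
  · rw [Ideal.mem_comap, RingHom.mem_ker,
      show algebraMap B (MvPowerSeries (Fin d) B) b = MvPowerSeries.C b from rfl, MvPowerSeries.map_C,
      Ideal.Quotient.eq_zero_iff_mem.2 hb, map_zero]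

omit [IsAdicComplete (maximalIdeal B) B] in
theorem flat_closedFibre :
    Module.Flat (MvPowerSeries (Fin d) k)
      (MvPowerSeries (Fin d) B ⧸ (maximalIdeal B).map (algebraMap B (MvPowerSeries (Fin d) B))) := by
  let R := MvPowerSeries (Fin d) k
  let C := MvPowerSeries (Fin d) B
  let kB := B ⧸ maximalIdeal B
  let m : C →+* MvPowerSeries (Fin d) kB := MvPowerSeries.map (Ideal.Quotient.mk (maximalIdeal B))
  let mA : C →ₐ[R] MvPowerSeries (Fin d) kB :=
    { m with
      commutes' := fun r => MvPowerSeries.ext fun n => rfl }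
  have hsurj : Function.Surjective mA := fun f => by
    choose v hv using fun n => Ideal.Quotient.mk_surjective (MvPowerSeries.coeff n f)
    exact ⟨fun n => v n, MvPowerSeries.ext fun n => hv n⟩
  have hker : RingHom.ker mA.toRingHom = (maximalIdeal B).map (algebraMap B C) := ker_map_residue B d
  haveI : Module.Flat R (MvPowerSeries (Fin d) kB) :=
    Groth.Agent.Lib.Cohen.PowerSeriesBaseChange.flat k kB (Fin d)
  exact Module.Flat.of_linearEquiv
    (((Ideal.quotientEquivAlgOfEq R hker.symm).trans
      (Ideal.quotientKerAlgEquivOfSurjective hsurj)).toLinearEquiv)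

end Pieces

section Tor

variable {R B C A : Type u} [CommRing R] [CommRing B] [CommRing C] [CommRing A] [Algebra B C]
  [Algebra R C] [Algebra R A]

theorem rTensor_injective_of_flat_coker {R : Type u} [CommRing R] {N P M : Type u} [AddCommGroup N]
    [Module R N] [AddCommGroup P] [Module R P] [AddCommGroup M] [Module R M] (f : N →ₗ[R] P)
    (hf : Function.Injective f) [Module.Flat R (P ⧸ LinearMap.range f)] :
    Function.Injective (f.rTensor M) :=
  Groth.Agent.H22.DepthTensor.rTensor_injective f (LinearMap.range f).mkQ hf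
    (LinearMap.exact_map_mkQ_range f) (Submodule.mkQ_surjective _) M

theorem rTensor_injective_of_flat_range {R C M : Type u} [CommRing R] [CommRing C] [Algebra R C]
    [AddCommGroup M] [Module R M] {N : Type u} [AddCommGroup N] [Module C N] [Module R N]
    [IsScalarTower R C N] (f : N →ₗ[C] C) (hf : Function.Injective f)
    (hflat : Module.Flat R (C ⧸ LinearMap.range f)) :
    Function.Injective ((f.restrictScalars R).rTensor M) := by
  haveI : Module.Flat R (C ⧸ LinearMap.range (f.restrictScalars R)) :=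
    Module.Flat.of_linearEquiv (Submodule.Quotient.restrictScalarsEquiv R (LinearMap.range f))
  exact rTensor_injective_of_flat_coker (f.restrictScalars R) hf

set_option maxHeartbeats 400000 in
/-- Injectivity of multiplication on a base change. -/
theorem injective_tensor_of_flat_quotient [Module.Flat B C] (m : Ideal B)
    (hflat : Module.Flat R (C ⧸ m.map (algebraMap B C))) :
    Function.Injective (m.subtype.lTensor (C ⊗[R] A)) := by
  let T := C ⊗[R] A
  obtain ⟨μC, hμC⟩ : ∃ f : C ⊗[B] m →ₗ[C] C, ∀ (c : C) (r : m), f (c ⊗ₜ r) = c * algebraMap B C r :=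
    ⟨TensorProduct.AlgebraTensorModule.lift
      ((LinearMap.toSpanSingleton C (m →ₗ[B] C)) ((Algebra.linearMap B C) ∘ₗ m.subtype)), fun _ _ => rfl⟩
  have hμinj : Function.Injective μC := by
    have h1 := Module.Flat.lTensor_preserves_injective_linearMap (M := C) m.subtype m.injective_subtype
    have h2 : (μC.restrictScalars B) = (TensorProduct.rid B C).toLinearMap ∘ₗ m.subtype.lTensor C :=
      TensorProduct.ext' fun c r => by
        change μC (c ⊗ₜ r) = (r : B) • c
        rw [hμC, Algebra.smul_def, mul_comm]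
    intro x y h
    refine h1 ((TensorProduct.rid B C).injective ?_)
    exact ((LinearMap.congr_fun h2 x).symm.trans h).trans (LinearMap.congr_fun h2 y)
  haveI : Module.Flat R (C ⧸ LinearMap.range μC) := by
    haveI := hflat
    refine Module.Flat.of_linearEquiv
      ((Submodule.quotEquivOfEq (LinearMap.range μC) (m.map (algebraMap B C)) ?_).restrictScalars R)
    refine le_antisymm ?_ (Ideal.map_le_iff_le_comap.2 fun r hr => ?_)
    · rintro _ ⟨z, rfl⟩
      induction z using TensorProduct.induction_on with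
      | zero => simp
      | tmul c r => rw [hμC]; exact Ideal.mul_mem_left _ _ (Ideal.mem_map_of_mem _ r.2)
      | add x y hx hy => rw [map_add]; exact add_mem hx hy
    · exact ⟨(1 : C) ⊗ₜ ⟨r, hr⟩, (hμC _ _).trans (one_mul _)⟩
  let ψ : (C ⊗[B] m) ⊗[R] A →ₗ[R] T := (μC.restrictScalars R).rTensor A
  have hψ : Function.Injective ψ := rTensor_injective_of_flat_range μC hμinj inferInstance
  obtain ⟨incl, hincl⟩ : ∃ f : C ⊗[B] m →ₗ[C] T ⊗[B] m,
      ∀ (c : C) (r : m), f (c ⊗ₜ r) = (algebraMap C T c) ⊗ₜ[B] r :=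
    ⟨TensorProduct.AlgebraTensorModule.map (Algebra.linearMap C T) (LinearMap.id : m →ₗ[B] m),
      fun _ _ => rfl⟩
  let F : C ⊗[B] m →+ A →+ T ⊗[B] m :=
    AddMonoidHom.mk' (fun x => AddMonoidHom.mk' (fun a => ((1 : C) ⊗ₜ[R] a : T) • incl x)
      fun a b => by rw [TensorProduct.tmul_add, add_smul])
      fun x y => AddMonoidHom.ext fun a => by
        change ((1 : C) ⊗ₜ[R] a : T) • incl (x + y) =
          ((1 : C) ⊗ₜ[R] a : T) • incl x + ((1 : C) ⊗ₜ[R] a : T) • incl y
        rw [map_add incl x y, smul_add]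
  have hF : ∀ (r : R) (x : C ⊗[B] m) (a : A), F (r • x) a = F x (r • a) := fun r x a => by
    change ((1 : C) ⊗ₜ[R] a : T) • incl (r • x) = ((1 : C) ⊗ₜ[R] (r • a) : T) • incl x
    rw [← algebraMap_smul C r x, LinearMap.map_smul, ← algebraMap_smul T (algebraMap R C r) (incl x),
      smul_smul]
    congr 1
    rw [Algebra.TensorProduct.algebraMap_apply, Algebra.TensorProduct.tmul_mul_tmul, one_mul, mul_one,
      Algebra.algebraMap_self, RingHom.id_apply, Algebra.algebraMap_eq_smul_one,
      TensorProduct.smul_tmul]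
  let ν : (C ⊗[B] m) ⊗[R] A →+ T ⊗[B] m := TensorProduct.liftAddHom F hF
  obtain ⟨μ, hμt⟩ : ∃ f : T ⊗[B] m →ₗ[T] T, ∀ (t : T) (r : m), f (t ⊗ₜ r) = t * algebraMap B T r :=
    ⟨TensorProduct.AlgebraTensorModule.lift
      ((LinearMap.toSpanSingleton T (m →ₗ[B] T)) ((Algebra.linearMap B T) ∘ₗ m.subtype)), fun _ _ => rfl⟩
  have hμν : ∀ w, μ (ν w) = ψ w := fun w => by
    induction w using TensorProduct.induction_on with
    | zero => rw [map_zero, map_zero, map_zero]
    | add x y hx hy => rw [map_add, map_add, map_add, hx, hy]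
    | tmul z a =>
      change μ (((1 : C) ⊗ₜ[R] a : T) • incl z) = (μC z) ⊗ₜ[R] a
      rw [LinearMap.map_smul]
      induction z using TensorProduct.induction_on with
      | zero => simp
      | add u v hu hv => rw [map_add, map_add, smul_add, hu, hv, map_add, TensorProduct.add_tmul]
      | tmul c r =>
        rw [hincl, hμC]
        rw [smul_eq_mul, hμt]
        rw [IsScalarTower.algebraMap_apply B C T, ← map_mul, Algebra.TensorProduct.algebraMap_apply,
          Algebra.TensorProduct.tmul_mul_tmul, one_mul, mul_one, Algebra.algebraMap_self, RingHom.id_apply]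
  have hνsurj : ∀ z, ∃ w, ν w = z := fun z => by
    induction z using TensorProduct.induction_on with
    | zero => exact ⟨0, map_zero ν⟩
    | add x y hx hy =>
      obtain ⟨u, hu⟩ := hx
      obtain ⟨v, hv⟩ := hy
      exact ⟨u + v, by rw [map_add, hu, hv]⟩
    | tmul t r =>
      induction t using TensorProduct.induction_on with
      | zero => exact ⟨0, by rw [map_zero, TensorProduct.zero_tmul]⟩
      | add x y hx hy =>
        obtain ⟨u, hu⟩ := hx
        obtain ⟨v, hv⟩ := hy
        exact ⟨u + v, by rw [map_add, hu, hv, TensorProduct.add_tmul]⟩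
      | tmul c a =>
        refine ⟨(c ⊗ₜ r) ⊗ₜ a, ?_⟩
        change ((1 : C) ⊗ₜ[R] a : T) • incl (c ⊗ₜ r) = _
        rw [hincl, TensorProduct.smul_tmul', smul_eq_mul,
          Algebra.TensorProduct.algebraMap_apply, Algebra.TensorProduct.tmul_mul_tmul, one_mul, mul_one,
          Algebra.algebraMap_self, RingHom.id_apply]
  have hμ : (TensorProduct.rid B T).toLinearMap ∘ₗ m.subtype.lTensor T = μ.restrictScalars B :=
    TensorProduct.ext' fun t r => by
      change (r : B) • t = μ (t ⊗ₜ r)
      rw [hμt, Algebra.smul_def, mul_comm]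
  rw [injective_iff_map_eq_zero]
  intro z hz
  obtain ⟨w, rfl⟩ := hνsurj z
  have h1 : μ (ν w) = 0 := by
    rw [← LinearMap.restrictScalars_apply B, ← hμ, LinearMap.comp_apply, hz, map_zero]
  rw [hμν] at h1
  rw [(map_eq_zero_iff ψ hψ).1 h1, map_zero]

end Tor

end Groth.Agent.H48.CTensor
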