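import Groth.Agent.Lib.FSchInd28.Span
import Groth.Agent.Lib.QCoh.Localizing
import Groth.Agent.Lib.Modules.BasisHom
import Groth.Prelude.Def_Coh
import Mathlib.AlgebraicGeometry.Modules.Tilde
import Mathlib.Algebra.Category.ModuleCat.Sheaf.PullbackContinuous
import Mathlib.Algebra.Category.ModuleCat.Sheaf.Quasicoherent

/-!
# Pushing quasi-coherent modules along an affine map of underlying spaces (helper48)
-/

set_option autoImplicit false
set_option linter.style.haveILetI false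
universe u

open CategoryTheory CategoryTheory.Limits AlgebraicGeometry Opposite TopologicalSpace

namespace Groth.Agent.H48.CartPush

open Groth.Agent.Lib.QCoh.Localizing (res resR res_res resR_resR res_self resR_self res_smul localizes_of_isAffineOpen)
open Groth.Agent.Lib.Modules.TensorSec (section_ext)

variable {Tc U : Scheme.{u}} (g : Tc.carrier ⟶ U.carrier)

abbrev pre (W : U.Opens) : Tc.Opens := (Opens.map g).obj W

/-- `g` pulls affine opens back to affine opens and basic opens to basic opens. -/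
structure IsAffMap : Prop where
  aff : ∀ W : U.Opens, IsAffineOpen W → IsAffineOpen (X := Tc) (pre g W)
  bo : ∀ W : U.Opens, IsAffineOpen W → ∀ f : Γ(U, W), ∃ h : Γ(Tc, pre g W), Tc.basicOpen h = pre g (U.basicOpen f)

noncomputable abbrev Ring' := ((Opens.map g).sheafPushforwardContinuous RingCat.{u} (Opens.grothendieckTopology U)
    (Opens.grothendieckTopology Tc)).obj Tc.ringCatSheaf

noncomputable abbrev push : Tc.Modules ⥤ SheafOfModules.{u} (Ring' g) :=
  SheafOfModules.pushforward (F := Opens.map g) (R := Tc.ringCatSheaf) (𝟙 (Ring' g))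

variable {g} {M N : Tc.Modules}

/-- A morphism of pushforwards on sections, typed on `Tc`. -/
noncomputable def app' (ψ : (push g).obj M ⟶ (push g).obj N) (W : U.Opens) :
    Γ(M, pre g W) →ₗ[Γ(Tc, pre g W)] Γ(N, pre g W) :=
  (ψ.val.app (op W)).hom

lemma app'_res (ψ : (push g).obj M ⟶ (push g).obj N) {W W' : U.Opens} (hle : W' ≤ W) (t : Γ(M, pre g W)) :
    app' ψ W' (res M ((Opens.map g).map (homOfLE hle)).le t) =
      res N ((Opens.map g).map (homOfLE hle)).le (app' ψ W t) :=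
  PresheafOfModules.naturality_apply ψ.val (homOfLE hle).op t

lemma unit_basicOpen {W : Tc.Opens} (h : Γ(Tc, W)) (n : ℕ) :
    IsUnit (resR (Tc.basicOpen_le h) h ^ n) := (RingedSpace.isUnit_res_basicOpen _ h).pow n

/-- A section on a basic open is a multiple of a restricted section. -/
lemma exists_rep [M.IsQuasicoherent] {W : Tc.Opens} (hW : IsAffineOpen W) (h : Γ(Tc, W))
    {D : Tc.Opens} (e : D = Tc.basicOpen h) (hDW : D ≤ W) (m : Γ(M, D)) :
    ∃ (r : Γ(Tc, D)) (t : Γ(M, W)), m = r • res M hDW t := by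
  subst e
  obtain ⟨n, t, ht⟩ := (localizes_of_isAffineOpen M hW h).ext' m
  refine ⟨((unit_basicOpen h n).unit⁻¹ : (Γ(Tc, Tc.basicOpen h))ˣ), t, ?_⟩
  rw [ht, smul_smul, IsUnit.val_inv_mul, one_smul]

section

variable (hg : IsAffMap g)
include hg

theorem exists_nhd {x : Tc} {W : U.Opens} (hW : IsAffineOpen W) {Z : U.Opens} (hxW : g x ∈ W) (hxZ : g x ∈ Z) :
    ∃ (f : Γ(U, W)) (h : Γ(Tc, pre g W)), g x ∈ U.basicOpen f ∧ U.basicOpen f ≤ Z ∧
      Tc.basicOpen h = pre g (U.basicOpen f) := by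
  obtain ⟨f, hf, hxf⟩ := hW.exists_basicOpen_le ⟨g x, hxZ⟩ hxW
  obtain ⟨h, hh⟩ := hg.bo W hW f
  exact ⟨f, h, hxf, hf, hh⟩

variable [M.IsQuasicoherent]

theorem span_gen {W : U.Opens} (hW : IsAffineOpen W) (Z : U.Opens) (hZ : Z ≤ W)
    (s : Γ(M, pre g Z)) (x : Tc) (hx : g x ∈ Z) :
    ∃ (V : U.Opens) (hVZ : V ≤ Z) (_ : g x ∈ V) (r : Γ(Tc, pre g V)) (t : Γ(M, pre g W)),
      res M ((Opens.map g).map (homOfLE hVZ)).le s = r • res M ((Opens.map g).map (homOfLE (hVZ.trans hZ))).le t := by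
  obtain ⟨f, h, hxf, hfZ, hh⟩ := exists_nhd hg hW (hZ hx) hx
  exact ⟨U.basicOpen f, hfZ, hxf, exists_rep (hg.aff W hW) h hh.symm _ _⟩

theorem span_exact {W : U.Opens} (hW : IsAffineOpen W) (V : U.Opens) (f : Γ(U, W)) (hV : V = U.basicOpen f)
    (hVW : pre g V ≤ pre g W) (b : Γ(M, pre g W) →₀ Γ(Tc, pre g V))
    (hb : (b.sum fun t a => a • res M hVW t) = 0) :
    ∃ (r : Γ(M, pre g W) →₀ Γ(Tc, pre g W)) (c : Γ(Tc, pre g V)),
      (r.sum fun t a => a • t) = 0 ∧ ∀ t, b t = c * resR hVW (r t) := by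
  classical
  obtain ⟨h, hh⟩ := hg.bo W hW f
  rw [← hV] at hh
  have haff := hg.aff W hW
  letI : Algebra Γ(Tc, pre g W) Γ(Tc, pre g V) := (resR hVW).toAlgebra
  haveI : IsLocalization.Away h Γ(Tc, pre g V) :=
    haff.isLocalization_of_eq_basicOpen h (homOfLE hVW) hh.symm
  obtain ⟨⟨d, n, rfl⟩, hd⟩ := IsLocalization.exist_integer_multiples (Submonoid.powers h) b.support b
  choose a ha using hd
  let r₀ : Γ(M, pre g W) →₀ Γ(Tc, pre g W) :=
    Finsupp.onFinset b.support (fun t => if ht : t ∈ b.support then a t ht else 0)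
      (fun t ht => by by_contra h'; simp [h'] at ht)
  have hr₀ : ∀ t, resR hVW (r₀ t) = resR hVW (h ^ n) * b t := fun t => by
    by_cases ht : t ∈ b.support
    · simp only [r₀, Finsupp.onFinset_apply, dif_pos ht]
      exact (ha t ht).trans rfl
    · rw [Finsupp.notMem_support_iff.1 ht]
      simp [r₀, Finsupp.notMem_support_iff.1 ht]
  have hs : (r₀.sum fun t a => a • t) = ∑ t ∈ b.support, r₀ t • t :=
    Finsupp.sum_of_support_subset _ Finsupp.support_onFinset_subset _ (fun t _ => zero_smul _ t)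
  have h0 : res M hVW (r₀.sum fun t a => a • t) = 0 := by
    rw [hs, map_sum]
    simp only [res_smul, hr₀, mul_smul, ← Finset.smul_sum]
    rw [show (∑ t ∈ b.support, b t • res M hVW t) = 0 from hb, smul_zero]
  obtain ⟨k, hk⟩ := (localizes_of_isAffineOpen M haff h).sep.exists_of_eq hh.symm hVW _ h0
  have hu : IsUnit (resR hVW h) :=
    IsLocalization.map_units Γ(Tc, pre g V) (⟨h, 1, pow_one h⟩ : Submonoid.powers h)
  refine ⟨h ^ k • r₀, ((hu.pow (k + n)).unit⁻¹ : (Γ(Tc, pre g V))ˣ), ?_, fun t => ?_⟩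
  · rw [Finsupp.sum_smul_index (fun t => zero_smul _ t)]
    rw [← hk, Finsupp.smul_sum]
    simp only [mul_smul]
  · rw [Finsupp.smul_apply, smul_eq_mul, map_mul, hr₀, ← mul_assoc, ← mul_assoc, mul_assoc _ (resR hVW (h ^ k)),
      ← map_mul, ← pow_add, map_pow, IsUnit.val_inv_mul, one_mul]

theorem isQuasicoherent_push : ((push g).obj M).IsQuasicoherent := by
  classical
  refine Groth.Agent.Lib.FSchInd28.Span.isQuasicoherent_of_span _ fun y => ?_
  obtain ⟨_, ⟨W, hW, rfl⟩, hyW, -⟩ := U.isBasis_affineOpens.exists_subset_of_mem_open (Set.mem_univ y) isOpen_univ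
  refine ⟨W, hyW, Groth.Agent.Lib.FSchInd28.Span.nonempty_presentation _ ?_ ?_⟩
  · intro Z hZ s z hz
    obtain ⟨f, hf, hzf⟩ := hW.exists_basicOpen_le ⟨z, hz⟩ (hZ hz)
    obtain ⟨h, hh⟩ := hg.bo W hW f
    obtain ⟨r, t, e⟩ := exists_rep (hg.aff W hW) h hh.symm ((Opens.map g).map (homOfLE (hf.trans hZ))).le
      (res M ((Opens.map g).map (homOfLE hf)).le s)
    exact ⟨U.basicOpen f, hf, hzf, Finsupp.single t r,
      (Finsupp.linearCombination_single _ _ _).trans e.symm⟩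
  · intro Z hZ (b : Γ(M, pre g W) →₀ Γ(Tc, pre g Z))
      (hb : (b.sum fun t a => a • res M ((Opens.map g).map (homOfLE hZ)).le t) = 0) z hz
    obtain ⟨f, hf, hzf⟩ := hW.exists_basicOpen_le ⟨z, hz⟩ (hZ hz)
    let e₂ : pre g (U.basicOpen f) ≤ pre g W := ((Opens.map g).map (homOfLE (hf.trans hZ))).le
    let e₁ : pre g (U.basicOpen f) ≤ pre g Z := ((Opens.map g).map (homOfLE hf)).le
    obtain ⟨r, c, hr, hc⟩ := span_exact hg hW _ f rfl ((Opens.map g).map (homOfLE (hf.trans hZ))).le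
      (Finsupp.mapRange (resR e₁) (map_zero _) b) (M := M) (by
        refine (Finsupp.sum_mapRange_index (h := fun (t : Γ(M, pre g W)) (a : Γ(Tc, pre g (U.basicOpen f))) => a • res M e₂ t) fun t => zero_smul _ _).trans ?_
        have h1 := congrArg (res M e₁) hb
        rw [map_finsuppSum, map_zero] at h1
        refine Eq.trans ?_ h1
        exact Finsupp.sum_congr fun t _ => by rw [res_smul, res_res])
    refine ⟨U.basicOpen f, hf, hzf, Finsupp.single r c, fun r' hr' => ?_, ?_⟩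
    · rw [Finset.mem_singleton.1 (Finsupp.support_single_subset hr')]
      show (r.sum fun t a => a • res M (le_refl (pre g W)) t) = 0
      simp only [res_self]
      exact hr
    · refine Finsupp.ext fun (t : Γ(M, pre g W)) => ?_
      refine (hc t).trans ?_
      exact ((congrArg (fun F : Γ(M, pre g W) →₀ Γ(Tc, pre g (U.basicOpen f)) => F t)
        (Finsupp.sum_single_index (a := r) (b := c)
          (h := fun r' a => a • Finsupp.mapRange (resR e₂) (map_zero _) r') (zero_smul _ _))).trans rfl).symm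

theorem wd_local {W : U.Opens} (hW : IsAffineOpen W) (ψ : (push g).obj M ⟶ (push g).obj N)
    (h : Γ(Tc, pre g W)) {D : Tc.Opens} (hD : D = Tc.basicOpen h) (hDW : D ≤ pre g W)
    (r r' : Γ(Tc, D)) (t t' : Γ(M, pre g W)) (e : r • res M hDW t = r' • res M hDW t') :
    r • res N hDW (app' ψ W t) = r' • res N hDW (app' ψ W t') := by
  generalize app' ψ W = ψW
  have haff := hg.aff W hW
  letI : Algebra Γ(Tc, pre g W) Γ(Tc, D) := (resR hDW).toAlgebra
  haveI : IsLocalization.Away h Γ(Tc, D) := haff.isLocalization_of_eq_basicOpen h (homOfLE hDW) hD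
  have hu : ∀ n : ℕ, IsUnit (resR hDW (h ^ n)) := fun n =>
    IsLocalization.map_units Γ(Tc, D) (⟨h ^ n, n, rfl⟩ : Submonoid.powers h)
  obtain ⟨a, ⟨_, n, rfl⟩, ha⟩ := IsLocalization.exists_mk'_eq (Submonoid.powers h) r
  obtain ⟨a', ⟨_, n', rfl⟩, ha'⟩ := IsLocalization.exists_mk'_eq (Submonoid.powers h) r'
  rw [IsLocalization.mk'_eq_iff_eq_mul] at ha ha'
  have e1 : r * resR hDW (h ^ n) = resR hDW a := ha.symm
  have e2 : r' * resR hDW (h ^ n') = resR hDW a' := ha'.symm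
  have key : ∀ (P : Tc.Modules) (v v' : Γ(P, pre g W)),
      resR hDW (h ^ (n + n')) • (r • res P hDW v - r' • res P hDW v') =
        res P hDW ((a * h ^ n') • v - (a' * h ^ n) • v') := fun P v v' => by
    rw [map_sub, res_smul, res_smul, smul_sub, smul_smul, smul_smul, pow_add, map_mul, map_mul, map_mul, ← e1, ← e2]
    congr 2 <;> ring
  obtain ⟨k, hk⟩ := (localizes_of_isAffineOpen M haff h).sep.exists_of_eq hD hDW _
    ((key M t t').symm.trans (by rw [sub_eq_zero.2 e, smul_zero]))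
  have h2 := congrArg ψW hk
  rw [map_smul, map_zero, map_sub, map_smul, map_smul] at h2
  have h3 := congrArg (res N hDW) h2
  rw [res_smul, map_zero, ← key N (ψW t) (ψW t'), IsUnit.smul_eq_zero (hu k), IsUnit.smul_eq_zero (hu _)] at h3
  exact sub_eq_zero.1 h3

theorem exists_lift (ψ : (push g).obj M ⟶ (push g).obj N) : ∃ φ : M ⟶ N, (push g).map φ = ψ := by
  classical
  let P : Tc.affineOpens → Prop := fun D => ∃ (W : U.Opens) (_ : IsAffineOpen W) (h : Γ(Tc, pre g W)), D.1 = Tc.basicOpen h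
  have hP : ∀ {V : Tc.Opens} {x : Tc}, x ∈ V → ∃ D : Tc.affineOpens, P D ∧ D.1 ≤ V ∧ x ∈ D.1 := by
    intro V x hx
    obtain ⟨_, ⟨W, hW, rfl⟩, hxW, -⟩ := U.isBasis_affineOpens.exists_subset_of_mem_open (Set.mem_univ (g x)) isOpen_univ
    obtain ⟨h, hle, hxh⟩ := (hg.aff W hW).exists_basicOpen_le ⟨x, hx⟩ hxW
    exact ⟨⟨Tc.basicOpen h, (hg.aff W hW).basicOpen h⟩, ⟨W, hW, h, rfl⟩, hle, hxh⟩
  let Q : ∀ D : Tc.Opens, Γ(M, D) → Γ(N, D) → Prop := fun D m n => ∀ (W : U.Opens), IsAffineOpen W →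
    ∀ (hD : D ≤ pre g W) (r : Γ(Tc, D)) (t : Γ(M, pre g W)), m = r • res M hD t →
      n = r • res N hD (app' ψ W t)
  have hex : ∀ (D : Tc.affineOpens), P D → ∀ m, ∃ n, Q D.1 m n := by
    rintro ⟨D, hDa⟩ ⟨W₀, hW₀, h₀, rfl : D = _⟩ m
    obtain ⟨r₀, t₀, e₀⟩ := exists_rep (hg.aff W₀ hW₀) h₀ rfl (Tc.basicOpen_le h₀) m
    refine ⟨r₀ • res N (Tc.basicOpen_le h₀) (app' ψ W₀ t₀), fun W hW hD r t e => ?_⟩
    refine section_ext _ _ _ fun x hx => ?_
    obtain ⟨_, ⟨W₃, hW₃, rfl⟩, hx₃, hle⟩ := U.isBasis_affineOpens.exists_subset_of_mem_open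
      (a := g x) (u := ((W ⊓ W₀ : U.Opens) : Set U)) ⟨hD hx, Tc.basicOpen_le h₀ hx⟩ (W ⊓ W₀).isOpen
    obtain ⟨h₃, hle₃, hx₃'⟩ := (hg.aff W₃ hW₃).exists_basicOpen_le ⟨x, hx⟩ hx₃
    have l : W₃ ≤ W := fun y hy => (hle hy).1
    have l₀ : W₃ ≤ W₀ := fun y hy => (hle hy).2
    have key := wd_local hg hW₃ ψ h₃ rfl (Tc.basicOpen_le h₃) (resR hle₃ r₀) (resR hle₃ r)
      (res M ((Opens.map g).map (homOfLE l₀)).le t₀) (res M ((Opens.map g).map (homOfLE l)).le t) (by
        have := congrArg (res M hle₃) (e₀.symm.trans e)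
        simp only [res_smul, res_res] at this ⊢
        exact this)
    refine ⟨Tc.basicOpen h₃, hle₃, hx₃', ?_⟩
    show res N hle₃ _ = res N hle₃ _
    rw [app'_res ψ l₀, app'_res ψ l] at key
    simp only [res_smul, res_res] at key ⊢
    exact key
  have huniq : ∀ (D : Tc.affineOpens), P D → ∀ m n n', Q D.1 m n → Q D.1 m n' → n = n' := by
    rintro ⟨D, hDa⟩ ⟨W, hW, h, rfl : D = _⟩ m n n' hn hn'
    obtain ⟨r, t, e⟩ := exists_rep (hg.aff W hW) h rfl (Tc.basicOpen_le h) m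
    exact (hn W hW _ r t e).trans (hn' W hW _ r t e).symm
  choose φ₀ hφ₀ using hex
  let φ : ∀ D : Tc.affineOpens, P D → Γ(M, D.1) →ₗ[Γ(Tc, D.1)] Γ(N, D.1) := fun D hD =>
    { toFun := φ₀ D hD
      map_add' := fun m m' => by
        obtain ⟨W, hW, h, hh⟩ := hD
        have hDW : D.1 ≤ pre g W := hh.trans_le (Tc.basicOpen_le h)
        obtain ⟨n, t, ht⟩ := (localizes_of_isAffineOpen M (hg.aff W hW) h).ext'.exists_of_eq hh hDW m
        obtain ⟨n', t', ht'⟩ := (localizes_of_isAffineOpen M (hg.aff W hW) h).ext'.exists_of_eq hh hDW m'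
        letI : Algebra Γ(Tc, pre g W) Γ(Tc, D.1) := (resR hDW).toAlgebra
        haveI : IsLocalization.Away h Γ(Tc, D.1) := (hg.aff W hW).isLocalization_of_eq_basicOpen h (homOfLE hDW) hh
        have hu : IsUnit (resR hDW h) := IsLocalization.map_units Γ(Tc, D.1) (⟨h, 1, pow_one h⟩ : Submonoid.powers h)
        let v : Γ(Tc, D.1) := ((hu.pow (n + n')).unit⁻¹ : (Γ(Tc, D.1))ˣ)
        have hv : v * resR hDW h ^ (n + n') = 1 := IsUnit.val_inv_mul _
        have e : m = v • res M hDW (h ^ n' • t) := by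
          rw [res_smul, ht, smul_smul, smul_smul, map_pow, mul_assoc, ← pow_add, add_comm n', hv, one_smul]
        have e' : m' = v • res M hDW (h ^ n • t') := by
          rw [res_smul, ht', smul_smul, smul_smul, map_pow, mul_assoc, ← pow_add, hv, one_smul]
        have e'' : m + m' = v • res M hDW (h ^ n' • t + h ^ n • t') := by
          rw [map_add, smul_add, ← e, ← e']
        rw [hφ₀ D _ _ W hW hDW v _ e'', hφ₀ D _ _ W hW hDW v _ e, hφ₀ D _ _ W hW hDW v _ e', ← smul_add, ← map_add]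
        exact congrArg (fun y => v • res N hDW y) (map_add (app' ψ W) _ _)
      map_smul' := fun a m => by
        obtain ⟨W, hW, h, hh⟩ := hD
        obtain ⟨r, t, e⟩ := exists_rep (hg.aff W hW) h hh (hh.trans_le (Tc.basicOpen_le h)) m
        rw [RingHom.id_apply, hφ₀ D _ m W hW _ r t e, smul_smul]
        exact hφ₀ D _ _ W hW _ (a * r) t (by rw [e, smul_smul]) }
  obtain ⟨Φ, hΦ⟩ := Groth.Agent.Lib.Modules.BasisHom.exists_hom_of_basis hP φ (by
    intro D D' hD hD' hle m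
    obtain ⟨W, hW, h, hh⟩ := hD
    have hDW : D.1 ≤ pre g W := hh.trans_le (Tc.basicOpen_le h)
    obtain ⟨r, t, e⟩ := exists_rep (hg.aff W hW) h hh hDW m
    show res N hle (φ₀ D _ m) = φ₀ D' _ (res M hle m)
    rw [hφ₀ D _ m W hW hDW r t e, res_smul, res_res]
    exact (hφ₀ D' _ _ W hW (hle.trans hDW) _ t (by rw [e, res_smul, res_res])).symm)
  refine ⟨Φ, SheafOfModules.hom_ext (PresheafOfModules.hom_ext fun V => ?_)⟩
  ext m
  show Φ.app (pre g V.unop) m = ψ.val.app V m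
  refine section_ext _ _ _ fun x hx => ?_
  obtain ⟨_, ⟨W, hW, rfl⟩, hxW, hle⟩ := U.isBasis_affineOpens.exists_subset_of_mem_open
    (a := g x) (u := (V.unop : Set U)) hx V.unop.isOpen
  obtain ⟨h, hh, hxh⟩ := (hg.aff W hW).exists_basicOpen_le (V := pre g W) ⟨x, hxW⟩ hxW
  have hWV : W ≤ V.unop := hle
  have hDV : Tc.basicOpen h ≤ pre g V.unop := (Tc.basicOpen_le h).trans ((Opens.map g).map (homOfLE hWV)).le
  refine ⟨Tc.basicOpen h, hDV, hxh, ?_⟩
  show res N hDV (Φ.app (pre g V.unop) m) = res N hDV (ψ.val.app V m)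
  rw [Groth.Agent.Lib.QCoh.Localizing.res_app Φ hDV m, hΦ ⟨Tc.basicOpen h, (hg.aff W hW).basicOpen h⟩ ⟨W, hW, h, rfl⟩]
  refine (hφ₀ _ _ _ W hW (Tc.basicOpen_le h) 1 (res M ((Opens.map g).map (homOfLE hWV)).le m)
    ((one_smul _ _).trans (res_res _ _ _)).symm).trans ?_
  rw [one_smul]
  exact (congrArg (res N (Tc.basicOpen_le h)) (app'_res ψ hWV m)).trans (res_res _ _ _)

omit [M.IsQuasicoherent] in
theorem push_map_inj [M.IsQuasicoherent] (φ φ' : M ⟶ N) (e : (push g).map φ = (push g).map φ') : φ = φ' := by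
  refine Scheme.Modules.hom_ext _ _ fun V => ?_
  ext m
  refine section_ext _ _ _ fun x hx => ?_
  obtain ⟨_, ⟨W, hW, rfl⟩, hxW, -⟩ := U.isBasis_affineOpens.exists_subset_of_mem_open (Set.mem_univ (g x)) isOpen_univ
  obtain ⟨h, hle, hxh⟩ := (hg.aff W hW).exists_basicOpen_le ⟨x, hx⟩ hxW
  obtain ⟨r, t, et⟩ := exists_rep (hg.aff W hW) h rfl (Tc.basicOpen_le h) (res M hle m)
  have eW : φ.app (pre g W) t = φ'.app (pre g W) t :=
    congrArg (fun a : (push g).obj M ⟶ (push g).obj N => a.val.app (op W) t) e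
  refine ⟨Tc.basicOpen h, hle, hxh, ?_⟩
  show res N hle (φ.app V m) = res N hle (φ'.app V m)
  have hsm : ∀ a : M ⟶ N, a.app (Tc.basicOpen h) (r • res M (Tc.basicOpen_le h) t) =
      r • res N (Tc.basicOpen_le h) (a.app (pre g W) t) := fun a => by
    rw [Groth.Agent.Lib.QCoh.Localizing.res_app a]
    exact (a.val.app (op (Tc.basicOpen h))).hom.map_smul r _
  rw [Groth.Agent.Lib.QCoh.Localizing.res_app φ, Groth.Agent.Lib.QCoh.Localizing.res_app φ', et, hsm, hsm, eW]

theorem isIso_counit {L : SheafOfModules.{u} (Ring' g) ⥤ Tc.Modules} (adj : L ⊣ push g) :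
    IsIso (adj.counit.app M) := by
  rw [isIso_iff_coyoneda_map_bijective]
  intro N
  have he : ∀ a : M ⟶ N, adj.homEquiv _ _ (adj.counit.app M ≫ a) = (push g).map a := fun a => by
    rw [Adjunction.homEquiv_unit, Functor.map_comp, adj.right_triangle_components_assoc]
  constructor
  · intro a b hab
    exact push_map_inj hg (M := M) a b (by rw [← he, ← he]; exact congrArg _ hab)
  · intro c
    obtain ⟨a, ha⟩ := exists_lift hg (M := M) (adj.homEquiv _ _ c)
    exact ⟨a, (adj.homEquiv _ _).injective ((he a).trans ha)⟩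

end

end Groth.Agent.H48.CartPush
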