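import Groth.Agent.H48.DomTower
import Mathlib.RingTheory.Flat.TorsionFree
import Mathlib.RingTheory.Flat.FaithfullyFlat.Algebra
import Mathlib.RingTheory.Ideal.MinimalPrime.Localization

set_option autoImplicit false
set_option linter.style.haveILetI false
universe u
open EtRam IsLocalRing TensorProduct

namespace Groth.Agent.H48.Compositum

theorem valuation_eq_comap_of_center {M' M : Type u} [Field M'] [Field M] (W : ValuationSubring M)
    (W' : ValuationSubring M') (g : M →+* M') (h1 : ∀ w : W, g w ∈ W')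
    (h2 : ∀ w : W, w ∈ maximalIdeal W → W'.valuation (g w) < 1) : W'.comap g = W := by
  refine le_antisymm (fun x hx => ?_) fun x hx => h1 ⟨x, hx⟩
  by_contra hxW
  have hi := (W.mem_or_inv_mem x).resolve_left hxW
  have hx0 : x ≠ 0 := fun h => hxW (h ▸ zero_mem W)
  have hm : (⟨x⁻¹, hi⟩ : W) ∈ maximalIdeal W := (mem_maximalIdeal _).2 fun hu => by
    obtain ⟨⟨y, hy⟩, hy1⟩ := hu.exists_right_inv
    have h : x⁻¹ * y = 1 := congrArg Subtype.val hy1
    exact hxW (by rwa [inv_mul_eq_one₀ hx0 |>.1 h])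
  have hlt : W'.valuation (g x⁻¹) < 1 := h2 _ hm
  have hle : W'.valuation (g x) ≤ 1 := (ValuationSubring.valuation_le_one_iff _ _).2 hx
  have : (1 : _) = W'.valuation (g x) * W'.valuation (g x⁻¹) := by
    rw [← map_mul, ← map_mul, mul_inv_cancel₀ hx0, map_one, map_one]
  exact absurd this.symm (ne_of_lt (lt_of_le_of_lt (mul_le_of_le_one_left' hle) hlt))

/-- A field of fractions of `T ⧸ Q0` with a valuation subring centred at `Q`. -/
theorem center_field {T : Type u} [CommRing T] (Q0 Q : Ideal T) [Q0.IsPrime] [Q.IsPrime] (hle : Q0 ≤ Q) :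
    ∃ (M' : Type u) (_ : Field M') (q : T →+* M') (W' : ValuationSubring M'), RingHom.ker q = Q0 ∧
      (∀ t, q t ∈ W') ∧ (∀ t ∈ Q, W'.valuation (q t) < 1) ∧ ∀ z, ∃ a b, z = q a / q b := by
  classical
  let q : T →+* FractionRing (T ⧸ Q0) := (algebraMap (T ⧸ Q0) _).comp (Ideal.Quotient.mk Q0)
  let Qb : Ideal (T ⧸ Q0) := Q.map (Ideal.Quotient.mk Q0)
  haveI : Qb.IsPrime := Ideal.map_isPrime_of_surjective Ideal.Quotient.mk_surjective (by rwa [Ideal.mk_ker])
  let j : Localization.AtPrime Qb →+* FractionRing (T ⧸ Q0) :=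
    IsLocalization.lift (M := Qb.primeCompl) (g := algebraMap (T ⧸ Q0) (FractionRing (T ⧸ Q0))) fun d =>
      IsUnit.mk0 _ fun h0 => d.2 (by
        rw [(map_eq_zero_iff _ (IsFractionRing.injective (T ⧸ Q0) (FractionRing (T ⧸ Q0)))).1 h0]
        exact Qb.zero_mem)
  have hj : ∀ d, j (algebraMap _ _ d) = algebraMap (T ⧸ Q0) _ d := fun d => IsLocalization.lift_eq _ d
  have hjinj : Function.Injective j := (IsLocalization.lift_injective_iff _).2 fun x y =>
    ⟨fun h => congrArg _ (IsLocalization.injective (Localization.AtPrime Qb) Qb.primeCompl_le_nonZeroDivisors h),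
      fun h => congrArg _ (IsFractionRing.injective (T ⧸ Q0) (FractionRing (T ⧸ Q0)) h)⟩
  obtain ⟨W', hW'⟩ := (LocalSubring.range j).exists_le_valuationSubring
  have hmem : ∀ t, q t ∈ W' := fun t => hW'.1 ⟨algebraMap _ _ (Ideal.Quotient.mk Q0 t), hj _⟩
  refine ⟨FractionRing (T ⧸ Q0), inferInstance, q, W', ?_, hmem, fun t ht => ?_, fun z => ?_⟩
  · ext t
    show algebraMap (T ⧸ Q0) _ (Ideal.Quotient.mk Q0 t) = 0 ↔ _
    rw [map_eq_zero_iff _ (IsFractionRing.injective (T ⧸ Q0) _), Ideal.Quotient.eq_zero_iff_mem]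
  · refine (ValuationSubring.valuation_lt_one_iff W' ⟨q t, hmem t⟩).1 ((mem_maximalIdeal _).2 fun hu => ?_)
    obtain ⟨⟨_, s, rfl⟩, hs⟩ :=
      (hW'.2.1 ⟨q t, algebraMap _ _ (Ideal.Quotient.mk Q0 t), hj _⟩ hu).exists_right_inv
    have h1 : algebraMap _ (Localization.AtPrime Qb) (Ideal.Quotient.mk Q0 t) * s = 1 :=
      hjinj (by rw [map_mul, hj, map_one]; exact congrArg Subtype.val hs)
    exact (mem_maximalIdeal _).1 ((IsLocalization.AtPrime.to_map_mem_maximal_iff (Localization.AtPrime Qb) Qb _).2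
      (Ideal.mem_map_of_mem _ ht)) (IsUnit.of_mul_eq_one s h1)
  · obtain ⟨a, b, -, rfl⟩ := IsFractionRing.div_surjective (T ⧸ Q0) z
    obtain ⟨a, rfl⟩ := Ideal.Quotient.mk_surjective a
    obtain ⟨b, rfl⟩ := Ideal.Quotient.mk_surjective b
    exact ⟨a, b, rfl⟩

/-- A valuation subring dominating the DVR `B` and a DVR extension `C` of `B` are dominated by a valuation subring
of a common field generated by both. -/
theorem exists_compositum (B C L M₀ M : Type u) [CommRing B] [IsDomain B] [IsDiscreteValuationRing B]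
    [CommRing C] [IsDomain C] [IsDiscreteValuationRing C] [Algebra B C] [IsLocalHom (algebraMap B C)]
    (hinj : Function.Injective (algebraMap B C))
    [Field L] [Field M₀] [Field M] [Algebra B L] [IsFractionRing B L] [Algebra C M₀] [IsFractionRing C M₀]
    [Algebra L M₀] [Algebra L M] (hcomp : ∀ b, algebraMap L M₀ (algebraMap B L b) = algebraMap C M₀ (algebraMap B C b))
    (W : ValuationSubring M) (hW : Dominates B ((algebraMap L M).comp (algebraMap B L)) W) :
    ∃ (M' : Type u) (_ : Field M') (g : M →+* M') (g₀ : M₀ →+* M') (W' : ValuationSubring M'),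
      g.comp (algebraMap L M) = g₀.comp (algebraMap L M₀) ∧ W'.comap g = W ∧
      Dominates C (g₀.comp (algebraMap C M₀)) W' ∧
      ∀ S : Subfield M', g.fieldRange ≤ S → g₀.fieldRange ≤ S → S = ⊤ := by
  classical
  letI : Algebra B W := (RingHom.codRestrict _ W hW.1).toAlgebra
  haveI : IsLocalHom (algebraMap B W) := DomVal.isLocalHom_of_dominates hW
  have hBW : Function.Injective (algebraMap B W) := fun a b h =>
    IsFractionRing.injective B L ((algebraMap L M).injective (congrArg Subtype.val h))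
  haveI : Module.IsTorsionFree B W := Module.isTorsionFree_iff_algebraMap_injective.2 hBW
  haveI : Module.IsTorsionFree B C := Module.isTorsionFree_iff_algebraMap_injective.2 hinj
  haveI : Module.Flat B W := inferInstance
  haveI : Module.Flat B C := inferInstance
  haveI : Module.FaithfullyFlat B C := Module.FaithfullyFlat.of_flat_of_isLocalHom
  haveI : Module.FaithfullyFlat W (W ⊗[B] C) := inferInstance
  obtain ⟨Q, hQp, hQ⟩ := Ideal.exists_isPrime_liesOver_of_faithfullyFlat (B := W ⊗[B] C) (maximalIdeal W)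
  let iW : W →+* (W ⊗[B] C) := algebraMap W (W ⊗[B] C)
  let iC : C →+* (W ⊗[B] C) := (Algebra.TensorProduct.includeRight : C →ₐ[B] (W ⊗[B] C)).toRingHom
  have hQC : Q.comap iC = maximalIdeal C := by
    obtain ⟨ϖ, hϖ⟩ := IsDiscreteValuationRing.exists_irreducible B
    refine (IsLocalRing.eq_maximalIdeal ?_)
    refine (Ideal.IsPrime.comap iC).isMaximal ((Submodule.ne_bot_iff _).2
      ⟨algebraMap B C ϖ, ?_, fun h0 => hϖ.ne_zero ((map_eq_zero_iff _ hinj).1 h0)⟩)
    rw [Ideal.mem_comap, show iC (algebraMap B C ϖ) = iW (algebraMap B W ϖ) by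
      show Algebra.TensorProduct.includeRight (algebraMap B C ϖ) = algebraMap W (W ⊗[B] C) (algebraMap B W ϖ)
      rw [AlgHom.commutes, ← IsScalarTower.algebraMap_apply]]
    exact (Ideal.mem_of_liesOver Q (maximalIdeal W) _).1 (map_nonunit (algebraMap B W) _ hϖ.not_isUnit)
  obtain ⟨Q0, hQ0, hle⟩ := Ideal.exists_minimalPrimes_le (I := (⊥ : Ideal (W ⊗[B] C))) (J := Q) bot_le
  haveI : Q0.IsPrime := hQ0.1.1
  have hdisj := Ideal.disjoint_nonZeroDivisors_of_mem_minimalPrimes (p := Q0) hQ0
  have hnzW : ∀ w : W, w ≠ 0 → iW w ∈ nonZeroDivisors (W ⊗[B] C) := fun w hw => by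
    have hinjw : Function.Injective (LinearMap.rTensor C (LinearMap.mulLeft B w)) :=
      Module.Flat.rTensor_preserves_injective_linearMap _ (mul_right_injective₀ hw)
    have heq : ∀ t : (W ⊗[B] C), iW w * t = LinearMap.rTensor C (LinearMap.mulLeft B w) t := fun t => by
      induction t using TensorProduct.induction_on with
      | zero => rw [mul_zero, map_zero]
      | tmul x y =>
        show (w ⊗ₜ[B] (1 : C)) * (x ⊗ₜ[B] y) = _
        rw [Algebra.TensorProduct.tmul_mul_tmul, one_mul]; rfl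
      | add x y hx hy => rw [mul_add, hx, hy, map_add]
    exact mem_nonZeroDivisors_iff_right.2 fun t ht => hinjw (by rw [← heq, map_zero, mul_comm]; exact ht)
  have hnzC : ∀ c : C, c ≠ 0 → iC c ∈ nonZeroDivisors (W ⊗[B] C) := fun c hc => by
    have hinjc : Function.Injective (LinearMap.lTensor W (LinearMap.mulLeft B c)) :=
      Module.Flat.lTensor_preserves_injective_linearMap _ (mul_right_injective₀ hc)
    have heq : ∀ t : (W ⊗[B] C), iC c * t = LinearMap.lTensor W (LinearMap.mulLeft B c) t := fun t => by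
      induction t using TensorProduct.induction_on with
      | zero => rw [mul_zero, map_zero]
      | tmul x y =>
        show ((1 : W) ⊗ₜ[B] c) * (x ⊗ₜ[B] y) = _
        rw [Algebra.TensorProduct.tmul_mul_tmul, one_mul]; rfl
      | add x y hx hy => rw [mul_add, hx, hy, map_add]
    exact mem_nonZeroDivisors_iff_right.2 fun t ht => hinjc (by rw [← heq, map_zero, mul_comm]; exact ht)
  obtain ⟨M', _, q, W', hkerq, hmem, hlt, hdiv⟩ := center_field Q0 Q hle
  have hq : ∀ t, q t = 0 ↔ t ∈ Q0 := fun t => by rw [← hkerq, RingHom.mem_ker]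
  have hW0 : Function.Injective (q.comp iW) := (injective_iff_map_eq_zero _).2 fun w hw => by
    by_contra hne
    exact Set.disjoint_left.1 hdisj ((hq _).1 hw) (hnzW w hne)
  have hC0 : Function.Injective (q.comp iC) := (injective_iff_map_eq_zero _).2 fun c hc => by
    by_contra hne
    exact Set.disjoint_left.1 hdisj ((hq _).1 hc) (hnzC c hne)
  let g : M →+* M' := IsFractionRing.lift (A := W) (K := M) hW0
  let g₀ : M₀ →+* M' := IsFractionRing.lift (A := C) (K := M₀) hC0
  have hg : ∀ w : W, g w = q (iW w) := fun w => IsFractionRing.lift_algebraMap hW0 w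
  have hg₀ : ∀ c : C, g₀ (algebraMap C M₀ c) = q (iC c) := fun c => IsFractionRing.lift_algebraMap hC0 c
  refine ⟨M', inferInstance, g, g₀, W', ?_, ?_, ?_, ?_⟩
  · refine IsLocalization.ringHom_ext (nonZeroDivisors B) (RingHom.ext fun b => ?_)
    show g ((algebraMap L M) (algebraMap B L b)) = g₀ (algebraMap L M₀ (algebraMap B L b))
    rw [hcomp, hg₀, show algebraMap L M (algebraMap B L b) = ((algebraMap B W b : W) : M) from rfl, hg]
    congr 1
    show algebraMap W (W ⊗[B] C) (algebraMap B W b) = Algebra.TensorProduct.includeRight (algebraMap B C b)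
    rw [AlgHom.commutes, ← IsScalarTower.algebraMap_apply]
  · refine valuation_eq_comap_of_center W W' g (fun w => by rw [hg]; exact hmem _) fun w hw => ?_
    rw [hg]
    exact hlt _ ((Ideal.mem_of_liesOver Q (maximalIdeal W) w).1 hw)
  · refine ⟨fun c => ?_, fun c hc => ?_⟩
    · show g₀ _ ∈ W'; rw [hg₀]; exact hmem _
    · show W'.valuation (g₀ _) < 1
      rw [hg₀]; exact hlt _ (hQC.symm.le hc : c ∈ Q.comap iC)
  · intro S hS hS₀
    have hT : ∀ t : (W ⊗[B] C), q t ∈ S := fun t => by
      induction t using TensorProduct.induction_on with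
      | zero => rw [map_zero]; exact zero_mem _
      | tmul x y =>
        rw [show (x ⊗ₜ[B] y : (W ⊗[B] C)) = iW x * iC y by simp [iW, iC, Algebra.TensorProduct.algebraMap_apply],
          map_mul, ← hg, ← hg₀]
        exact mul_mem (hS ⟨_, rfl⟩) (hS₀ ⟨_, rfl⟩)
      | add x y hx hy => rw [map_add]; exact add_mem hx hy
    refine eq_top_iff.2 fun z _ => ?_
    obtain ⟨a, b, rfl⟩ := hdiv z
    exact div_mem (hT a) (hT b)

end Groth.Agent.H48.Compositum
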