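import Mathlib.NumberTheory.RamificationInertia.Ramification
import Mathlib.RingTheory.DiscreteValuationRing.Basic
import Mathlib.RingTheory.LocalRing.ResidueField.Basic

set_option autoImplicit false
namespace Groth.Agent.H48.DVRExt

variable {A B : Type*} [CommRing A] [IsDomain A] [IsDiscreteValuationRing A] [CommRing B] [IsDomain B]
  [IsDiscreteValuationRing B] [Algebra A B]

theorem exists_unit_mul_pow (hinj : Function.Injective (algebraMap A B))
    [IsLocalHom (algebraMap A B)] {a : A} (ha : Irreducible a) {b : B} (hb : Irreducible b) :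
    Ideal.ramificationIdx' (IsLocalRing.maximalIdeal A) (IsLocalRing.maximalIdeal B) ≠ 0 ∧
    ∃ u : Bˣ, algebraMap A B a =
      u * b ^ Ideal.ramificationIdx' (IsLocalRing.maximalIdeal A) (IsLocalRing.maximalIdeal B) := by
  have h0 : algebraMap A B a ≠ 0 := (map_ne_zero_iff _ hinj).2 ha.ne_zero
  obtain ⟨n, u, hn⟩ := IsDiscreteValuationRing.eq_unit_mul_pow_irreducible h0 hb
  have he : Ideal.ramificationIdx' (IsLocalRing.maximalIdeal A) (IsLocalRing.maximalIdeal B) = n := by
    rw [ha.maximalIdeal_eq, hb.maximalIdeal_eq]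
    refine Ideal.ramificationIdx'_spec ?_ ?_
    · rw [Ideal.map_span, Set.image_singleton, Ideal.span_singleton_pow,
        Ideal.span_singleton_le_span_singleton, hn]
      exact dvd_mul_left _ _
    · rw [Ideal.map_span, Set.image_singleton, Ideal.span_singleton_pow,
        Ideal.span_singleton_le_span_singleton, hn, Units.dvd_mul_left,
        pow_dvd_pow_iff hb.ne_zero hb.not_isUnit]
      omega
  rw [he]
  refine ⟨?_, u, hn⟩
  rintro rfl
  apply ha.not_isUnit
  apply IsUnit.of_map (algebraMap A B)
  rw [hn, pow_zero, mul_one]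
  exact u.isUnit

end Groth.Agent.H48.DVRExt
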