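import Groth.Agent.H48.EppInsep
import Mathlib.Algebra.Polynomial.Div

/-!
Deforming a purely inseparable root `α ^ p = a` into a root `z ^ p = a + π ^ N z`: the valuation ring of the
former is carried to that of the latter.
-/

set_option autoImplicit false
set_option linter.style.haveILetI false
universe u v
open IsLocalRing
open Polynomial (X C aeval natDegree_X_pow_sub_C natDegree_modByMonic_lt natDegree_one modByMonic_add_div aeval_eq_sum_range' natDegree_map_le monic_X_pow_sub_C monic_X_pow_sub degree_linear_le natDegree_eq_of_degree_eq_some degree_sub_eq_left_of_degree_lt degree_X_pow coeff_map aeval_X)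
open scoped Polynomial

namespace Groth.Agent.H48.Deform

variable {F F' : Type*} [Field F] [CommRing F'] [Algebra F F']

/-- Evaluation of a coordinate vector at an element. -/
def ev (z : F') {p : ℕ} (g : Fin p → F) : F' := ∑ i, algebraMap F F' (g i) * z ^ (i : ℕ)

theorem ev_add (z : F') {p : ℕ} (g h : Fin p → F) : ev z (g + h) = ev z g + ev z h := by
  simp [ev, add_mul, Finset.sum_add_distrib]

theorem ev_smul (z : F') {p : ℕ} (c : F) (g : Fin p → F) : ev z (c • g) = algebraMap F F' c * ev z g := by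
  simp [ev, Finset.mul_sum, mul_assoc]

theorem ev_single (z : F') {p : ℕ} (hp : 0 < p) (c : F) :
    ev z (Pi.single (⟨0, hp⟩ : Fin p) c) = algebraMap F F' c := by
  rw [ev, Finset.sum_eq_single (⟨0, hp⟩ : Fin p)]
  · simp
  · intro i _ hi; simp [Pi.single_eq_of_ne hi]
  · simp

theorem ev_zero (z : F') {p : ℕ} : ev z (0 : Fin p → F) = 0 := by simp [ev]

theorem aeval_sum (z : F') {p : ℕ} (g : Fin p → F) :
    aeval z (∑ i : Fin p, C (g i) * X ^ (i : ℕ)) = ev z g := by simp [ev]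

/-- Every element of the algebra generated by a root of a monic polynomial of degree `p` has coordinates. -/
theorem ev_surjective (z : F') {p : ℕ} (f : F[X]) (hf : f.Monic) (hd : f.natDegree = p) (hz : aeval z f = 0)
    (hp : 0 < p) (hgen : Algebra.adjoin F {z} = ⊤) : Function.Surjective (ev (F := F) (p := p) z) := by
  intro y
  obtain ⟨P, rfl⟩ : ∃ P : F[X], aeval z P = y :=
    (show y ∈ (aeval (R := F) z).range by rw [← Algebra.adjoin_singleton_eq_range_aeval, hgen]; trivial)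
  refine ⟨fun i => (P %ₘ f).coeff i, ?_⟩
  conv_rhs => rw [← modByMonic_add_div P (q := f), map_add, map_mul, hz, zero_mul, add_zero]
  have hlt : (P %ₘ f).natDegree < p := hd ▸ natDegree_modByMonic_lt P hf (fun h => by rw [h, natDegree_one] at hd; omega)
  rw [aeval_eq_sum_range' hlt, ev, Finset.sum_range]
  exact Finset.sum_congr rfl fun i _ => by rw [Algebra.smul_def]

variable {p : ℕ} (R : ValuationSubring F)

/-- Reduction of an integral polynomial to integral coordinates. -/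
theorem exists_coord {z : F'} (f : R[X]) (hf : f.Monic) (hd : f.natDegree = p) (hp : 0 < p)
    (hz : aeval z (f.map R.subtype) = 0) (P : R[X]) :
    ∃ u : Fin p → R, aeval z (P.map R.subtype) = ev z (fun i => (u i : F)) := by
  refine ⟨fun i => (P %ₘ f).coeff i, ?_⟩
  conv_lhs => rw [← modByMonic_add_div P (q := f), Polynomial.map_add, Polynomial.map_mul, map_add, map_mul, hz,
    zero_mul, add_zero]
  have hlt : ((P %ₘ f).map R.subtype).natDegree < p := natDegree_map_le.trans_lt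
    (hd ▸ natDegree_modByMonic_lt P hf (fun h => by rw [h, natDegree_one] at hd; omega))
  rw [aeval_eq_sum_range' hlt, ev, Finset.sum_range]
  exact Finset.sum_congr rfl fun i _ => by rw [Algebra.smul_def, coeff_map]; rfl

variable {F₂ F₃ : Type*} [Field F₂] [Field F₃] [Algebra F F₂] [Algebra F F₃]

/-- Deformation of the valuation ring of a purely inseparable root. -/
theorem deform (π a : F) (hp : 2 ≤ p) (hπR : π ∈ R) (haR : a ∈ R) (hπ0 : π ≠ 0)
    {α : F₂} (hα : α ^ p = algebraMap F F₂ a) (hφ : Function.Bijective (ev (F := F) (p := p) α))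
    (V₂ : ValuationSubring F₂) [IsDiscreteValuationRing V₂] (hRV : ∀ r ∈ R, algebraMap F F₂ r ∈ V₂)
    (hπV : V₂.valuation (algebraMap F F₂ π) < 1) {c N : ℕ}
    (hbd : ∀ g : Fin p → F, ev α g ∈ V₂ → ∀ i, π ^ c * g i ∈ R) (hN : 2 * c + 2 ≤ N)
    {z : F₃} (hz : z ^ p = algebraMap F F₃ a + algebraMap F F₃ π ^ N * z)
    (hgen : Algebra.adjoin F {z} = ⊤)
    (W : ValuationSubring F₃) [IsDiscreteValuationRing W] (hRW : ∀ r ∈ R, algebraMap F F₃ r ∈ W)
    (hπW : W.valuation (algebraMap F F₃ π) < 1) :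
    Function.Injective (ev (F := F) (p := p) z) ∧
    ∃ χ : V₂ →+* ResidueField W, RingHom.ker χ = maximalIdeal V₂ ∧ Function.Surjective χ ∧
      (∀ (r : F) (hr : r ∈ R), χ ⟨_, hRV r hr⟩ = residue W ⟨_, hRW r hr⟩) ∧
      (∀ (g : Fin p → F) (hg : ev α g ∈ V₂), ∃ h : ev z g ∈ W, χ ⟨_, hg⟩ = residue W ⟨_, h⟩) ∧
      ∀ (g : Fin p → F) (hg : ev α g ∈ V₂) (h : ev z g ∈ W),
        Irreducible (⟨_, hg⟩ : V₂) → Irreducible (⟨_, h⟩ : W) := by
  classical
  set P : F₃ := algebraMap F F₃ π with hPdef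
  have hP0 : P ≠ 0 := (map_ne_zero _).2 hπ0
  have hp0 : 0 < p := by omega
  let f2 : R[X] := X ^ p - C (⟨a, haR⟩ : R)
  let f3 : R[X] := X ^ p - (C ((⟨π, hπR⟩ : R) ^ N) * X + C (⟨a, haR⟩ : R))
  have hdeg3 : Polynomial.degree (C ((⟨π, hπR⟩ : R) ^ N) * X + C (⟨a, haR⟩ : R)) < (p : WithBot ℕ) :=
    (degree_linear_le).trans_lt (by exact_mod_cast hp)
  have hf2 : f2.Monic := monic_X_pow_sub_C _ hp0.ne'
  have hf3 : f3.Monic := monic_X_pow_sub hdeg3
  have hd2 : f2.natDegree = p := natDegree_X_pow_sub_C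
  have hd3 : f3.natDegree = p := natDegree_eq_of_degree_eq_some (by
    rw [degree_sub_eq_left_of_degree_lt (by rw [degree_X_pow]; exact hdeg3), degree_X_pow])
  have hα2 : aeval α (f2.map R.subtype) = 0 := by simp [f2, hα]
  have hz3 : aeval z (f3.map R.subtype) = 0 := by simp [f3, hz, hPdef]; ring
  have hzsurj : Function.Surjective (ev (F := F) (p := p) z) :=
    ev_surjective z (f3.map R.subtype) (hf3.map _) (by rw [hf3.natDegree_map, hd3]) hz3 hp0 hgen
  -- integrality of the root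
  have hzW : z ∈ W := by
    rcases W.mem_or_inv_mem z with h | h
    · exact h
    · by_cases h0 : z = 0
      · rw [h0]; exact zero_mem W
      · have e : z = algebraMap F F₃ a * z⁻¹ ^ (p - 1) + P ^ N * z⁻¹ ^ (p - 2) := by
          obtain ⟨q, rfl⟩ : ∃ q, p = q + 2 := ⟨p - 2, by omega⟩
          rw [show q + 2 - 1 = q + 1 by omega, Nat.add_sub_cancel]
          have h1 : z ^ (q + 1) * z⁻¹ ^ (q + 1) = 1 := by rw [← mul_pow, mul_inv_cancel₀ h0, one_pow]
          linear_combination z⁻¹ ^ (q + 1) * hz - z * h1 + P ^ N * z⁻¹ ^ q * mul_inv_cancel₀ h0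
        rw [e]
        exact add_mem (mul_mem (hRW a haR) (pow_mem h _)) (mul_mem (pow_mem (hRW π hπR) _) (pow_mem h _))
  have hvec : ∀ u : Fin p → F, (∀ i, u i ∈ R) → ev z u ∈ W := fun u hu =>
    sum_mem fun i _ => mul_mem (hRW _ (hu i)) (pow_mem hzW _)
  have hαV : α ∈ V₂ := EppInsep.mem_of_pow_mem V₂ hp0 (by rw [hα]; exact hRV a haR)
  have hvec2 : ∀ u : Fin p → F, (∀ i, u i ∈ R) → ev α u ∈ V₂ := fun u hu =>
    sum_mem fun i _ => mul_mem (hRV _ (hu i)) (pow_mem hαV _)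
  -- the product rule
  have hmul : ∀ g h r : Fin p → F, ev α g ∈ V₂ → ev α h ∈ V₂ → ev α r = ev α g * ev α h →
      ∃ q : Fin p → F, (∀ i, q i ∈ R) ∧ ev z g * ev z h = ev z r + P ^ (N - 2 * c) * ev z q := by
    intro g h r hg hh hr
    let G : R[X] := ∑ i : Fin p, C (⟨_, hbd g hg i⟩ : R) * X ^ (i : ℕ)
    let H : R[X] := ∑ i : Fin p, C (⟨_, hbd h hh i⟩ : R) * X ^ (i : ℕ)
    have hG2 : aeval α (G.map R.subtype) = algebraMap F F₂ π ^ c * ev α g := by
      simp [G, ev, Polynomial.map_sum, Finset.mul_sum, mul_assoc]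
    have hG3 : aeval z (G.map R.subtype) = P ^ c * ev z g := by
      simp [G, P, ev, Polynomial.map_sum, Finset.mul_sum, mul_assoc]
    have hH2 : aeval α (H.map R.subtype) = algebraMap F F₂ π ^ c * ev α h := by
      simp [H, ev, Polynomial.map_sum, Finset.mul_sum, mul_assoc]
    have hH3 : aeval z (H.map R.subtype) = P ^ c * ev z h := by
      simp [H, P, ev, Polynomial.map_sum, Finset.mul_sum, mul_assoc]
    set U := (G * H) %ₘ f2 with hU
    set Q := (G * H) /ₘ f2 with hQ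
    have hsplit : G * H = U + f2 * Q := (modByMonic_add_div (G * H) f2).symm
    have hlt : (U.map R.subtype).natDegree < p := natDegree_map_le.trans_lt
      (hd2 ▸ natDegree_modByMonic_lt _ hf2 (fun h => by rw [h, natDegree_one] at hd2; omega))
    have hevU2 : aeval α (U.map R.subtype) = ev α (fun i : Fin p => (U.coeff i : F)) := by
      rw [aeval_eq_sum_range' hlt, ev, Finset.sum_range]
      exact Finset.sum_congr rfl fun i _ => by rw [Algebra.smul_def, coeff_map]; rfl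
    have hevU3 : aeval z (U.map R.subtype) = ev z (fun i : Fin p => (U.coeff i : F)) := by
      rw [aeval_eq_sum_range' hlt, ev, Finset.sum_range]
      exact Finset.sum_congr rfl fun i _ => by rw [Algebra.smul_def, coeff_map]; rfl
    have hUr : (fun i : Fin p => (U.coeff i : F)) = π ^ (2 * c) • r := hφ.1 (by
      rw [← hevU2, ev_smul, hr, two_mul, pow_add, map_mul, map_pow, mul_mul_mul_comm, ← hG2, ← hH2, ← map_mul,
        ← Polynomial.map_mul, hsplit, Polynomial.map_add, Polynomial.map_mul, map_add, map_mul, hα2, zero_mul, add_zero])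
    obtain ⟨q, hq⟩ := exists_coord (z := z) R f3 hf3 hd3 hp0 hz3 (X * Q)
    refine ⟨fun i => q i, fun i => (q i).2, mul_left_cancel₀ (pow_ne_zero (2 * c) hP0) ?_⟩
    have h2 : aeval z (f2.map R.subtype) = P ^ N * z := by simp [f2, hz, hPdef]
    calc P ^ (2 * c) * (ev z g * ev z h) = aeval z ((G * H).map R.subtype) := by
          rw [Polynomial.map_mul, map_mul, hG3, hH3, two_mul, pow_add]; ring
      _ = P ^ (2 * c) * ev z r + P ^ N * (z * aeval z (Q.map R.subtype)) := by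
          rw [hsplit, Polynomial.map_add, Polynomial.map_mul, map_add, map_mul, hevU3, hUr, ev_smul, h2, map_pow]; ring
      _ = _ := by
          rw [← hq, Polynomial.map_mul, Polynomial.map_X, map_mul, aeval_X, mul_add, ← mul_assoc (P ^ (2 * c)) (P ^ (N - 2 * c)),
            ← pow_add, Nat.add_sub_cancel' (by omega)]
  -- boundedness gives integrality
  let ψ : (Fin p → F) → F₃ := ev z
  have hPW : P ∈ W := hRW π hπR
  have hPm : (⟨P, hPW⟩ : W) ∈ maximalIdeal W := (ValuationSubring.valuation_lt_one_iff W _).2 hπW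
  have hbW : ∀ g : Fin p → F, ev α g ∈ V₂ → P ^ c * ev z g ∈ W := fun g hg => by
    rw [hPdef, ← map_pow, ← ev_smul]; exact hvec _ (hbd g hg)
  have hmem : ∀ g : Fin p → F, ev α g ∈ V₂ → ev z g ∈ W := by
    intro g hg
    by_contra hy
    set y := ev z g
    have hy0 : y ≠ 0 := fun h => hy (h ▸ zero_mem W)
    have hyi := (W.mem_or_inv_mem y).resolve_left hy
    have hpow : ∀ n : ℕ, ∃ h : Fin p → F, ev α h ∈ V₂ ∧ ev z h = y ^ (n + 1) := by
      intro n
      induction n with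
      | zero => exact ⟨g, hg, (pow_one _).symm⟩
      | succ n ih =>
        obtain ⟨h, hh, hhy⟩ := ih
        obtain ⟨r, hr⟩ := hφ.2 (ev α h * ev α g)
        obtain ⟨q, hq, hqe⟩ := hmul h g r hh hg hr
        refine ⟨r + π ^ (N - 2 * c) • q, ?_, ?_⟩
        · rw [ev_add, ev_smul, hr, map_pow]
          exact add_mem (mul_mem hh hg) (mul_mem (pow_mem (hRV π hπR) _) (hvec2 q hq))
        · rw [ev_add, ev_smul, map_pow, ← hqe, hhy, pow_succ y (n + 1)]
    have hin : (⟨y⁻¹, hyi⟩ : W) ∈ maximalIdeal W := fun hu => hy (by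
      obtain ⟨⟨w, hw⟩, hwe⟩ := hu.exists_right_inv
      have := congrArg Subtype.val hwe
      rw [show y = w by change y⁻¹ * w = 1 at this; exact (eq_of_inv_mul_eq_one this).symm.symm]
      exact hw)
    have hall : ∀ n : ℕ, (⟨P, hPW⟩ : W) ^ c ∈ maximalIdeal W ^ n := by
      intro n
      obtain ⟨h, hh, hhy⟩ := hpow n
      have e : (⟨P, hPW⟩ : W) ^ c = ⟨_, hhy ▸ hbW h hh⟩ * ⟨y⁻¹, hyi⟩ ^ (n + 1) := Subtype.ext (by
        push_cast
        rw [mul_assoc, ← mul_pow, mul_inv_cancel₀ hy0, one_pow, mul_one])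
      rw [e]
      exact Ideal.mul_mem_left _ _ (Ideal.pow_le_pow_right (Nat.le_succ n) (Ideal.pow_mem_pow hin _))
    have hzero : (⟨P, hPW⟩ : W) ^ c = 0 := by
      have h := Submodule.mem_iInf (fun n => maximalIdeal W ^ n) |>.2 hall
      rwa [Ideal.iInf_pow_eq_bot_of_isLocalRing _ (maximalIdeal.isMaximal W).ne_top, Submodule.mem_bot] at h
    exact pow_ne_zero c (fun h : (⟨P, hPW⟩ : W) = 0 => hP0 (congrArg Subtype.val h)) hzero
  -- the residual homomorphism
  let φe := Equiv.ofBijective _ hφ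
  have hsym : ∀ x : V₂, ev α (φe.symm x) = (x : F₂) := fun x => φe.apply_symm_apply _
  have hsymV : ∀ x : V₂, ev α (φe.symm x) ∈ V₂ := fun x => (hsym x).symm ▸ x.2
  let χf : V₂ → ResidueField W := fun x => residue W ⟨_, hmem _ (hsymV x)⟩
  have hχ : ∀ g (hg : ev α g ∈ V₂), χf ⟨_, hg⟩ = residue W ⟨_, hmem g hg⟩ := fun g hg => by
    refine congrArg (residue W) (Subtype.ext (congrArg (ev z) ?_))
    exact φe.symm_apply_apply g
  have hχR : ∀ r (hr : r ∈ R), χf ⟨_, hRV r hr⟩ = residue W ⟨_, hRW r hr⟩ := fun r hr => by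
    refine congrArg (residue W) (Subtype.ext ?_)
    have e : φe.symm (algebraMap F F₂ r) = Pi.single (⟨0, hp0⟩ : Fin p) r := by
      rw [Equiv.symm_apply_eq]; exact (ev_single α hp0 r).symm
    show ev z (φe.symm (algebraMap F F₂ r)) = _
    rw [e, ev_single]
  have hχm : ∀ x y, χf (x * y) = χf x * χf y := by
    intro x y
    obtain ⟨q, hq, hqe⟩ := hmul (φe.symm x) (φe.symm y) (φe.symm (x * y : V₂)) (hsymV x) (hsymV y)
      (by rw [hsym, hsym, hsym]; rfl)
    show residue W _ = residue W _ * residue W _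
    rw [← map_mul]
    have e : (⟨_, hmem _ (hsymV x)⟩ * ⟨_, hmem _ (hsymV y)⟩ : W) =
        ⟨_, hmem _ (hsymV (x * y))⟩ + ⟨P, hPW⟩ ^ (N - 2 * c) * ⟨_, hvec q hq⟩ := Subtype.ext (by push_cast; exact hqe)
    rw [e, map_add, map_mul, map_pow, (residue_eq_zero_iff _).2 hPm, zero_pow (by omega), zero_mul, add_zero]
  have hχa : ∀ x y, χf (x + y) = χf x + χf y := by
    intro x y
    show residue W _ = residue W _ + residue W _
    rw [← map_add]
    refine congrArg (residue W) (Subtype.ext ?_)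
    push_cast
    rw [← ev_add]
    refine congrArg (ev z) ?_
    rw [Equiv.symm_apply_eq]
    show _ = ev α _
    rw [ev_add, hsym, hsym]
  let χ : V₂ →+* ResidueField W :=
    { toFun := χf
      map_one' := by
        show χf 1 = 1
        rw [show (1 : V₂) = ⟨_, hRV 1 R.one_mem⟩ from Subtype.ext (map_one _).symm, hχR,
          show (⟨_, hRW 1 R.one_mem⟩ : W) = 1 from Subtype.ext (map_one _), map_one]
        exact R.one_mem
      map_mul' := hχm
      map_zero' := by
        show χf 0 = 0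
        rw [show (0 : V₂) = ⟨_, hRV 0 R.zero_mem⟩ from Subtype.ext (map_zero _).symm, hχR,
          show (⟨_, hRW 0 R.zero_mem⟩ : W) = 0 from Subtype.ext (map_zero _), map_zero]
        exact R.zero_mem
      map_add' := hχa }
  -- the kernel
  haveI : (RingHom.ker χ).IsPrime := RingHom.ker_isPrime χ
  have hπV' : (⟨_, hRV π hπR⟩ : V₂) ∈ maximalIdeal V₂ := (ValuationSubring.valuation_lt_one_iff V₂ _).2 hπV
  have hπV0 : (⟨_, hRV π hπR⟩ : V₂) ≠ 0 := fun h => (map_ne_zero (algebraMap F F₂)).2 hπ0 (congrArg Subtype.val h)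
  have hπker : (⟨_, hRV π hπR⟩ : V₂) ∈ RingHom.ker χ := by
    rw [RingHom.mem_ker]; exact (hχR π hπR).trans ((residue_eq_zero_iff _).2 hPm)
  have hker : RingHom.ker χ = maximalIdeal V₂ := by
    refine eq_maximalIdeal ?_
    exact Ideal.IsPrime.isMaximal inferInstance ((Submodule.ne_bot_iff _).2 ⟨_, hπker, hπV0⟩)
  -- uniformizers
  obtain ⟨τ, hτ⟩ := IsDiscreteValuationRing.exists_irreducible V₂
  obtain ⟨e, uπ, he⟩ := IsDiscreteValuationRing.eq_unit_mul_pow_irreducible hπV0 hτ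
  have he0 : 0 < e := Nat.pos_of_ne_zero fun h => by
    rw [h, pow_zero, mul_one] at he
    exact (mem_maximalIdeal _).1 hπV' (he ▸ uπ.isUnit)
  let img : V₂ → W := fun x => ⟨_, hmem _ (hsymV x)⟩
  have himgu : ∀ x : V₂, IsUnit x → IsUnit (img x) := fun x hx =>
    notMem_maximalIdeal.1 fun h => (hx.map χ).ne_zero ((residue_eq_zero_iff _).2 h)
  have himg : ∀ x y : V₂, ∃ w : W, img x * img y = img (x * y) + (⟨P, hPW⟩ : W) ^ 2 * w := fun x y => by
    obtain ⟨q, hq, hqe⟩ := hmul (φe.symm x) (φe.symm y) (φe.symm (x * y : V₂)) (hsymV x) (hsymV y)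
      (by rw [hsym, hsym, hsym]; rfl)
    refine ⟨(⟨P, hPW⟩ : W) ^ (N - 2 * c - 2) * ⟨_, hvec q hq⟩, Subtype.ext ?_⟩
    push_cast
    rw [← mul_assoc, ← pow_add, show 2 + (N - 2 * c - 2) = N - 2 * c by omega]
    exact hqe
  have himgπ : img ⟨_, hRV π hπR⟩ = ⟨P, hPW⟩ := Subtype.ext (by
    have e : φe.symm (algebraMap F F₂ π) = Pi.single (⟨0, hp0⟩ : Fin p) π := by
      rw [Equiv.symm_apply_eq]; exact (ev_single α hp0 π).symm
    show ev z (φe.symm (algebraMap F F₂ π)) = P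
    rw [e, ev_single])
  -- `img` of `u τ^k`
  set τ' := img τ with hτ'
  have hpw : ∀ (k : ℕ) (x : V₂), ∃ w : W, img (τ ^ k * x) = τ' ^ k * img x + (⟨P, hPW⟩ : W) ^ 2 * w := by
    intro k
    induction k with
    | zero => exact fun x => ⟨0, by simp⟩
    | succ k ih =>
      intro x
      obtain ⟨w, hw⟩ := ih x
      obtain ⟨v, hv⟩ := himg τ (τ ^ k * x)
      refine ⟨τ' * w - v, ?_⟩
      rw [pow_succ', mul_assoc, pow_succ' τ']
      linear_combination -hv + τ' * hw
  have hPτ : ∃ w : Wˣ, (⟨P, hPW⟩ : W) = w * τ' ^ e := by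
    obtain ⟨w, hw⟩ := hpw e uπ
    rw [mul_comm (τ ^ e), ← he, himgπ] at hw
    have hu : IsUnit (1 - (⟨P, hPW⟩ : W) * w) :=
      isUnit_one_sub_self_of_mem_nonunits _ (Ideal.mul_mem_right _ (maximalIdeal W) hPm)
    refine ⟨hu.unit⁻¹ * (himgu _ uπ.isUnit).unit, ?_⟩
    rw [Units.val_mul, mul_assoc, IsUnit.unit_spec, Units.eq_inv_mul_iff_mul_eq, IsUnit.unit_spec]
    linear_combination hw
  obtain ⟨wP, hwP⟩ := hPτ
  have hτ'0 : τ' ≠ 0 := fun h => by
    rw [h, zero_pow he0.ne', mul_zero] at hwP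
    exact hP0 (congrArg Subtype.val hwP)
  have hτ'm : τ' ∈ maximalIdeal W := (residue_eq_zero_iff _).1 (show χ τ = 0 from (RingHom.mem_ker).1 (hker.symm ▸ hτ.not_isUnit))
  have hsmall : ∀ k, k < e → ∀ u : V₂, IsUnit u → ∃ w : Wˣ, img (τ ^ k * u) = w * τ' ^ k := by
    intro k hk u hu
    obtain ⟨w, hw⟩ := hpw k u
    obtain ⟨l, hl⟩ : ∃ l, 2 * e = k + (l + 1) := ⟨2 * e - k - 1, by omega⟩
    have hu' : IsUnit (img u + (wP : W) ^ 2 * τ' ^ (l + 1) * w) := by
      refine notMem_maximalIdeal.1 fun h => notMem_maximalIdeal.2 (himgu u hu) ?_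
      have h2 : (wP : W) ^ 2 * τ' ^ (l + 1) * w ∈ maximalIdeal W :=
        Ideal.mul_mem_right _ _ (Ideal.mul_mem_left _ _ (Ideal.pow_mem_of_mem _ hτ'm _ (by omega)))
      simpa using sub_mem h h2
    refine ⟨hu'.unit, ?_⟩
    rw [hw, hwP, IsUnit.unit_spec, mul_pow, ← pow_mul, mul_comm e 2, hl, pow_add]
    ring
  -- every vector
  have hτF : (τ' : F₃) ≠ 0 := fun h => hτ'0 (Subtype.ext h)
  have hmain : ∀ (g : Fin p → F) (n : ℤ) (u : V₂ˣ), ev α g = ((u : V₂) : F₂) * ((τ : V₂) : F₂) ^ n →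
      ∃ w : Wˣ, ev z g = ((w : W) : F₃) * (τ' : F₃) ^ n := by
    intro g n u hu
    obtain ⟨l, k, hk, hlk⟩ : ∃ (l : ℤ) (k : ℕ), k < e ∧ n = l * e + k := ⟨n / e, (n % e).toNat, by
      have := Int.emod_lt_of_pos n (show (0 : ℤ) < e by exact_mod_cast he0)
      omega, by rw [Int.toNat_of_nonneg (Int.emod_nonneg n (by exact_mod_cast he0.ne'))]; exact (Int.ediv_mul_add_emod n e).symm⟩
    let u' : V₂ := (u : V₂) * (((uπ⁻¹) ^ l : V₂ˣ) : V₂)
    have hu' : IsUnit u' := u.isUnit.mul (Units.isUnit _)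
    obtain ⟨w, hw⟩ := hsmall k hk u' hu'
    have hgv : g = π ^ l • φe.symm (τ ^ k * u' : V₂) := hφ.1 (by
      rw [ev_smul, hsym, map_zpow₀, show algebraMap F F₂ π = ((uπ : V₂) : F₂) * ((τ : V₂) : F₂) ^ e from congrArg Subtype.val he,
        hu, hlk, mul_zpow, zpow_add₀ (fun h => hτ.ne_zero (Subtype.ext h)), mul_comm l (e : ℤ), zpow_mul, zpow_natCast, zpow_natCast]
      push_cast [u']
      have hinv : ((((uπ⁻¹) ^ l : V₂ˣ) : V₂) : F₂) * (((uπ : V₂) : F₂) ^ l) = 1 := by
        have h1 : ∀ x : V₂ˣ, (((x ^ l : V₂ˣ) : V₂) : F₂) = (((x : V₂) : F₂)) ^ l := fun x =>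
          (Units.coe_map V₂.subtype.toMonoidHom (x ^ l)).symm.trans (by rw [map_zpow, Units.val_zpow_eq_zpow_val]; rfl)
        rw [h1, ← mul_zpow, ← Subring.coe_mul, Units.inv_mul, Subring.coe_one, one_zpow]
      linear_combination (-((u : V₂) : F₂) * ((τ : V₂) : F₂) ^ k * (((τ : V₂) : F₂) ^ e) ^ l) * hinv)
    refine ⟨w * wP ^ l, ?_⟩
    rw [hlk, show l * (e : ℤ) + k = k + (e : ℤ) * l by ring, hgv, ev_smul, map_zpow₀, show ev z (φe.symm (τ ^ k * u' : V₂)) = ((img (τ ^ k * u') : W) : F₃) from rfl, hw,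
      show algebraMap F F₃ π = (((wP : W) * τ' ^ e : W) : F₃) from congrArg Subtype.val hwP]
    have h1 : (((wP ^ l : Wˣ) : W) : F₃) = (((wP : W) : F₃)) ^ l :=
      (Units.coe_map W.subtype.toMonoidHom (wP ^ l)).symm.trans (by rw [map_zpow, Units.val_zpow_eq_zpow_val]; rfl)
    push_cast
    rw [mul_zpow, zpow_add₀ hτF, zpow_mul, zpow_natCast, zpow_natCast, h1]
    ring
  have hval : ∀ g : Fin p → F, g ≠ 0 → ∃ (n : ℤ) (u : V₂ˣ), ev α g = ((u : V₂) : F₂) * ((τ : V₂) : F₂) ^ n := by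
    intro g hg
    have h0 : ev α g ≠ 0 := fun h => hg (hφ.1 (h.trans (ev_zero α).symm))
    rcases V₂.mem_or_inv_mem (ev α g) with h | h
    · obtain ⟨k, u, hk⟩ := IsDiscreteValuationRing.eq_unit_mul_pow_irreducible
        (show (⟨_, h⟩ : V₂) ≠ 0 from fun h' => h0 (congrArg Subtype.val h')) hτ
      exact ⟨k, u, by rw [zpow_natCast]; exact congrArg Subtype.val hk⟩
    · obtain ⟨k, u, hk⟩ := IsDiscreteValuationRing.eq_unit_mul_pow_irreducible
        (show (⟨_, h⟩ : V₂) ≠ 0 from fun h' => inv_ne_zero h0 (congrArg Subtype.val h')) hτ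
      refine ⟨-k, u⁻¹, ?_⟩
      have hk' := congrArg Subtype.val hk
      push_cast at hk'
      rw [← inv_inv (ev α g), hk', mul_inv, zpow_neg, zpow_natCast]
      congr 1
      refine inv_eq_of_mul_eq_one_right ?_
      rw [← Subring.coe_mul, Units.mul_inv, Subring.coe_one]
  have hirr : Irreducible τ' := by
    obtain ⟨σ, hσ⟩ := IsDiscreteValuationRing.exists_irreducible W
    obtain ⟨g, hg⟩ := hzsurj (σ : F₃)
    have hg0 : g ≠ 0 := fun h => hσ.ne_zero (Subtype.ext (by rw [← hg, h, ev_zero]; rfl))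
    obtain ⟨n, u, hu⟩ := hval g hg0
    obtain ⟨w, hw⟩ := hmain g n u hu
    rw [hg] at hw
    rcases n with m | m
    · rw [Int.ofNat_eq_natCast, zpow_natCast] at hw
      have hσeq : σ = w * τ' ^ m := Subtype.ext (by push_cast; exact hw)
      obtain ⟨j, v, hj⟩ := IsDiscreteValuationRing.eq_unit_mul_pow_irreducible hτ'0 hσ
      have h1 : j * m = 1 := by
        refine IsDiscreteValuationRing.unit_mul_pow_congr_pow hσ hσ (w * v ^ m) 1 _ _ ?_
        rw [Units.val_one, one_mul, pow_one, Units.val_mul, Units.val_pow_eq_pow_val, mul_assoc, pow_mul, ← mul_pow, ← hj, ← hσeq]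
      rw [hj, Nat.eq_one_of_mul_eq_one_right h1, pow_one]
      exact (irreducible_units_mul v).2 hσ
    · exfalso
      rw [zpow_negSucc] at hw
      have h2 : σ * τ' ^ (m + 1) = w := Subtype.ext (by
        push_cast; rw [hw, mul_assoc, inv_mul_cancel₀ (pow_ne_zero _ hτF), mul_one])
      exact notMem_maximalIdeal.2 (h2 ▸ w.isUnit : IsUnit (σ * τ' ^ (m + 1))) (Ideal.mul_mem_right _ _ hσ.not_isUnit)
  refine ⟨fun g h hgh => ?_, χ, hker, ?_, hχR, fun g hg => ⟨hmem g hg, hχ g hg⟩, ?_⟩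
  · by_contra hne
    obtain ⟨n, u, hu⟩ := hval (g - h) (sub_ne_zero.2 hne)
    obtain ⟨w, hw⟩ := hmain _ n u hu
    have h0 : ev z (g - h) = 0 := by
      have := ev_add z (g - h) h
      rw [sub_add_cancel, hgh] at this
      simpa using this
    rw [h0] at hw
    exact mul_ne_zero (fun h => w.ne_zero (Subtype.ext h)) (zpow_ne_zero _ hτF) hw.symm
  · intro y
    obtain ⟨y, rfl⟩ := residue_surjective y
    obtain ⟨g, hg⟩ := hzsurj (y : F₃)
    by_cases hg0 : g = 0
    · exact ⟨0, by rw [map_zero, show y = 0 from Subtype.ext (by rw [← hg, hg0, ev_zero]; rfl), map_zero]⟩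
    obtain ⟨n, u, hu⟩ := hval g hg0
    rcases n with m | m
    · have hgV : ev α g ∈ V₂ := by
        rw [hu, Int.ofNat_eq_natCast, zpow_natCast]; exact mul_mem (Subtype.prop _) (pow_mem τ.2 _)
      exact ⟨⟨_, hgV⟩, (hχ g hgV).trans (congrArg (residue W) (Subtype.ext hg))⟩
    · exfalso
      obtain ⟨w, hw⟩ := hmain g _ u hu
      rw [hg, zpow_negSucc] at hw
      have h2 : y * τ' ^ (m + 1) = w := Subtype.ext (by
        push_cast; rw [hw, mul_assoc, inv_mul_cancel₀ (pow_ne_zero _ hτF), mul_one])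
      exact notMem_maximalIdeal.2 (h2 ▸ w.isUnit : IsUnit (y * τ' ^ (m + 1)))
        (Ideal.mul_mem_left _ _ (Ideal.pow_mem_of_mem _ hτ'm _ (Nat.succ_pos m)))
  · intro g hg h hirr2
    obtain ⟨v, hv⟩ := IsDiscreteValuationRing.associated_of_irreducible V₂ hτ hirr2
    obtain ⟨w, hw⟩ := hmain g 1 v (by
      rw [zpow_one, mul_comm]; exact (congrArg Subtype.val hv).symm)
    rw [zpow_one] at hw
    rw [show (⟨_, h⟩ : W) = w * τ' from Subtype.ext hw]
    exact (irreducible_units_mul w).2 hirr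

end Groth.Agent.H48.Deform
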