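import Groth.Agent.H48.RamBound
import Mathlib.RingTheory.Etale.Basic
import Mathlib.RingTheory.Unramified.Finite

set_option autoImplicit false
set_option linter.style.haveILetI false
universe u
open IsLocalRing EtRam Groth.Agent.H48 TensorProduct

namespace Groth.Agent.H48.EtUnram

/-- The places of a field point of a finite étale algebra over a DVR are unramified. -/
theorem unramified_of_generated {A E F K : Type u} [CommRing A] [IsDomain A] [IsDiscreteValuationRing A]
    [CommRing E] [Algebra A E] [Algebra.Etale A E] [Module.Finite A E] [Field K] [Algebra A K] [IsFractionRing A K]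
    [Field F] [Algebra K F] [FiniteDimensional K F] (ψ : E →+* F)
    (hψ : ∀ a, ψ (algebraMap A E a) = algebraMap K F (algebraMap A K a))
    (hgen : Subfield.closure (Set.range ψ) = ⊤) (V : ValuationSubring F)
    (hV : Dominates A ((algebraMap K F).comp (algebraMap A K)) V) :
    letI : Algebra A V := (RingHom.codRestrict _ V hV.1).toAlgebra
    ∀ [IsLocalHom (algebraMap A V)],
    IsWeaklyUnramified A V ∧ Algebra.IsSeparable (ResidueField A) (ResidueField V) := by
  intro _
  letI : Algebra A V := (RingHom.codRestrict _ V hV.1).toAlgebra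
  haveI : IsDiscreteValuationRing V := FSExt.isDVR V hV
  letI : Algebra A F := ((algebraMap K F).comp (algebraMap A K)).toAlgebra
  haveI : IsScalarTower A V F := IsScalarTower.of_algebraMap_eq fun _ => rfl
  let ψA : E →ₐ[A] F := { ψ with commutes' := hψ }
  have hmem : ∀ x, ψ x ∈ V := fun x => by
    obtain ⟨y, hy⟩ := IsIntegrallyClosed.isIntegral_iff.1 (((IsIntegral.of_finite A x).map ψA).tower_top (A := V))
    rw [show ψ x = ((y : V) : F) from hy.symm]; exact y.2
  let φ : E →+* V := ψ.codRestrict V hmem
  obtain ⟨π, hπ⟩ := IsDiscreteValuationRing.exists_irreducible A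
  let t := algebraMap A E π
  have hφA : ∀ a, φ (algebraMap A E a) = algebraMap A V a := fun a => Subtype.ext (hψ a)
  have ht : φ t ∈ maximalIdeal V := by rw [hφA]; exact map_nonunit _ _ hπ.not_isUnit
  have hinj : Function.Injective (algebraMap A V) := fun a b h =>
    IsFractionRing.injective A K ((algebraMap K F).injective (congrArg Subtype.val h))
  have ht0 : φ t ≠ 0 := by rw [hφA]; exact (map_ne_zero_iff _ hinj).2 hπ.ne_zero
  have hgen' : ∀ z : F, ∃ a b : E, φ b ≠ 0 ∧ z * (φ b : F) = φ a := by
    intro z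
    have hz : z ∈ Subfield.closure (Set.range ψ) := by rw [hgen]; trivial
    obtain ⟨a, ha, b, hb, rfl⟩ := Subfield.mem_closure_iff.1 hz
    have hr : Subring.closure (Set.range ψ) ≤ ψ.range := Subring.closure_le.2 (by rintro _ ⟨x, rfl⟩; exact ⟨x, rfl⟩)
    obtain ⟨a', rfl⟩ := hr ha
    obtain ⟨b', rfl⟩ := hr hb
    by_cases h0 : ψ b' = 0
    · exact ⟨0, 1, by simp, by simp [h0]⟩
    · exact ⟨a', b', fun h => h0 (congrArg Subtype.val h), div_mul_cancel₀ _ h0⟩
  let k := ResidueField A
  let Q := k ⊗[A] E
  haveI : Algebra.Etale k Q := inferInstance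
  haveI : Module.Finite k Q := inferInstance
  haveI : Algebra.IsGeometricallyReduced k Q := by
    rw [Algebra.isGeometricallyReduced_field_iff]
    exact Algebra.FormallyUnramified.isReduced_of_field (AlgebraicClosure k) _
  haveI := Algebra.isReduced_of_isGeometricallyReduced k (A := Q)
  haveI : Algebra.IsIntegral k Q := Algebra.IsIntegral.of_finite k Q
  have hdim : ∀ q : Ideal Q, q.IsPrime → q.IsMaximal := fun q hq => FSExt.isMaximal_of_integral (k := k) q hq
  let fk : k →+* E ⧸ Ideal.span {t} :=
    Ideal.Quotient.lift (maximalIdeal A) ((Ideal.Quotient.mk _).comp (algebraMap A E)) fun a ha => by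
      rw [hπ.maximalIdeal_eq, Ideal.mem_span_singleton] at ha
      obtain ⟨c, rfl⟩ := ha
      rw [RingHom.comp_apply, Ideal.Quotient.eq_zero_iff_mem, map_mul]
      exact Ideal.mul_mem_right _ _ (Ideal.mem_span_singleton_self t)
  let fkA : k →ₐ[A] E ⧸ Ideal.span {t} := { fk with commutes' := fun a => rfl }
  let Φ : Q →ₐ[A] E ⧸ Ideal.span {t} :=
    Algebra.TensorProduct.lift fkA (Ideal.Quotient.mkₐ A _) fun _ _ => Commute.all _ _
  have hΦ : Function.Surjective Φ := fun y => by
    obtain ⟨x, rfl⟩ := Ideal.Quotient.mk_surjective y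
    exact ⟨1 ⊗ₜ x, by
      show Algebra.TensorProduct.lift fkA (Ideal.Quotient.mkₐ A _) (fun _ _ => Commute.all _ _) (1 ⊗ₜ[A] x) = _
      rw [Algebra.TensorProduct.lift_tmul, map_one, one_mul]; rfl⟩
  obtain ⟨hmax, hres⟩ := FSExt.core V φ t ht ht0 hgen' hdim Φ.toRingHom hΦ
  refine ⟨(congrArg (Ideal.map (algebraMap A V)) hπ.maximalIdeal_eq).trans
    (by rw [Ideal.map_span, Set.image_singleton, hmax, hφA]), ?_⟩
  let θA : k →ₐ[A] ResidueField V :=
    { algebraMap k (ResidueField V) with commutes' := fun a => rfl }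
  let φA : E →ₐ[A] ResidueField V :=
    { (residue V).comp φ with commutes' := fun a => congrArg (residue V) (hφA a) }
  let Θ : Q →ₐ[k] ResidueField V :=
    { (Algebra.TensorProduct.lift θA φA fun _ _ => Commute.all _ _).toRingHom with
      commutes' := fun r => by
        show Algebra.TensorProduct.lift θA φA (fun _ _ => Commute.all _ _) (r ⊗ₜ[A] (1 : E)) = _
        rw [Algebra.TensorProduct.lift_tmul, map_one, mul_one]; rfl }
  have hΘ : Function.Surjective Θ := fun y => by
    obtain ⟨x, rfl⟩ := hres y
    exact ⟨1 ⊗ₜ x, by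
      show Algebra.TensorProduct.lift θA φA (fun _ _ => Commute.all _ _) ((1 : k) ⊗ₜ[A] x) = (residue V) (φ x)
      rw [Algebra.TensorProduct.lift_tmul, map_one, one_mul]; rfl⟩
  haveI : Algebra.IsGeometricallyReduced k (ResidueField V) := FSExt.geomRed_quotient hdim Θ hΘ
  haveI : Module.Finite k (ResidueField V) := Module.Finite.of_surjective Θ.toLinearMap hΘ
  exact FSExt.isSeparable_of_geomRed k (ResidueField V)

end Groth.Agent.H48.EtUnram
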