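import Groth.Agent.H48.TotRam
import Groth.Agent.H48.EtUnram
import Mathlib.FieldTheory.KummerPolynomial
import Mathlib.FieldTheory.PurelyInseparable.Basic
import Mathlib.RingTheory.AdjoinRoot
import Mathlib.RingTheory.Polynomial.GaussLemma

/-!
Extensions of degree `p` of a discrete valuation ring: the criteria for full ramification and for a purely
inseparable residue extension of degree `p`.
-/

set_option autoImplicit false
set_option linter.style.haveILetI false
universe u
open IsLocalRing EtRam Polynomial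

namespace Groth.Agent.H48.DegP

section

variable {p : ℕ} [hpp : Fact p.Prime] {A K L : Type u} [CommRing A] [IsDomain A]
  [IsDiscreteValuationRing A] [Field K] [Algebra A K] [IsFractionRing A K] [Field L] [Algebra K L]
  [Algebra A L] [IsScalarTower A K L] {π : A} (hπ : Irreducible π)


theorem exists_dominating (K : Type u) [Field K] [Algebra A K] [IsFractionRing A K] [Algebra K L]
    [IsScalarTower A K L] : ∃ V : ValuationSubring L, Dominates A (algebraMap A L) V := by
  let V₀ : ValuationSubring K :=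
    { (algebraMap A K).range with
      mem_or_inv_mem' := fun y => ValuationRing.isInteger_or_isInteger _ y }
  obtain ⟨W, hW⟩ := DomVal.exists_comap_eq (algebraMap K L) V₀
  refine ⟨W, ?_⟩
  rw [IsScalarTower.algebraMap_eq A K L, ← DomVal.dominates_comap_iff, hW]
  refine ⟨fun b => ⟨b, rfl⟩, fun b hb => ?_⟩
  refine (ValuationSubring.valuation_lt_one_iff V₀ ⟨_, ⟨b, rfl⟩⟩).1 ((mem_maximalIdeal _).2 fun hu => ?_)
  obtain ⟨⟨_, c, rfl⟩, hc⟩ := hu.exists_right_inv
  refine (mem_maximalIdeal _).1 hb (IsUnit.of_mul_eq_one c (IsFractionRing.injective A K ?_))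
  rw [map_mul, map_one]; exact congrArg Subtype.val hc

theorem dom_iff (V : ValuationSubring L) :
    Dominates A (algebraMap A L) V ↔ Dominates A ((algebraMap K L).comp (algebraMap A K)) V := by
  rw [← IsScalarTower.algebraMap_eq]

include hπ

/-- An element whose `p`-th power has order prime to `p` makes the extension totally ramified of degree `p`. -/
theorem ramified_key [FiniteDimensional K L] (hle : Module.finrank K L ≤ p) (y : L) (n : ℕ) (hn : ¬ p ∣ n)
    (hy : ∀ V : ValuationSubring L, Dominates A (algebraMap A L) V →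
      ∃ v : Vˣ, y ^ p = ((v : V) : L) * algebraMap A L π ^ n) :
    IsTotallyRamified A (algebraMap A L) ∧ Module.finrank K L = p ∧
      ∃ ρ : L, ∀ (V : ValuationSubring L) (hV : Dominates A ((algebraMap K L).comp (algebraMap A K)) V),
        ∃ (r : V) (u : Vˣ), (r : L) = ρ ∧ Irreducible r ∧ RingHom.codRestrict _ V hV.1 π = u * r ^ p := by
  classical
  have hp1 : 1 < p := hpp.out.one_lt
  have hcop : Nat.Coprime n p := (hpp.out.coprime_iff_not_dvd.2 hn).symm
  obtain ⟨j, hj⟩ : ∃ j, n * j % p = 1 := by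
    obtain ⟨j, -, hj⟩ := Nat.exists_mul_mod_eq_one_of_coprime hcop hp1
    exact ⟨j, hj⟩
  have hπL : algebraMap A L π ≠ 0 := by
    rw [IsScalarTower.algebraMap_apply A K L]
    exact (_root_.map_ne_zero _).2 ((map_ne_zero_iff _ (IsFractionRing.injective A K)).2 hπ.ne_zero)
  set q := n * j / p with hq
  have hnj : n * j = p * q + 1 := by
    have h2 := Nat.div_add_mod (n * j) p
    rw [hj, ← hq] at h2
    exact h2.symm
  set ρ : L := y ^ j / algebraMap A L π ^ q with hρ
  have key : ∀ (V : ValuationSubring L) (hV : Dominates A ((algebraMap K L).comp (algebraMap A K)) V),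
      Module.finrank K L = p ∧ ∃ (r : V) (u : Vˣ), (r : L) = ρ ∧ Irreducible r ∧
        RingHom.codRestrict _ V hV.1 π = u * r ^ p := by
    intro V hV
    haveI : IsDiscreteValuationRing V := FSExt.isDVR V hV
    obtain ⟨v, hv⟩ := hy V ((dom_iff (K := K) V).2 hV)
    letI : Algebra A V := (RingHom.codRestrict _ V hV.1).toAlgebra
    haveI : IsLocalHom (algebraMap A V) := DomVal.isLocalHom_of_dominates hV
    have hcoe : ∀ b : A, ((algebraMap A V b : V) : L) = algebraMap A L b := fun b =>
      (IsScalarTower.algebraMap_apply A K L b).symm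
    have hinj : Function.Injective (algebraMap A V) := fun a b h => IsFractionRing.injective A K
      ((algebraMap K L).injective (congrArg Subtype.val h))
    have hρp : ρ ^ p = (((v ^ j : Vˣ) : V) : L) * algebraMap A L π := by
      rw [hρ, div_pow, div_eq_iff (pow_ne_zero _ (pow_ne_zero _ hπL)), ← pow_mul, mul_comm j p, pow_mul, hv,
        Units.val_pow_eq_pow_val, Subring.coe_pow, mul_pow, ← pow_mul, hnj, ← pow_mul, mul_comm q p, pow_succ]
      ring
    have hρV : ρ ∈ V := by
      rcases V.mem_or_inv_mem ρ with h | h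
      · exact h
      · by_cases h0 : ρ = 0
        · rw [h0]; exact zero_mem V
        · have e : ρ = ρ ^ p * ρ⁻¹ ^ (p - 1) := by
            have : ρ ^ p = ρ * ρ ^ (p - 1) := by rw [← pow_succ', Nat.sub_add_cancel hp1.le]
            rw [this, mul_assoc, ← mul_pow, mul_inv_cancel₀ h0, one_pow, mul_one]
          rw [e, hρp, ← hcoe]
          exact mul_mem (mul_mem (Subtype.prop _) (Subtype.prop _)) (pow_mem h _)
    have hrp : (⟨ρ, hρV⟩ : V) ^ p = ((v ^ j : Vˣ) : V) * algebraMap A V π := Subtype.ext (by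
      push_cast; rw [hcoe]; exact hρp)
    obtain ⟨τ, hτ⟩ := IsDiscreteValuationRing.exists_irreducible V
    obtain ⟨he0, u, hu⟩ := DVRExt.exists_unit_mul_pow hinj hπ hτ
    have he : Ideal.ramificationIdx' (maximalIdeal A) (maximalIdeal V) ≤ Module.finrank K L :=
      FSExt.ramificationIdx_le_finrank (B := A) (L := K) V hV
    set e := Ideal.ramificationIdx' (maximalIdeal A) (maximalIdeal V)
    have hr0 : (⟨ρ, hρV⟩ : V) ≠ 0 := fun h0 => by
      rw [h0, zero_pow hpp.out.ne_zero, eq_comm, mul_eq_zero] at hrp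
      exact hrp.elim (Units.ne_zero _) ((map_ne_zero_iff _ hinj).2 hπ.ne_zero)
    obtain ⟨m, w, hm⟩ := IsDiscreteValuationRing.eq_unit_mul_pow_irreducible hr0 hτ
    have hme : m * p = e := by
      refine IsDiscreteValuationRing.unit_mul_pow_congr_pow hτ hτ (w ^ p) (v ^ j * u) _ _ ?_
      rw [Units.val_pow_eq_pow_val, pow_mul, ← mul_pow, ← hm, hrp, hu, Units.val_mul, mul_assoc]
    have hm0 : m ≠ 0 := fun h0 => he0 (by rw [← hme, h0, zero_mul])
    have hep : e = p := by
      have := Nat.le_mul_of_pos_left p (Nat.pos_of_ne_zero hm0)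
      omega
    have hm1 : m = 1 := (Nat.mul_eq_right hpp.out.ne_zero).1 (hme.trans hep)
    refine ⟨by omega, ⟨ρ, hρV⟩, (v ^ j)⁻¹, rfl, ?_, ?_⟩
    · rw [hm, hm1, pow_one]; exact (irreducible_units_mul w).2 hτ
    · show algebraMap A V π = _
      rw [hrp, Units.inv_mul_cancel_left]
  obtain ⟨V₀, hV₀⟩ := exists_dominating (A := A) (L := L) K
  obtain ⟨hfr, -⟩ := key V₀ ((dom_iff (K := K) V₀).1 hV₀)
  refine ⟨?_, hfr, ρ, fun V hV => (key V hV).2⟩
  rw [IsScalarTower.algebraMap_eq A K L]
  exact FSExt.isTotallyRamified_of_uniformizer hpp.out.pos hπ hfr ⟨V₀, (dom_iff (K := K) V₀).1 hV₀⟩ ρ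
    fun V hV => (key V hV).2

/-- An element whose `p`-th power has order prime to `p` makes the extension totally ramified of degree `p`. -/
theorem ramified [FiniteDimensional K L] (hle : Module.finrank K L ≤ p) (y : L) (n : ℕ) (hn : ¬ p ∣ n)
    (hy : ∀ V : ValuationSubring L, Dominates A (algebraMap A L) V →
      ∃ v : Vˣ, y ^ p = ((v : V) : L) * algebraMap A L π ^ n) :
    IsTotallyRamified A (algebraMap A L) ∧ Module.finrank K L = p :=
  ⟨(ramified_key hπ hle y n hn hy).1, (ramified_key hπ hle y n hn hy).2.1⟩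

/-- Exactly one place, weakly unramified with purely inseparable residue extension of degree `p`. -/
abbrev Case4 (p : ℕ) (g : A →+* L) : Prop :=
  (∃ V : ValuationSubring L, Dominates A g V) ∧
    (∀ V V' : ValuationSubring L, Dominates A g V → Dominates A g V' → V = V') ∧
    ∀ (V : ValuationSubring L) (h : Dominates A g V),
      letI : Algebra A V := (RingHom.codRestrict g V h.1).toAlgebra
      ∀ [IsLocalHom (algebraMap A V)],
        IsWeaklyUnramified A V ∧ IsPurelyInseparable (ResidueField A) (ResidueField V) ∧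
          Module.finrank (ResidueField A) (ResidueField V) = p

/-- A generator with an equation reducing to `X ^ p - ā`, `ā` not a `p`-th power. -/
theorem inseparable [CharP (ResidueField A) p] [FiniteDimensional K L] (a : A)
    (ha : ∀ r : A, residue A a ≠ residue A r ^ p) (h : A[X]) (hhm : h.Monic)
    (hbareq : h.map (residue A) = X ^ p - C (residue A a)) (w : L) (hw : aeval w h = 0)
    (hw' : IntermediateField.adjoin K {w} = ⊤) : Case4 p (algebraMap A L) := by
  classical
  have hp0 : p ≠ 0 := hpp.out.ne_zero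
  have hπL : algebraMap A L π ≠ 0 := by
    rw [IsScalarTower.algebraMap_apply A K L]
    exact (_root_.map_ne_zero _).2 ((map_ne_zero_iff _ (IsFractionRing.injective A K)).2 hπ.ne_zero)
  let P := AdjoinRoot h
  haveI : Module.Finite A P := hhm.finite_adjoinRoot
  let φ₀ : P →+* L := AdjoinRoot.lift (algebraMap A L) w (by rw [← aeval_def]; exact hw)
  let t : P := AdjoinRoot.of h π
  let k := ResidueField A
  let hbar : k[X] := X ^ p - C (residue A a)
  haveI : Fact (Irreducible hbar) := ⟨X_pow_sub_C_irreducible_of_prime hpp.out fun b hb => by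
    obtain ⟨b, rfl⟩ := residue_surjective b
    exact ha b hb.symm⟩
  let Q := AdjoinRoot hbar
  let lk : k →+* P ⧸ Ideal.span {t} :=
    Ideal.Quotient.lift (maximalIdeal A) ((Ideal.Quotient.mk _).comp (AdjoinRoot.of h)) fun b hb => by
      rw [hπ.maximalIdeal_eq, Ideal.mem_span_singleton] at hb
      obtain ⟨d, rfl⟩ := hb
      rw [RingHom.comp_apply, Ideal.Quotient.eq_zero_iff_mem, map_mul]
      exact Ideal.mul_mem_right _ _ (Ideal.mem_span_singleton_self t)
  have hlk : lk.comp (residue A) = (Ideal.Quotient.mk (Ideal.span {t})).comp (AdjoinRoot.of h) :=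
    RingHom.ext fun _ => rfl
  let ψ : Q →+* P ⧸ Ideal.span {t} := AdjoinRoot.lift lk (Ideal.Quotient.mk _ (AdjoinRoot.root h)) (by
      show eval₂ lk _ (X ^ p - C (residue A a)) = 0
      rw [← hbareq, eval₂_map, hlk, ← hom_eval₂, AdjoinRoot.eval₂_root, map_zero])
  have hψ : Function.Surjective ψ := by
    intro y
    obtain ⟨x, rfl⟩ := Ideal.Quotient.mk_surjective y
    obtain ⟨g, rfl⟩ := AdjoinRoot.mk_surjective x
    refine ⟨AdjoinRoot.mk hbar (g.map (residue A)), ?_⟩
    refine (AdjoinRoot.lift_mk (i := lk) (a := Ideal.Quotient.mk _ (AdjoinRoot.root h)) _ _).trans ?_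
    rw [eval₂_map, ← AdjoinRoot.aeval_eq, aeval_def, hom_eval₂]
    congr 1
  have hgenP : ∀ x : L, ∃ b c : P, φ₀ c ≠ 0 ∧ x * φ₀ c = φ₀ b := by
    intro x
    have hint : IsIntegral K w := Algebra.IsIntegral.isIntegral w
    have hx : x ∈ Algebra.adjoin K {w} := by
      rw [← IntermediateField.adjoin_simple_toSubalgebra_of_isAlgebraic hint.isAlgebraic, hw']; trivial
    rw [Algebra.adjoin_singleton_eq_range_aeval] at hx
    obtain ⟨g, hg⟩ := hx
    obtain ⟨d, hd⟩ := IsLocalization.integerNormalization_map_to_map (nonZeroDivisors A) g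
    refine ⟨AdjoinRoot.mk h (IsLocalization.integerNormalization (nonZeroDivisors A) g), AdjoinRoot.of h (d : A), ?_, ?_⟩
    · rw [AdjoinRoot.lift_of, IsScalarTower.algebraMap_apply A K L]
      exact (_root_.map_ne_zero _).2 ((map_ne_zero_iff _ (IsFractionRing.injective A K)).2 (nonZeroDivisors.coe_ne_zero d))
    · rw [AdjoinRoot.lift_of, AdjoinRoot.lift_mk, IsScalarTower.algebraMap_eq A K L, ← eval₂_map, hd, ← hg,
        Algebra.smul_def, eval₂_mul]
      simp [aeval_def, mul_comm]
  obtain ⟨V₀, hV₀⟩ := exists_dominating (A := A) (L := L) K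
  have hmemV : ∀ (V : ValuationSubring L), Dominates A (algebraMap A L) V → ∀ x : P, φ₀ x ∈ V := by
    intro V hV x
    letI : Algebra A V := (RingHom.codRestrict (algebraMap A L) V hV.1).toAlgebra
    haveI : IsScalarTower A V L := IsScalarTower.of_algebraMap_eq fun _ => rfl
    let φA : P →ₐ[A] L := { φ₀ with commutes' := fun b => AdjoinRoot.lift_of _ }
    obtain ⟨y, hy⟩ := IsIntegrallyClosed.isIntegral_iff.1 (((IsIntegral.of_finite A x).map φA).tower_top (A := V))
    rw [show φ₀ x = ((y : V) : L) from hy.symm]; exact y.2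
  have ht1 : (Ideal.span {t}) ≠ ⊤ := by
    intro htop
    rw [Ideal.span_singleton_eq_top] at htop
    have hu := htop.map (φ₀.codRestrict V₀ (hmemV V₀ hV₀))
    refine (mem_maximalIdeal _).1 ((V₀.valuation_lt_one_iff ⟨_, hV₀.1 π⟩).2 (hV₀.2 π hπ.not_isUnit)) ?_
    convert hu using 1
    exact Subtype.ext (AdjoinRoot.lift_of _).symm
  have hlocal : ∀ M : Ideal P, M.IsMaximal → M = Ideal.span {t} := by
    intro M hM
    have hc := Ideal.isMaximal_comap_of_isIntegral_of_isMaximal (R := A) M
    have htM : t ∈ M := by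
      have : π ∈ M.comap (algebraMap A P) := by
        rw [IsLocalRing.eq_maximalIdeal hc]; exact hπ.not_isUnit
      exact this
    haveI : Nontrivial (P ⧸ Ideal.span {t}) := Ideal.Quotient.nontrivial_iff.2 ht1
    have hf : IsField (P ⧸ Ideal.span {t}) := MulEquiv.isField (Field.toIsField Q)
      (RingEquiv.ofBijective ψ ⟨ψ.injective, hψ⟩).symm.toMulEquiv
    exact ((Ideal.Quotient.maximal_ideal_iff_isField_quotient _).2 hf).eq_of_le hM.ne_top
      ((Ideal.span_singleton_le_iff_mem _).2 htM) |>.symm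
  haveI : Nontrivial P := φ₀.domain_nontrivial
  haveI : IsLocalRing P := IsLocalRing.of_unique_max_ideal (by
    obtain ⟨M, hM⟩ := Ideal.exists_maximal P
    exact ⟨M, hM, fun M' hM' => (hlocal M' hM').trans (hlocal M hM).symm⟩)
  haveI : IsNoetherianRing P := IsNoetherianRing.of_finite A P
  have hmaxP : maximalIdeal P = Ideal.span {t} := hlocal _ inferInstance
  have hdec : ∀ b : P, b ≠ 0 → ∃ (i : ℕ) (v : Pˣ), b = t ^ i * v := by
    intro b hb
    have hex : ∃ i, b ∉ Ideal.span {t} ^ i := by
      by_contra! hall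
      have h0 : b ∈ ⨅ i : ℕ, maximalIdeal P ^ i := by rw [hmaxP]; exact Ideal.mem_iInf.2 hall
      rw [Ideal.iInf_pow_eq_bot_of_isLocalRing _ (Ideal.IsPrime.ne_top inferInstance)] at h0
      exact hb h0
    obtain ⟨i, hi⟩ : ∃ i, Nat.find hex = i + 1 := Nat.exists_eq_succ_of_ne_zero fun h0 => by
      have := Nat.find_spec hex
      rw [h0, pow_zero, Ideal.one_eq_top] at this
      exact this trivial
    have hin : b ∈ Ideal.span {t} ^ i := not_not.1 (Nat.find_min hex (by omega))
    have hnot : b ∉ Ideal.span {t} ^ (i + 1) := hi ▸ Nat.find_spec hex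
    rw [Ideal.span_singleton_pow, Ideal.mem_span_singleton'] at hin hnot
    obtain ⟨v, hv⟩ := hin
    have hvu : IsUnit v := notMem_maximalIdeal.1 fun hvm => by
      rw [hmaxP, Ideal.mem_span_singleton'] at hvm
      obtain ⟨r, hr⟩ := hvm
      exact hnot ⟨r, by rw [← hv, ← hr, pow_succ']; ring⟩
    exact ⟨i, hvu.unit, by rw [← hv, IsUnit.unit_spec, mul_comm]⟩
  refine ⟨⟨V₀, hV₀⟩, ?_, ?_⟩
  · have hsub : ∀ V V' : ValuationSubring L, Dominates A (algebraMap A L) V → Dominates A (algebraMap A L) V' →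
        V ≤ V' := by
      intro V V' hV hV' x hx
      rcases eq_or_ne x 0 with rfl | hx0
      · exact zero_mem V'
      obtain ⟨b, d, hd, hxd⟩ := hgenP x
      have hb : φ₀ b ≠ 0 := hxd ▸ mul_ne_zero hx0 hd
      obtain ⟨i, v, rfl⟩ := hdec b fun h0 => hb (h0 ▸ map_zero φ₀)
      obtain ⟨j, v', rfl⟩ := hdec d fun h0 => hd (h0 ▸ map_zero φ₀)
      rw [map_mul, map_mul, map_pow, map_pow, AdjoinRoot.lift_of] at hxd
      have hvv : φ₀ v' * φ₀ ↑v'⁻¹ = 1 := by rw [← map_mul, Units.mul_inv, map_one]
      by_cases hij : j ≤ i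
      · have : x = algebraMap A L π ^ (i - j) * (φ₀ v * φ₀ ↑v'⁻¹) := by
          apply mul_right_cancel₀ (pow_ne_zero j hπL)
          rw [show algebraMap A L π ^ (i - j) * (φ₀ v * φ₀ ↑v'⁻¹) * algebraMap A L π ^ j =
            algebraMap A L π ^ i * φ₀ v * φ₀ ↑v'⁻¹ by
              conv_rhs => rw [← Nat.sub_add_cancel hij, pow_add]
              ring, ← hxd]
          linear_combination (-(x * algebraMap A L π ^ j)) * hvv
        rw [this]
        exact mul_mem (pow_mem (hV'.1 π) _) (mul_mem (hmemV V' hV' _) (hmemV V' hV' _))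
      · exfalso
        have h1 : V.valuation (φ₀ v) = 1 := (V.valuation_eq_one_iff ⟨_, hmemV V hV _⟩).1
          ((v.isUnit).map (φ₀.codRestrict V (hmemV V hV)))
        have h2 : V.valuation (φ₀ v') = 1 := (V.valuation_eq_one_iff ⟨_, hmemV V hV _⟩).1
          ((v'.isUnit).map (φ₀.codRestrict V (hmemV V hV)))
        have h3 := congrArg V.valuation hxd
        rw [map_mul, map_mul, map_mul, h1, h2, mul_one, mul_one, map_pow, map_pow,
          ← Nat.sub_add_cancel (Nat.le_of_not_le hij), pow_add, ← mul_assoc] at h3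
        have h4 := mul_right_cancel₀ (pow_ne_zero i ((_root_.map_ne_zero _).2 hπL)) (h3.trans (one_mul _).symm)
        exact absurd h4 (ne_of_lt (lt_of_le_of_lt (mul_le_of_le_one_left' ((V.valuation_le_one_iff x).2 hx))
          (pow_lt_one₀ zero_le (hV.2 π hπ.not_isUnit) (by omega))))
    exact fun V V' hV hV' => le_antisymm (hsub V V' hV hV') (hsub V' V hV' hV)
  intro V hV
  intro _
  haveI : IsDiscreteValuationRing V := FSExt.isDVR V ((dom_iff (K := K) V).1 hV)
  letI : Algebra A V := (RingHom.codRestrict (algebraMap A L) V hV.1).toAlgebra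
  haveI : IsLocalHom (algebraMap A V) := DomVal.isLocalHom_of_dominates hV
  let φ : P →+* V := φ₀.codRestrict V (hmemV V hV)
  have hφA : ∀ b, φ (AdjoinRoot.of h b) = algebraMap A V b := fun b => Subtype.ext (AdjoinRoot.lift_of _)
  obtain ⟨hmax, hres⟩ := FSExt.core V φ t (by rw [hφA]; exact map_nonunit _ _ hπ.not_isUnit) (by
      rw [hφA]; exact fun h0 => hπL (congrArg Subtype.val h0))
    (fun x => by
      obtain ⟨b, d, hd, hbd⟩ := hgenP x
      exact ⟨b, d, fun h0 => hd (congrArg Subtype.val h0), hbd⟩)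
    (fun q hq => by rw [Ideal.eq_bot_of_prime q]; exact Ideal.bot_isMaximal) ψ hψ
  refine ⟨(congrArg (Ideal.map (algebraMap A V)) hπ.maximalIdeal_eq).trans
    (by rw [Ideal.map_span, Set.image_singleton, hmax, hφA]), ?_⟩
  let Θ : Q →ₐ[k] ResidueField V := AdjoinRoot.liftAlgHom hbar (Algebra.ofId k _) (residue V (φ (AdjoinRoot.root h))) (by
    show eval₂ (algebraMap k (ResidueField V)) _ (X ^ p - C (residue A a)) = 0
    rw [← hbareq, eval₂_map,
      show (algebraMap k (ResidueField V)).comp (residue A) = ((residue V).comp φ).comp (AdjoinRoot.of h) from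
        RingHom.ext fun b => (congrArg (residue V) (hφA b)).symm,
      show residue V (φ (AdjoinRoot.root h)) = (residue V).comp φ (AdjoinRoot.root h) from rfl,
      ← hom_eval₂, AdjoinRoot.eval₂_root, map_zero])
  have hΘ : Function.Surjective Θ := by
    intro y
    obtain ⟨x, rfl⟩ := hres y
    obtain ⟨g, rfl⟩ := AdjoinRoot.mk_surjective x
    refine ⟨AdjoinRoot.mk hbar (g.map (residue A)), ?_⟩
    show AdjoinRoot.liftAlgHom hbar (Algebra.ofId k _) (residue V (φ (AdjoinRoot.root h))) _ _ = residue V (φ _)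
    rw [AdjoinRoot.liftAlgHom_mk, eval₂_map, ← AdjoinRoot.aeval_eq, aeval_def, hom_eval₂, hom_eval₂]
    congr 1
    refine RingHom.ext fun b => ?_
    show residue V (algebraMap A V b) = residue V (φ (AdjoinRoot.of h b))
    rw [hφA]
  let eΘ : Q ≃ₐ[k] ResidueField V := AlgEquiv.ofBijective Θ ⟨Θ.toRingHom.injective, hΘ⟩
  constructor
  · haveI : ExpChar k p := ExpChar.prime hpp.out
    rw [isPurelyInseparable_iff_pow_mem k p]
    intro x
    obtain ⟨y, rfl⟩ := hΘ x
    obtain ⟨g, rfl⟩ := AdjoinRoot.mk_surjective y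
    refine ⟨1, (g.map (frobenius k p)).eval (residue A a), ?_⟩
    have h1 : (AdjoinRoot.mk hbar g) ^ p = algebraMap k Q ((g.map (frobenius k p)).eval (residue A a)) := by
      have hr : AdjoinRoot.root hbar ^ p = algebraMap k Q (residue A a) := by
        show AdjoinRoot.root hbar ^ p = AdjoinRoot.of hbar (residue A a)
        have := AdjoinRoot.eval₂_root hbar
        simpa [hbar, sub_eq_zero, AdjoinRoot.algebraMap_eq] using this
      rw [← map_pow, ← Polynomial.map_frobenius_expand (p := p), map_expand, ← AdjoinRoot.aeval_eq, expand_aeval,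
        hr, aeval_algebraMap_apply, aeval_def, Algebra.algebraMap_self, eval₂_id]
    rw [pow_one, ← map_pow, h1, Θ.commutes]
  · rw [← eΘ.toLinearEquiv.finrank_eq, (AdjoinRoot.powerBasis (Fact.out : Irreducible hbar).ne_zero).finrank,
      AdjoinRoot.powerBasis_dim, natDegree_X_pow_sub_C]


end

end Groth.Agent.H48.DegP
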