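import Groth.Agent.H48.DomVal

set_option autoImplicit false
universe u
open EtRam IsLocalRing

namespace Groth.Agent.H48.DomVal

section
variable {A : Type u} [CommRing A] [IsLocalRing A] {L M : Type u} [Field L] [Field M] {g : A →+* L} {f : L →+* M}

theorem valuation_comap_lt_one {W : ValuationSubring M} {x : L} :
    (W.comap f).valuation x < 1 ↔ W.valuation (f x) < 1 := by
  constructor
  · intro h
    have hx : x ∈ W.comap f := (ValuationSubring.valuation_le_one_iff _ x).1 h.le
    have h' := (ValuationSubring.valuation_lt_one_iff _ (⟨x, hx⟩ : W.comap f)).2 h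
    exact (ValuationSubring.valuation_lt_one_iff W (inclOfComap W f ⟨x, hx⟩)).1
      (map_nonunit (inclOfComap W f) _ h')
  · intro h
    have hx : x ∈ W.comap f := (ValuationSubring.valuation_le_one_iff W (f x)).1 h.le
    have h' := (ValuationSubring.valuation_lt_one_iff W (inclOfComap W f ⟨x, hx⟩)).2 h
    exact (ValuationSubring.valuation_lt_one_iff _ (⟨x, hx⟩ : W.comap f)).1
      ((mem_maximalIdeal _).2 fun hu => (mem_maximalIdeal _).1 h' (hu.map _))

theorem dominates_comap_iff {W : ValuationSubring M} :
    Dominates A g (W.comap f) ↔ Dominates A (f.comp g) W :=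
  ⟨fun h => ⟨h.1, fun a ha => valuation_comap_lt_one.1 (h.2 a ha)⟩,
    fun h => ⟨h.1, fun a ha => valuation_comap_lt_one.2 (h.2 a ha)⟩⟩

theorem dominates_subtype (W : ValuationSubring M) : Dominates (W.comap f) (f.comp (W.comap f).subtype) W :=
  ⟨fun a => a.2, fun a ha =>
    (ValuationSubring.valuation_lt_one_iff W (inclOfComap W f a)).1 (map_nonunit (inclOfComap W f) _ ha)⟩

theorem isLocalHom_of_dominates {V : ValuationSubring L} (h : Dominates A g V) :
    IsLocalHom (g.codRestrict V h.1) := by
  refine ⟨fun a ha => ?_⟩
  by_contra hna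
  exact (mem_maximalIdeal _).1
    ((ValuationSubring.valuation_lt_one_iff V (g.codRestrict V h.1 a)).2 (h.2 a hna)) ha

end

section

variable {A K : Type u} [CommRing A] [IsDomain A] [IsDiscreteValuationRing A] [Field K] [Algebra A K]
  [IsFractionRing A K] {L M : Type u} [Field L] [Field M] [Algebra K L] [Algebra K M] [FiniteDimensional K M]
  [Algebra.IsSeparable K M] (f : L →ₐ[K] M)

include f in
theorem finite_left : FiniteDimensional K L ∧ Algebra.IsSeparable K L :=
  ⟨FiniteDimensional.of_injective f.toLinearMap f.injective, Algebra.IsSeparable.of_algHom K M f⟩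

/-- Ramification in towers. -/
theorem tower_iff (W : ValuationSubring M)
    (hW : Dominates A ((algebraMap K M).comp (algebraMap A K)) W)
    (hV : Dominates A ((algebraMap K L).comp (algebraMap A K)) (W.comap f.toRingHom)) :
    letI : Algebra A W := (RingHom.codRestrict _ W hW.1).toAlgebra
    letI : Algebra A (W.comap f.toRingHom) := (RingHom.codRestrict _ (W.comap f.toRingHom) hV.1).toAlgebra
    letI : Algebra (W.comap f.toRingHom) W := (inclOfComap W f.toRingHom).toAlgebra
    haveI : IsLocalHom (algebraMap (W.comap f.toRingHom) W) := isLocalHom_inclOfComap W f.toRingHom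
    ∀ [IsLocalHom (algebraMap A W)] [IsLocalHom (algebraMap A (W.comap f.toRingHom))],
    (Ideal.ramificationIdx' (maximalIdeal A) (maximalIdeal W) =
        Ideal.ramificationIdx' (maximalIdeal A) (maximalIdeal (W.comap f.toRingHom)) *
          Ideal.ramificationIdx' (maximalIdeal (W.comap f.toRingHom)) (maximalIdeal W)) ∧
    (IsWeaklyUnramified A W ↔ IsWeaklyUnramified A (W.comap f.toRingHom) ∧
      IsWeaklyUnramified (W.comap f.toRingHom) W) ∧
    (Algebra.IsSeparable (ResidueField A) (ResidueField W) ↔
      Algebra.IsSeparable (ResidueField A) (ResidueField (W.comap f.toRingHom)) ∧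
      Algebra.IsSeparable (ResidueField (W.comap f.toRingHom)) (ResidueField W)) ∧
    (∀ p, CharP (ResidueField A) p → CharP (ResidueField (W.comap f.toRingHom)) p) := by
  intro _ _
  letI : Algebra A W := (RingHom.codRestrict _ W hW.1).toAlgebra
  letI : Algebra A (W.comap f.toRingHom) := (RingHom.codRestrict _ (W.comap f.toRingHom) hV.1).toAlgebra
  letI : Algebra (W.comap f.toRingHom) W := (inclOfComap W f.toRingHom).toAlgebra
  obtain ⟨hfd, hsep⟩ := finite_left f
  haveI : IsDiscreteValuationRing W := isDVR A K M hW
  haveI : IsDiscreteValuationRing (W.comap f.toRingHom) := isDVR A K L hV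
  haveI : IsScalarTower A (W.comap f.toRingHom) W := IsScalarTower.of_algebraMap_eq fun a => Subtype.ext
    (f.commutes (algebraMap A K a)).symm
  haveI : IsLocalHom (algebraMap (W.comap f.toRingHom) W) := isLocalHom_inclOfComap W f.toRingHom
  have hAV : Function.Injective (algebraMap A (W.comap f.toRingHom)) := fun a b h =>
    IsFractionRing.injective A K ((algebraMap K L).injective (congrArg Subtype.val h))
  have hAW : Function.Injective (algebraMap A W) := fun a b h =>
    IsFractionRing.injective A K ((algebraMap K M).injective (congrArg Subtype.val h))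
  have hVW : Function.Injective (algebraMap (W.comap f.toRingHom) W) := fun a b h =>
    Subtype.ext (f.injective (congrArg Subtype.val h))
  have he := ramificationIdx_mul hAV hVW
  refine ⟨he, ?_, ?_, fun p _ => charP_of_injective_algebraMap
    (algebraMap (ResidueField A) (ResidueField (W.comap f.toRingHom))).injective p⟩
  · rw [isWeaklyUnramified_iff hAV, isWeaklyUnramified_iff hVW, isWeaklyUnramified_iff hAW, he, mul_eq_one]
  · haveI : IsScalarTower (ResidueField A) (ResidueField (W.comap f.toRingHom)) (ResidueField W) :=
      IsScalarTower.of_algebraMap_eq fun x => by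
        obtain ⟨x, rfl⟩ := residue_surjective x
        show residue W _ = residue W _
        exact congrArg _ (IsScalarTower.algebraMap_apply A (W.comap f.toRingHom) W x)
    exact ⟨fun h => ⟨Algebra.isSeparable_tower_bot_of_isSeparable _ _ (ResidueField W),
      Algebra.isSeparable_tower_top_of_isSeparable (ResidueField A) _ _⟩,
      fun ⟨h1, h2⟩ => Algebra.IsSeparable.trans (ResidueField A) (ResidueField (W.comap f.toRingHom)) (ResidueField W)⟩

end

end Groth.Agent.H48.DomVal
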