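import Groth.Prelude.Def_EtRam
import Groth.Agent.H48.DVRExt
import Mathlib.RingTheory.DedekindDomain.IntegralClosure
import Mathlib.RingTheory.DedekindDomain.Dvr
import Mathlib.RingTheory.Valuation.LocalSubring
import Mathlib.FieldTheory.Separable

set_option autoImplicit false
universe u
open EtRam IsLocalRing

namespace Groth.Agent.H48.DomVal

variable (A K : Type u) [CommRing A] [IsDomain A] [IsDiscreteValuationRing A] [Field K] [Algebra A K]
  [IsFractionRing A K] (L : Type u) [Field L] [Algebra K L] [FiniteDimensional K L] [Algebra.IsSeparable K L]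

/-- A valuation subring dominating a DVR in a finite separable extension is a DVR. -/
theorem isDVR {V : ValuationSubring L} (h : Dominates A ((algebraMap K L).comp (algebraMap A K)) V) :
    IsDiscreteValuationRing V := by
  letI : Algebra A L := ((algebraMap K L).comp (algebraMap A K)).toAlgebra
  haveI : IsScalarTower A K L := IsScalarTower.of_algebraMap_eq fun _ => rfl
  let C := integralClosure A L
  haveI : IsDedekindDomain C := IsIntegralClosure.isDedekindDomain A K L C
  haveI : IsFractionRing C L := IsIntegralClosure.isFractionRing_of_finite_extension A K L C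
  have hCV : ∀ c : C, (c : L) ∈ V := by
    intro c
    letI : Algebra A V := ((algebraMap A L).codRestrict V h.1).toAlgebra
    haveI : IsScalarTower A V L := IsScalarTower.of_algebraMap_eq fun _ => rfl
    obtain ⟨y, hy⟩ := IsIntegrallyClosed.isIntegral_iff.1 (c.2.tower_top (A := V))
    rw [← hy]; exact y.2
  let f : C →+* V := (algebraMap C L).codRestrict V hCV
  let P : Ideal C := (maximalIdeal V).comap f
  have hP : P ≠ ⊥ := by
    obtain ⟨π, hπ⟩ := IsDiscreteValuationRing.exists_irreducible A
    refine Submodule.ne_bot_iff _ |>.2 ⟨algebraMap A C π, ?_, ?_⟩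
    · have hm := h.2 π hπ.not_isUnit
      exact (ValuationSubring.valuation_lt_one_iff V (f (algebraMap A C π))).2 hm
    · intro h0
      have h1 : algebraMap A L π = 0 := by rw [IsScalarTower.algebraMap_apply A C L, h0, map_zero]
      exact hπ.ne_zero ((map_eq_zero_iff _ (IsFractionRing.injective A K)).1
        ((map_eq_zero (algebraMap K L)).1 h1))
  haveI : P.IsPrime := Ideal.IsPrime.comap f
  haveI : IsDiscreteValuationRing (Localization.AtPrime P) :=
    IsLocalization.AtPrime.isDiscreteValuationRing_of_dedekind_domain C hP _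
  let φ : Localization.AtPrime P →+* V := IsLocalization.lift (M := P.primeCompl) (g := f) fun d =>
    IsLocalRing.notMem_maximalIdeal.1 d.2
  let ψ : Localization.AtPrime P →+* L := V.subtype.comp φ
  haveI : IsLocalHom φ := by
    refine ⟨fun s hs => ?_⟩
    obtain ⟨⟨c, d⟩, rfl⟩ := IsLocalization.mk'_surjective P.primeCompl s
    have hc : IsUnit (f c) := by
      have : φ (IsLocalization.mk' _ c d) * f d = f c := by
        rw [← IsLocalization.lift_eq (M := P.primeCompl) (g := f) (S := Localization.AtPrime P)
          (fun d => IsLocalRing.notMem_maximalIdeal.1 d.2) (d : C), ← map_mul, IsLocalization.mk'_spec,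
          IsLocalization.lift_eq]
      rw [← this]
      exact hs.mul (IsLocalRing.notMem_maximalIdeal.1 d.2)
    exact (IsLocalization.AtPrime.isUnit_mk'_iff (Localization.AtPrime P) P c d).2
      fun hcP => (mem_maximalIdeal _).1 hcP hc
  letI : Algebra (Localization.AtPrime P) L := ψ.toAlgebra
  haveI : IsScalarTower C (Localization.AtPrime P) L := IsScalarTower.of_algebraMap_eq fun c => by
    show _ = V.subtype (φ _)
    rw [IsLocalization.lift_eq]; rfl
  haveI : IsFractionRing (Localization.AtPrime P) L :=
    IsFractionRing.isFractionRing_of_isDomain_of_isLocalization P.primeCompl _ _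
  have hsurj : Function.Surjective φ := by
    intro x
    rcases ValuationRing.isInteger_or_isInteger (Localization.AtPrime P) (x : L) with ⟨s, hs⟩ | ⟨s, hs⟩
    · exact ⟨s, Subtype.ext hs⟩
    · by_cases hu : IsUnit s
      · refine ⟨(hu.unit⁻¹ : _), Subtype.ext ?_⟩
        show ψ _ = (x : L)
        rw [map_units_inv, IsUnit.unit_spec, ← inv_inv (x : L)]
        exact congrArg _ hs
      · have h0 : x = 0 := by
          by_contra hx
          refine hu (IsUnit.of_map φ s ?_)
          have : x * φ s = 1 := Subtype.ext (show (x : L) * ψ s = 1 by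
            rw [show ψ s = (x : L)⁻¹ from hs]
            exact mul_inv_cancel₀ fun h0 => hx (Subtype.ext h0))
          exact IsUnit.of_mul_eq_one x (by rw [mul_comm]; exact this)
        exact ⟨0, by rw [h0, map_zero]⟩
  have hinj : Function.Injective φ := fun a b hab =>
    IsFractionRing.injective (Localization.AtPrime P) L (congrArg Subtype.val hab)
  let e : Localization.AtPrime P ≃+* V := RingEquiv.ofBijective φ ⟨hinj, hsurj⟩
  exact IsDiscreteValuationRing.RingEquivClass.isDiscreteValuationRing e

/-- Valuation subrings extend along field extensions. -/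
theorem exists_comap_eq {L M : Type u} [Field L] [Field M] (f : L →+* M) (V : ValuationSubring L) :
    ∃ W : ValuationSubring M, W.comap f = V := by
  let S : LocalSubring M := LocalSubring.range (f.comp V.subtype)
  obtain ⟨W, hW⟩ := S.exists_le_valuationSubring
  refine ⟨W, le_antisymm (fun x hx => ?_) (fun x hx => hW.1 ⟨⟨x, hx⟩, rfl⟩)⟩
  by_contra hxV
  have hx0 : x ≠ 0 := fun h => hxV (h ▸ zero_mem V)
  have hi := (V.mem_or_inv_mem x).resolve_left hxV
  have hu : IsUnit (Subring.inclusion hW.1 ⟨f x⁻¹, ⟨x⁻¹, hi⟩, rfl⟩) :=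
    IsUnit.of_mul_eq_one ⟨f x, hx⟩ (Subtype.ext (show f x⁻¹ * f x = 1 by
      rw [← map_mul, inv_mul_cancel₀ hx0, map_one]))
  have hu' := hW.2.1 _ hu
  obtain ⟨⟨v, hv⟩, hv1⟩ := hu'.exists_left_inv
  obtain ⟨y, hy⟩ := hv
  have h1 : f (y : L) * f x⁻¹ = 1 := by
    have := congrArg Subtype.val hv1
    change v * f x⁻¹ = 1 at this
    rw [← hy] at this; exact this
  rw [← map_mul, ← map_one f] at h1
  apply hxV
  rw [← (mul_inv_eq_one₀ hx0).1 (f.injective h1)]
  exact y.2

section Tower

variable {A V W : Type u} [CommRing A] [IsDomain A] [IsDiscreteValuationRing A]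
  [CommRing V] [IsDomain V] [IsDiscreteValuationRing V] [CommRing W] [IsDomain W] [IsDiscreteValuationRing W]
  [Algebra A V] [Algebra V W] [Algebra A W] [IsScalarTower A V W]
  [IsLocalHom (algebraMap A V)] [IsLocalHom (algebraMap V W)] [IsLocalHom (algebraMap A W)]
  (hAV : Function.Injective (algebraMap A V)) (hVW : Function.Injective (algebraMap V W))

local notation "e(" R "," S ")" => Ideal.ramificationIdx' (maximalIdeal R) (maximalIdeal S)

include hAV hVW in
theorem ramificationIdx_mul : e(A,W) = e(A,V) * e(V,W) := by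
  obtain ⟨a, ha⟩ := IsDiscreteValuationRing.exists_irreducible A
  obtain ⟨b, hb⟩ := IsDiscreteValuationRing.exists_irreducible V
  obtain ⟨c, hc⟩ := IsDiscreteValuationRing.exists_irreducible W
  obtain ⟨-, u, hu⟩ := DVRExt.exists_unit_mul_pow hAV ha hb
  obtain ⟨-, v, hv⟩ := DVRExt.exists_unit_mul_pow hVW hb hc
  obtain ⟨-, w, hw⟩ := DVRExt.exists_unit_mul_pow (A := A) (B := W)
    (by rw [IsScalarTower.algebraMap_eq A V W]; exact hVW.comp hAV) ha hc
  refine (IsDiscreteValuationRing.unit_mul_pow_congr_pow hc hc w
    (Units.map (algebraMap V W).toMonoidHom u * v ^ e(A,V)) _ _ ?_)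
  rw [← hw, IsScalarTower.algebraMap_apply A V W, hu, map_mul, map_pow, hv, mul_pow, ← pow_mul, Units.val_mul,
    Units.val_pow_eq_pow_val, Nat.mul_comm]
  simp [mul_assoc]

omit [Algebra A W] [IsLocalHom (algebraMap A W)] in
theorem isWeaklyUnramified_iff (hinj : Function.Injective (algebraMap A V)) :
    IsWeaklyUnramified A V ↔ e(A,V) = 1 := by
  obtain ⟨a, ha⟩ := IsDiscreteValuationRing.exists_irreducible A
  obtain ⟨b, hb⟩ := IsDiscreteValuationRing.exists_irreducible V
  obtain ⟨-, u, hu⟩ := DVRExt.exists_unit_mul_pow hinj ha hb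
  rw [IsWeaklyUnramified, ha.maximalIdeal_eq, hb.maximalIdeal_eq, Ideal.map_span, Set.image_singleton,
    Ideal.span_singleton_eq_span_singleton, ← ha.maximalIdeal_eq, ← hb.maximalIdeal_eq, hu]
  constructor
  · intro h
    have h' : Associated (b ^ e(A,V)) (b ^ 1) := by
      rw [pow_one]; exact (associated_unit_mul_right _ _ u.isUnit).trans h
    exact le_antisymm ((pow_dvd_pow_iff hb.ne_zero hb.not_isUnit).1 h'.dvd)
      ((pow_dvd_pow_iff hb.ne_zero hb.not_isUnit).1 h'.symm.dvd)
  · intro h
    rw [h, pow_one]; exact associated_unit_mul_left _ _ u.isUnit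

end Tower

end Groth.Agent.H48.DomVal
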