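import Groth.Agent.H48.FSExtApply

set_option autoImplicit false
set_option linter.style.haveILetI false
universe u
open IsLocalRing EtRam

namespace Groth.Agent.H48.FSExt

/-- The ramification index is at most the degree. -/
theorem ramificationIdx_le_finrank {B L M : Type u} [CommRing B] [IsDomain B] [IsDiscreteValuationRing B] [Field L]
    [Field M] [Algebra B L] [IsFractionRing B L] [Algebra L M] [FiniteDimensional L M] (W : ValuationSubring M)
    [IsDiscreteValuationRing W] (hW : Dominates B ((algebraMap L M).comp (algebraMap B L)) W) :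
    letI : Algebra B W := (RingHom.codRestrict _ W hW.1).toAlgebra
    haveI : IsLocalHom (algebraMap B W) := DomVal.isLocalHom_of_dominates hW
    Ideal.ramificationIdx' (maximalIdeal B) (maximalIdeal W) ≤ Module.finrank L M := by
  classical
  letI : Algebra B W := (RingHom.codRestrict _ W hW.1).toAlgebra
  haveI : IsLocalHom (algebraMap B W) := DomVal.isLocalHom_of_dominates hW
  obtain ⟨ϖ, hϖ⟩ := IsDiscreteValuationRing.exists_irreducible B
  obtain ⟨τ, hτ⟩ := IsDiscreteValuationRing.exists_irreducible W
  have hinj : Function.Injective (algebraMap B W) := fun a b h =>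
    IsFractionRing.injective B L ((algebraMap L M).injective (congrArg Subtype.val h))
  obtain ⟨-, u, hu⟩ := DVRExt.exists_unit_mul_pow hinj hϖ hτ
  set e := Ideal.ramificationIdx' (maximalIdeal B) (maximalIdeal W)
  have key : ∀ (b : Fin e → B), ∑ i, algebraMap B W (b i) * τ ^ (i : ℕ) = 0 → b = 0 := by
    intro b hb
    by_contra hne
    have hterm : ∀ i, b i ≠ 0 → ∃ (m : ℕ) (v : Wˣ), algebraMap B W (b i) * τ ^ (i : ℕ) = v * τ ^ (e * m + i) := by
      intro i hi
      obtain ⟨m, v, hv⟩ := IsDiscreteValuationRing.eq_unit_mul_pow_irreducible hi hϖ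
      refine ⟨m, Units.map (algebraMap B W).toMonoidHom v * u ^ m, ?_⟩
      rw [hv, map_mul, map_pow, hu, mul_pow, ← pow_mul, pow_add, Units.val_mul, Units.val_pow_eq_pow_val]
      show algebraMap B W v * _ * _ = algebraMap B W v * _ * _
      ring
    choose m v hm using hterm
    let S := Finset.univ.filter fun i => b i ≠ 0
    have hS : S.Nonempty := by
      obtain ⟨i, hi⟩ := Function.ne_iff.1 hne
      exact ⟨i, by simpa [S] using hi⟩
    let key : Fin e → ℕ := fun i => if h : b i ≠ 0 then e * m i h + i else 0
    obtain ⟨j, hj, hmin⟩ := S.exists_min_image key hS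
    have hj' : b j ≠ 0 := (Finset.mem_filter.1 hj).2
    have hkey : ∀ i, (h : b i ≠ 0) → key i = e * m i h + i := fun i h => dif_pos h
    have hdvd : τ ^ (key j + 1) ∣ ∑ i ∈ Finset.univ.erase j, algebraMap B W (b i) * τ ^ (i : ℕ) := by
      refine Finset.dvd_sum fun i hi => ?_
      by_cases h : b i = 0
      · rw [h, map_zero, zero_mul]; exact dvd_zero _
      rw [hm i h]
      refine dvd_mul_of_dvd_right (pow_dvd_pow τ ?_) _
      have h1 := hmin i (by simp [S, h])
      have h2 : key i ≠ key j := fun he => by
        rw [hkey i h, hkey j hj'] at he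
        have := congrArg (· % e) he
        simp only [Nat.mul_add_mod, Nat.mod_eq_of_lt i.isLt, Nat.mod_eq_of_lt j.isLt] at this
        exact Finset.ne_of_mem_erase hi (Fin.ext this)
      rw [← hkey i h]; omega
    rw [← Finset.add_sum_erase _ _ (Finset.mem_univ j), hm j hj', add_eq_zero_iff_eq_neg] at hb
    obtain ⟨c, hc⟩ := hdvd
    rw [hc, ← hkey j hj', pow_succ, mul_comm ((v j hj' : Wˣ) : W), mul_assoc, ← mul_neg] at hb
    exact hτ.not_isUnit (isUnit_of_dvd_unit ⟨-c, by rw [mul_left_cancel₀ (pow_ne_zero _ hτ.ne_zero) hb, mul_neg]⟩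
      (v j hj').isUnit)
  have hli : LinearIndependent L (fun i : Fin e => ((τ : W) : M) ^ (i : ℕ)) := by
    rw [Fintype.linearIndependent_iff]
    intro g hg i
    obtain ⟨d, hd⟩ := IsLocalization.exist_integer_multiples_of_finite (nonZeroDivisors B) g
    choose b hb using hd
    have hb' : ∀ i, algebraMap B L (b i) = algebraMap B L d * g i := fun i => by rw [hb i, Algebra.smul_def]
    have := key b (Subtype.ext (by
      push_cast
      calc ∑ i, algebraMap L M (algebraMap B L (b i)) * ((τ : W) : M) ^ (i : ℕ)
          = algebraMap L M (algebraMap B L d) * ∑ i, g i • ((τ : W) : M) ^ (i : ℕ) := by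
            rw [Finset.mul_sum]; exact Finset.sum_congr rfl fun i _ => by rw [hb', map_mul, Algebra.smul_def, mul_assoc]
        _ = 0 := by rw [hg, mul_zero]))
    have h0 := hb' i
    rw [show b i = 0 from congrFun this i, map_zero, eq_comm, mul_eq_zero] at h0
    exact h0.resolve_left ((map_ne_zero_iff _ (IsFractionRing.injective B L)).2 (nonZeroDivisors.coe_ne_zero d))
  simpa using hli.fintype_card_le_finrank

end Groth.Agent.H48.FSExt

namespace Groth.Agent.H48.FSExt

theorem geomRed_of_separable (k E : Type u) [Field k] [Field E] [Algebra k E] [Algebra.IsSeparable k E] :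
    Algebra.IsGeometricallyReduced k E := by
  refine Algebra.IsGeometricallyReduced.of_forall_fg fun C hC => ?_
  haveI : Algebra.FiniteType k C := C.fg_iff_finiteType.mp hC
  haveI : Algebra.IsIntegral k C := Algebra.IsIntegral.of_injective C.val Subtype.val_injective
  haveI : Module.Finite k C := Algebra.IsIntegral.finite
  letI : Field C := (isField_of_isIntegral_of_isField' (R := k) (S := C) (Field.toIsField k)).toField
  haveI : Algebra.IsSeparable k C := Algebra.IsSeparable.of_algHom k E C.val
  haveI : Algebra.FormallyUnramified k C := Algebra.FormallyUnramified.of_isSeparable k C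
  rw [Algebra.isGeometricallyReduced_field_iff]
  exact Algebra.FormallyUnramified.isReduced_of_field (AlgebraicClosure k) _

end Groth.Agent.H48.FSExt
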