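import Groth.Agent.H48.TotRam
import Groth.Agent.H48.RamBound
import Groth.Agent.Lib.Cohen.NagataFiniteType
import Mathlib.FieldTheory.KummerPolynomial
import Mathlib.RingTheory.AdjoinRoot
import Mathlib.RingTheory.Filtration
import Mathlib.FieldTheory.PurelyInseparable.Basic

/-!
Tools for purely inseparable extensions of degree `p` of a discrete valuation ring.
-/

set_option autoImplicit false
set_option linter.style.haveILetI false
universe u
open IsLocalRing EtRam TensorProduct

namespace Groth.Agent.H48.EppInsep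

/-- Integral coordinates along the powers of a uniformizer, for a totally ramified place. -/
theorem coords_int {B L M : Type u} [CommRing B] [IsDomain B] [IsDiscreteValuationRing B] [Field L] [Algebra B L]
    [IsFractionRing B L] [Field M] [Algebra L M] {q : ℕ} (hq : 0 < q) {ϖ : B} (hϖ : Irreducible ϖ)
    (hfr : Module.finrank L M = q) (W : ValuationSubring M) [IsDiscreteValuationRing W]
    (hW : Dominates B ((algebraMap L M).comp (algebraMap B L)) W) (r : W) (hr : Irreducible r) (u : Wˣ)
    (hru : RingHom.codRestrict _ W hW.1 ϖ = u * r ^ q) (w : W) :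
    ∃ b : Fin q → B, w = ∑ i, RingHom.codRestrict _ W hW.1 (b i) * r ^ (i : ℕ) := by
  obtain ⟨g, hg⟩ := FSExt.exists_coords hq hϖ hfr W hW r u hr hru (w : M)
  choose b hb using FSExt.orth W hW r hr ϖ hϖ u hru g (hg ▸ w.2)
  refine ⟨b, Subtype.ext ?_⟩
  rw [hg]
  push_cast
  exact Finset.sum_congr rfl fun i _ => by rw [← hb i]; rfl

/-- A totally ramified place has the residues of the base. -/
theorem res_surj {B L M : Type u} [CommRing B] [IsDomain B] [IsDiscreteValuationRing B] [Field L] [Algebra B L]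
    [IsFractionRing B L] [Field M] [Algebra L M] {q : ℕ} (hq : 0 < q) {ϖ : B} (hϖ : Irreducible ϖ)
    (hfr : Module.finrank L M = q) (W : ValuationSubring M) [IsDiscreteValuationRing W]
    (hW : Dominates B ((algebraMap L M).comp (algebraMap B L)) W) (r : W) (hr : Irreducible r) (u : Wˣ)
    (hru : RingHom.codRestrict _ W hW.1 ϖ = u * r ^ q) (w : W) :
    ∃ b : B, w - RingHom.codRestrict _ W hW.1 b ∈ maximalIdeal W := by
  obtain ⟨b, hb⟩ := coords_int hq hϖ hfr W hW r hr u hru w
  refine ⟨b ⟨0, hq⟩, ?_⟩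
  rw [← residue_eq_zero_iff, map_sub, sub_eq_zero, hb, map_sum, Finset.sum_eq_single (⟨0, hq⟩ : Fin q)]
  · simp
  · intro i _ hi
    rw [map_mul, (residue_eq_zero_iff _).2 (Ideal.pow_mem_of_mem _ hr.not_isUnit _
      (Nat.pos_of_ne_zero fun h => hi (Fin.ext h))), mul_zero]
  · simp

variable {p : ℕ} [hp : Fact p.Prime]

theorem charP_of_degree {L M : Type u} [Field L] [Field M] [Algebra L M] [IsPurelyInseparable L M]
    (hdeg : Module.finrank L M = p) : CharP L p := by
  haveI : FiniteDimensional L M := Module.finite_of_finrank_pos (by rw [hdeg]; exact hp.out.pos)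
  obtain ⟨q, hq⟩ := ExpChar.exists L
  haveI := hq
  obtain ⟨n, hn⟩ := IsPurelyInseparable.finrank_eq_pow L M q
  rw [hdeg] at hn
  rcases hq with _ | hqp
  · rw [one_pow] at hn; exact absurd hn hp.out.ne_one
  · rename_i hc
    rcases n with _ | _ | n
    · rw [pow_zero] at hn; exact absurd hn hp.out.ne_one
    · rw [zero_add, pow_one] at hn; subst hn; exact hc
    · refine absurd hp.out ?_
      rw [hn, pow_succ]
      exact Nat.not_prime_mul (by
        intro h; exact hqp.ne_one (Nat.eq_one_of_mul_eq_one_right (by rw [← h, pow_succ, mul_comm]))) hqp.ne_one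

theorem pow_mem {L M : Type u} [Field L] [Field M] [Algebra L M] [IsPurelyInseparable L M] [CharP L p]
    (hdeg : Module.finrank L M = p) (x : M) : ∃ y : L, algebraMap L M y = x ^ p := by
  haveI : FiniteDimensional L M := Module.finite_of_finrank_pos (by rw [hdeg]; exact hp.out.pos)
  haveI : ExpChar L p := ExpChar.prime hp.out
  obtain ⟨n, y, hy⟩ := IsPurelyInseparable.minpoly_eq_X_pow_sub_C L p x
  have h1 := minpoly.natDegree_le (A := L) x
  rw [hy, Polynomial.natDegree_X_pow_sub_C, hdeg] at h1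
  have h2 := minpoly.aeval L x
  rw [hy, map_sub, map_pow, Polynomial.aeval_X, Polynomial.aeval_C, sub_eq_zero] at h2
  have hn : n ≤ 1 := by
    by_contra h
    have := Nat.pow_lt_pow_right hp.out.one_lt (show 1 < n by omega)
    rw [pow_one] at this
    omega
  rcases (show n = 0 ∨ n = 1 by omega) with rfl | rfl
  · rw [pow_zero, pow_one] at h2; exact ⟨y ^ p, by rw [map_pow, h2]⟩
  · rw [pow_one] at h2; exact ⟨y, h2.symm⟩

/-- An element whose `p`-th power is in a valuation ring is in it. -/
theorem mem_of_pow_mem {M : Type u} [Field M] (W : ValuationSubring M) {n : ℕ} (hn : 0 < n) {y : M}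
    (hy : y ^ n ∈ W) : y ∈ W := by
  rcases W.mem_or_inv_mem y with h | h
  · exact h
  · by_cases h0 : y = 0
    · rw [h0]; exact zero_mem W
    · have : y = y ^ n * y⁻¹ ^ (n - 1) := by
        obtain ⟨m, rfl⟩ : ∃ m, n = m + 1 := ⟨n - 1, by omega⟩
        rw [Nat.add_sub_cancel, pow_succ, mul_comm (y ^ m), mul_assoc, ← mul_pow, mul_inv_cancel₀ h0, one_pow, mul_one]
      rw [this]; exact mul_mem hy (_root_.pow_mem h _)

section Datum

variable {B C L M : Type u} [CommRing B] [IsDomain B] [IsDiscreteValuationRing B] [CommRing C] [IsDomain C]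
  [IsDiscreteValuationRing C] [Field L] [Field M] [Algebra B L] [IsFractionRing B L] [Algebra C M] [IsFractionRing C M]
  [Algebra B C] [IsLocalHom (algebraMap B C)] [Algebra L M] [Algebra B M] [IsScalarTower B L M] [IsScalarTower B C M]
  [IsPurelyInseparable L M] [CharP L p]

theorem pow_mem_base (hdeg : Module.finrank L M = p) (c : C) : ∃ b : B, algebraMap B C b = c ^ p := by
  obtain ⟨y, hy⟩ := pow_mem hdeg (algebraMap C M c)
  have inj : Function.Injective (algebraMap C M) := IsFractionRing.injective C M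
  rcases ValuationRing.isInteger_or_isInteger B y with ⟨b, hb⟩ | ⟨b, hb⟩
  · exact ⟨b, inj (by rw [← IsScalarTower.algebraMap_apply, IsScalarTower.algebraMap_apply B L M, hb, hy, map_pow])⟩
  · by_cases hu : IsUnit b
    · refine ⟨(hu.unit⁻¹ : Bˣ), inj ?_⟩
      rw [← IsScalarTower.algebraMap_apply, IsScalarTower.algebraMap_apply B L M, map_units_inv, IsUnit.unit_spec, hb,
        inv_inv, hy, map_pow]
    · by_cases hy0 : y = 0
      · refine ⟨0, inj ?_⟩
        rw [map_zero, map_zero, map_pow, ← hy, hy0, map_zero]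
      · exfalso
        refine (map_nonunit (algebraMap B C) b hu) (IsUnit.of_mul_eq_one (c ^ p) (inj ?_))
        rw [map_mul, ← IsScalarTower.algebraMap_apply, IsScalarTower.algebraMap_apply B L M, hb, map_pow, ← hy,
          ← map_mul, inv_mul_cancel₀ hy0, map_one, map_one]

omit [IsDiscreteValuationRing C] [IsLocalHom (algebraMap B C)] [IsPurelyInseparable L M] in
/-- `p`-th powers cannot approximate a non-`p`-th power. -/
theorem exists_pow_eq [IsIntegrallyClosed C] (hBC : Function.Injective (algebraMap B C)) [FiniteDimensional L M]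
    (hB : CAlg.IsNagata B) {π : B} (hπ : Irreducible π)
    (happ : ∀ m, 2 ≤ m → ∃ (c : C) (b : B), c ^ p = algebraMap B C (π + π ^ m * b)) :
    ∃ c : C, c ^ p = algebraMap B C π := by
  by_contra hne
  push_neg at hne
  have hroot : ∀ w : M, w ^ p ≠ algebraMap B M π := fun w hw => by
    have hi : IsIntegral C w := IsIntegral.of_pow hp.out.pos (by
      rw [hw, IsScalarTower.algebraMap_apply B C M]; exact isIntegral_algebraMap)
    obtain ⟨c, hc⟩ := IsIntegrallyClosed.isIntegral_iff.1 hi
    refine hne c (IsFractionRing.injective C M ?_)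
    rw [map_pow, hc, hw, ← IsScalarTower.algebraMap_apply]
  haveI : Fact (Irreducible (Polynomial.X ^ p - Polynomial.C (algebraMap B M π))) :=
    ⟨X_pow_sub_C_irreducible_of_prime hp.out hroot⟩
  let M' := AdjoinRoot (Polynomial.X ^ p - Polynomial.C (algebraMap B M π))
  haveI : FiniteDimensional M M' :=
    (AdjoinRoot.powerBasis (Fact.out : Irreducible (Polynomial.X ^ p - Polynomial.C (algebraMap B M π))).ne_zero).finite
  haveI : FiniteDimensional L M' := FiniteDimensional.trans L M M'
  haveI : IsScalarTower B L M' := IsScalarTower.of_algebraMap_eq fun b =>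
    (IsScalarTower.algebraMap_apply B M M' b).trans
      ((congrArg (algebraMap M M') (IsScalarTower.algebraMap_apply B L M b)).trans
        (IsScalarTower.algebraMap_apply L M M' _).symm)
  let Q := integralClosure B M'
  haveI : Module.Finite B Q := Lib.Excellent.Nagata.finite_integralClosure_of_isN2
    (Lib.Cohen.NagataFiniteType.isN2_of_isNagata hB) L M'
  have hr : AdjoinRoot.root (Polynomial.X ^ p - Polynomial.C (algebraMap B M π)) ^ p = algebraMap B M' π := by
    have h := AdjoinRoot.eval₂_root (Polynomial.X ^ p - Polynomial.C (algebraMap B M π))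
    rw [Polynomial.eval₂_sub, Polynomial.eval₂_X_pow, Polynomial.eval₂_C, sub_eq_zero] at h
    rw [h, IsScalarTower.algebraMap_apply B M M']; rfl
  let r : Q := ⟨AdjoinRoot.root _, IsIntegral.of_pow hp.out.pos (by rw [hr]; exact isIntegral_algebraMap)⟩
  let N : Submodule B Q :=
    Submodule.comap (Q.val.toLinearMap) (LinearMap.range ((IsScalarTower.toAlgHom B M M').toLinearMap))
  haveI : CharP M' p := charP_of_injective_ringHom (algebraMap L M').injective p
  have happr : ∀ k : ℕ, Submodule.Quotient.mk (p := N) r ∈ (maximalIdeal B ^ k • ⊤ : Submodule B (Q ⧸ N)) := by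
    intro k
    obtain ⟨c, b, hc⟩ := happ (p * (k + 1)) (Nat.le_mul_of_pos_right p (by omega) |>.trans' hp.out.two_le)
    have hπ0 : algebraMap B M' (π ^ (k + 1)) ≠ 0 := by
      rw [IsScalarTower.algebraMap_apply B L M', map_ne_zero]
      exact (map_ne_zero_iff _ (IsFractionRing.injective B L)).2 (pow_ne_zero _ hπ.ne_zero)
    let z : M' := (algebraMap M M' (algebraMap C M c) - r) / algebraMap B M' (π ^ (k + 1))
    have hzp : z ^ p = algebraMap B M' b := by
      rw [div_pow, sub_pow_char, show (r : M') ^ p = algebraMap B M' π from hr, ← map_pow, ← map_pow, hc,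
        ← IsScalarTower.algebraMap_apply B C M, ← IsScalarTower.algebraMap_apply B M M', map_add, add_sub_cancel_left,
        ← map_pow (algebraMap B M'), ← pow_mul, map_mul, mul_comm (k + 1) p, mul_div_cancel_left₀]
      rw [mul_comm p (k + 1), pow_mul, map_pow]; exact pow_ne_zero _ hπ0
    let zQ : Q := ⟨z, IsIntegral.of_pow hp.out.pos (by rw [hzp]; exact isIntegral_algebraMap)⟩
    have hmem : r + π ^ (k + 1) • zQ ∈ N := ⟨algebraMap C M c, by
      show algebraMap M M' (algebraMap C M c) = (r : M') + π ^ (k + 1) • z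
      rw [Algebra.smul_def, mul_div_cancel₀ _ hπ0, add_sub_cancel]⟩
    rw [show Submodule.Quotient.mk (p := N) r = π ^ (k + 1) • Submodule.Quotient.mk (p := N) (-zQ) by
      rw [← Submodule.Quotient.mk_smul, Submodule.Quotient.eq, smul_neg, sub_neg_eq_add]; exact hmem]
    exact Submodule.smul_mem_smul (Ideal.pow_le_pow_right (Nat.le_succ k) (Ideal.pow_mem_pow hπ.not_isUnit _))
      Submodule.mem_top
  have h0 : Submodule.Quotient.mk (p := N) r = 0 := by
    rw [← Submodule.mem_bot B, ← Ideal.iInf_pow_smul_eq_bot_of_isLocalRing (R := B) (M := Q ⧸ N) (maximalIdeal B)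
      (maximalIdeal.isMaximal B).ne_top]
    exact Submodule.mem_iInf _ |>.2 happr
  obtain ⟨w, hw⟩ := (Submodule.Quotient.mk_eq_zero N).1 h0
  refine hroot w ((algebraMap M M').injective ?_)
  rw [map_pow, show algebraMap M M' w = (r : M') from hw, ← IsScalarTower.algebraMap_apply]
  exact hr

/-- The approximation datum. -/
theorem exists_datum (hdeg : Module.finrank L M = p) (hBC : Function.Injective (algebraMap B C))
    (hB : CAlg.IsNagata B) {π : B} (hπ : Irreducible π)
    (he : Ideal.ramificationIdx' (maximalIdeal B) (maximalIdeal C) ≠ 1)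
    (hne : ¬ ∃ c : C, c ^ p = algebraMap B C π) :
    ∃ (c : C) (m : ℕ) (b : B), (∀ b₀ : B, ¬ π ∣ b₀ ^ p - b) ∧
      ((m = 1 ∧ c ^ p = algebraMap B C (π * b)) ∨ (2 ≤ m ∧ c ^ p = algebraMap B C (π + π ^ m * b))) := by
  haveI : FiniteDimensional L M := Module.finite_of_finrank_pos (by rw [hdeg]; exact hp.out.pos)
  haveI : CharP C p := by
    haveI : CharP M p := charP_of_injective_ringHom (algebraMap L M).injective p
    exact RingHom.charP (algebraMap C M) (IsFractionRing.injective C M) p
  obtain ⟨τ, hτ⟩ := IsDiscreteValuationRing.exists_irreducible C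
  obtain ⟨h0, v, hv⟩ := DVRExt.exists_unit_mul_pow hBC hπ hτ
  set e := Ideal.ramificationIdx' (maximalIdeal B) (maximalIdeal C)
  obtain ⟨b1, hb1⟩ := pow_mem_base (B := B) (L := L) (M := M) hdeg τ
  have hb10 : b1 ≠ 0 := fun h => by rw [h, map_zero] at hb1; exact pow_ne_zero p hτ.ne_zero hb1.symm
  obtain ⟨j, u, rfl⟩ := IsDiscreteValuationRing.eq_unit_mul_pow_irreducible hb10 hπ
  have hje : j * e = p := by
    refine (IsDiscreteValuationRing.unit_mul_pow_congr_pow hτ hτ (Units.map (algebraMap B C).toMonoidHom u * v ^ j) 1 _ _ ?_).trans rfl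
    rw [Units.val_one, one_mul, ← hb1, map_mul, map_pow, hv, mul_pow, ← pow_mul, Units.val_mul, Units.val_pow_eq_pow_val,
      mul_comm e j]
    simp [mul_assoc]
  have hj : j = 1 := by
    rcases (Nat.dvd_prime hp.out).1 ⟨e, hje.symm⟩ with h | h
    · exact h
    · exact absurd (Nat.eq_of_mul_eq_mul_left hp.out.pos (by rw [h] at hje; rw [hje, mul_one])) he
  subst hj
  rw [pow_one, mul_comm] at hb1
  by_cases hu : ∀ b₀ : B, ¬ π ∣ b₀ ^ p - u
  · exact ⟨τ, 1, u, hu, Or.inl ⟨rfl, hb1.symm⟩⟩
  push_neg at hu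
  obtain ⟨b₀, hb₀⟩ := hu
  have hb₀u : IsUnit b₀ := by
    by_contra h
    obtain ⟨t, rfl⟩ : π ∣ b₀ := by rw [← Ideal.mem_span_singleton, ← hπ.maximalIdeal_eq]; exact h
    have : π ∣ (u : B) := by
      have h1 : π ∣ (π * t) ^ p := dvd_pow (dvd_mul_right _ _) hp.out.ne_zero
      simpa using dvd_sub h1 hb₀
    exact hπ.not_isUnit (isUnit_of_dvd_unit this u.isUnit)
  obtain ⟨w, hw⟩ := hb₀u.exists_right_inv
  obtain ⟨s, hs⟩ := hb₀
  let P : ℕ → Prop := fun m => ∃ (c : C) (b : B), c ^ p = algebraMap B C (π + π ^ m * b)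
  have hP2 : P 2 := ⟨τ * algebraMap B C w, -(w ^ p * s), by
    rw [mul_pow, ← hb1, ← map_pow, ← map_mul]
    congr 1
    have h1 : b₀ ^ p * w ^ p = 1 := by rw [← mul_pow, hw, one_pow]
    linear_combination (-(π * w ^ p)) * hs + π * h1⟩
  obtain ⟨m, hm, hPm, hmax⟩ : ∃ m, 2 ≤ m ∧ P m ∧ ¬ P (m + 1) := by
    by_contra h
    push_neg at h
    exact hne (exists_pow_eq (L := L) (M := M) hBC hB hπ fun m hm => Nat.le_induction hP2 (fun m hm hP => h m hm hP) m hm)
  obtain ⟨c, b, hc⟩ := hPm
  refine ⟨c, m, b, fun t ht => hmax ?_, Or.inr ⟨hm, hc⟩⟩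
  obtain ⟨l, rfl⟩ : ∃ l, m = l + 1 := ⟨m - 1, by omega⟩
  obtain ⟨s, hs⟩ := ht
  obtain ⟨s', hs'⟩ : π ∣ (1 + π ^ l * b) ^ (l + 1) - 1 :=
    (dvd_mul_of_dvd_left (dvd_pow_self π (show l ≠ 0 by omega)) b).trans
      (by simpa using sub_dvd_pow_sub_pow (1 + π ^ l * b) 1 (l + 1))
  refine ⟨c - c ^ (l + 1) * algebraMap B C t, -(s + s' * t ^ p), ?_⟩
  rw [sub_pow_char, mul_pow, ← pow_mul, mul_comm (l + 1) p, pow_mul, hc, ← map_pow, ← map_pow, ← map_mul, ← map_sub]
  congr 1
  rw [show (π + π ^ (l + 1) * b) ^ (l + 1) = π ^ (l + 1) * (1 + π ^ l * b) ^ (l + 1) by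
    rw [← mul_pow]; ring_nf]
  linear_combination (-(π ^ (l + 1))) * hs + (-(π ^ (l + 1) * t ^ p)) * hs'

end Datum

section Core

variable {A B K L K₁ T : Type u} [CommRing A] [IsDomain A] [IsDiscreteValuationRing A]
  [CommRing B] [IsDomain B] [IsDiscreteValuationRing B] [Algebra A B] [IsLocalHom (algebraMap A B)]
  [Field K] [Field L] [Field K₁] [Field T] [Algebra A K] [IsFractionRing A K] [Algebra B L] [IsFractionRing B L]
  [Algebra K L] [Algebra A L] [IsScalarTower A K L] [IsScalarTower A B L]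
  [Algebra K K₁] [FiniteDimensional K K₁] [Algebra A K₁] [IsScalarTower A K K₁]
  [Algebra K T] [Algebra L T] [IsScalarTower K L T]

theorem finrank_le (f : K₁ →ₐ[K] T) (hgen : Algebra.adjoin L (Set.range f) = ⊤) :
    Module.finrank L T ≤ Module.finrank K K₁ := by
  let Φ : L ⊗[K] K₁ →ₐ[L] T := Algebra.TensorProduct.lift (Algebra.ofId L T) f fun _ _ => Commute.all _ _
  have hΦ : Function.Surjective Φ := by
    rw [← AlgHom.range_eq_top, eq_top_iff, ← hgen]
    refine Algebra.adjoin_le ?_
    rintro _ ⟨x, rfl⟩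
    exact ⟨(1 : L) ⊗ₜ x, by simp [Φ]⟩
  exact (LinearMap.finrank_le_finrank_of_injective (f := (LinearMap.exists_rightInverse_of_surjective Φ.toLinearMap
    (LinearMap.range_eq_top.2 hΦ)).choose) (fun x y h => by
      have := (LinearMap.exists_rightInverse_of_surjective Φ.toLinearMap (LinearMap.range_eq_top.2 hΦ)).choose_spec
      simpa [← LinearMap.comp_apply, this] using congrArg Φ.toLinearMap h)).trans_eq (Module.finrank_baseChange)

/-- The place of a field generated by an extension with a root of `X ^ p = π + π ^ n β`. -/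
theorem core (hinj : Function.Injective (algebraMap A B)) {π : A} (hπ : Irreducible π)
    (hπB : Irreducible (algebraMap A B π)) (hK₁ : Module.finrank K K₁ = p) {n : ℕ} (hn : 2 ≤ n) (x β : K₁)
    (hx : IsIntegral A x) (hβ : IsIntegral A β) (heq : x ^ p = algebraMap A K₁ π + algebraMap A K₁ π ^ n * β)
    (f : K₁ →ₐ[K] T) (hgen : Algebra.adjoin L (Set.range f) = ⊤) (W : ValuationSubring T)
    (hW : Dominates B ((algebraMap L T).comp (algebraMap B L)) W) :
    ∃ (_ : IsDiscreteValuationRing W) (r γ : W) (u : Wˣ), Irreducible r ∧ (r : T) = f x ∧ (γ : T) = f β ∧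
      Module.finrank L T = p ∧
      RingHom.codRestrict _ W hW.1 (algebraMap A B π) = u * r ^ p := by
  haveI : FiniteDimensional L T := FSExt.finite_of_adjoin f hgen
  haveI : IsDiscreteValuationRing W := FSExt.isDVR W hW
  letI : Algebra B W := (RingHom.codRestrict _ W hW.1).toAlgebra
  haveI : IsLocalHom (algebraMap B W) := DomVal.isLocalHom_of_dominates hW
  letI : Algebra A W := ((algebraMap B W).comp (algebraMap A B)).toAlgebra
  letI : Algebra A T := ((algebraMap L T).comp (algebraMap A L)).toAlgebra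
  haveI : IsScalarTower A W T := IsScalarTower.of_algebraMap_eq fun a => by
    show algebraMap L T (algebraMap A L a) = algebraMap L T (algebraMap B L (algebraMap A B a))
    rw [← IsScalarTower.algebraMap_apply A B L]
  have hfA : ∀ a, f (algebraMap A K₁ a) = algebraMap A T a := fun a => by
    rw [IsScalarTower.algebraMap_apply A K K₁, f.commutes]
    show _ = algebraMap L T (algebraMap A L a)
    rw [IsScalarTower.algebraMap_apply A K L, ← IsScalarTower.algebraMap_apply K L T]
  let fA : K₁ →ₐ[A] T := { f.toRingHom with commutes' := hfA }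
  have hint : ∀ y : K₁, IsIntegral A y → ∃ w : W, (w : T) = f y := fun y hy => by
    obtain ⟨w, hw⟩ := IsIntegrallyClosed.isIntegral_iff.1 ((hy.map fA).tower_top (A := W))
    exact ⟨w, hw⟩
  obtain ⟨r, hr⟩ := hint x hx
  obtain ⟨γ, hγ⟩ := hint β hβ
  set P := algebraMap B W (algebraMap A B π) with hP
  have hPm : P ∈ maximalIdeal W := map_nonunit _ _ hπB.not_isUnit
  have hu : IsUnit (1 + P ^ (n - 1) * γ) := by
    rw [← sub_neg_eq_add]
    exact isUnit_one_sub_self_of_mem_nonunits _ (neg_mem (Ideal.mul_mem_right _ (maximalIdeal W) (Ideal.pow_mem_of_mem _ hPm _ (by omega))))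
  have hrp : r ^ p = P * (1 + P ^ (n - 1) * γ) := Subtype.ext (by
    push_cast
    rw [hr, hγ, ← map_pow, heq, map_add, map_mul, map_pow, hfA]
    rw [show (P : T) = algebraMap A T π from (IsScalarTower.algebraMap_apply A W T π).symm]
    conv_lhs => rw [← Nat.sub_add_cancel (by omega : 1 ≤ n), pow_succ]
    ring)
  have hinjW : Function.Injective (algebraMap B W) := fun a b h => IsFractionRing.injective B L
    ((algebraMap L T).injective (congrArg Subtype.val h))
  obtain ⟨τ, hτ⟩ := IsDiscreteValuationRing.exists_irreducible W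
  obtain ⟨h0, v, hv⟩ := DVRExt.exists_unit_mul_pow hinjW hπB hτ
  have he : Ideal.ramificationIdx' (maximalIdeal B) (maximalIdeal W) ≤ Module.finrank L T :=
    FSExt.ramificationIdx_le_finrank (B := B) (L := L) W hW
  have hle := (finrank_le (L := L) f hgen).trans_eq hK₁
  set e := Ideal.ramificationIdx' (maximalIdeal B) (maximalIdeal W)
  have hr0 : r ≠ 0 := fun h => by
    rw [h, zero_pow hp.out.ne_zero, eq_comm, mul_eq_zero] at hrp
    exact hrp.elim ((map_ne_zero_iff _ hinjW).2 hπB.ne_zero) hu.ne_zero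
  obtain ⟨j, w, hj⟩ := IsDiscreteValuationRing.eq_unit_mul_pow_irreducible hr0 hτ
  have hje : j * p = e := by
    refine IsDiscreteValuationRing.unit_mul_pow_congr_pow hτ hτ (w ^ p) (v * hu.unit) _ _ ?_
    push_cast [IsUnit.unit_spec]
    rw [pow_mul, ← mul_pow, ← hj, hrp, hP, hv]; ring
  have hj1 : j = 1 := by
    rcases Nat.eq_zero_or_pos j with h | h
    · rw [h, zero_mul] at hje; exact absurd hje.symm h0
    · by_contra hne
      have : 2 * p ≤ j * p := Nat.mul_le_mul_right p (by omega)
      have := hp.out.pos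
      omega
  have hirr : Irreducible r := by rw [hj, hj1, pow_one]; exact (irreducible_units_mul w).2 hτ
  refine ⟨inferInstance, r, γ, hu.unit⁻¹, hirr, hr, hγ, ?_, ?_⟩
  · rw [hj1, one_mul] at hje; omega
  · show P = _
    rw [hrp, mul_comm P, ← mul_assoc, IsUnit.val_inv_mul, one_mul]

end Core

end Groth.Agent.H48.EppInsep
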