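import Mathlib.RingTheory.Valuation.ValuationRing
import Mathlib.RingTheory.Bezout
import Mathlib.RingTheory.Flat.TorsionFree
import Mathlib.RingTheory.LocalRing.Module
import Mathlib.LinearAlgebra.Matrix.Charpoly.LinearMap
import Mathlib.RingTheory.Nakayama
import Mathlib.RingTheory.Finiteness.Basic
import Mathlib.RingTheory.Finiteness.Prod
import Mathlib.Algebra.Module.FinitePresentation
import Mathlib.RingTheory.IntegralClosure.IsIntegralClosure.Basic

/-!
# Content of elements of unramified finite algebras over valuation rings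
-/

set_option autoImplicit false
universe u v w

open Polynomial IsLocalRing

namespace Groth.Agent.H48.EtaleVal

variable {A : Type u} [CommRing A] [IsDomain A] [ValuationRing A]
  {D : Type v} [CommRing D] [Algebra A D] (p : Ideal D)

/-- `c` kills `M` after localizing at `p`. -/
def Kills (M : Type w) [AddCommGroup M] [Module A M] [Module D M] (c : A) : Prop :=
  ∀ x : M, ∃ s ∉ p, s • c • x = 0

variable [p.IsPrime]

theorem kills_one_of_smul_le (hp : maximalIdeal A ≤ p.comap (algebraMap A D)) (M : Type w) [AddCommGroup M] [Module A M] [Module D M]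
    [IsScalarTower A D M] [Module.Finite A M]
    (h : ∀ x : M, ∃ s ∉ p, s • x ∈ (maximalIdeal A • ⊤ : Submodule A M)) : Kills p M (1 : A) := by
  classical
  obtain ⟨G, hG⟩ := (Module.Finite.fg_top : (⊤ : Submodule A M).FG)
  choose s hsp hs using h
  let s₀ : D := ∏ g ∈ G, s g
  have hs₀ : s₀ ∉ p := fun hc => by
    obtain ⟨g, -, hg⟩ := (Ideal.IsPrime.prod_mem_iff (p := p)).1 hc
    exact hsp g hg
  let f : Module.End A M := Algebra.lsmul A A M s₀
  have hf : LinearMap.range f ≤ maximalIdeal A • ⊤ := by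
    rw [LinearMap.range_eq_map]
    conv_lhs => rw [← hG]
    rw [Submodule.map_span_le]
    intro g hg
    have : s₀ = (∏ g' ∈ G.erase g, s g') * s g := (Finset.prod_erase_mul G s hg).symm
    show s₀ • g ∈ maximalIdeal A • ⊤
    rw [this, mul_smul]
    refine Submodule.smul_induction_on (p := fun y => (∏ g' ∈ G.erase g, s g') • y ∈ maximalIdeal A • (⊤ : Submodule A M))
      (hs g) (fun a ha y _ => ?_) fun y z hy hz => by rw [smul_add]; exact add_mem hy hz
    rw [smul_comm]
    exact Submodule.smul_mem_smul ha trivial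
  obtain ⟨q, hq, -, hcoeff, hq0⟩ :=
    LinearMap.exists_monic_and_natDegree_eq_and_coeff_mem_pow_and_aeval_eq_zero A f (maximalIdeal A) hf
  let t : D := aeval s₀ q
  have ht : t ∉ p := by
    have : t = s₀ ^ q.natDegree + ∑ i ∈ Finset.range q.natDegree, algebraMap A D (q.coeff i) * s₀ ^ i := by
      conv_lhs => rw [show t = aeval s₀ q from rfl, hq.as_sum]
      simp [map_sum]
    intro hc
    rw [this] at hc
    refine hs₀ (‹p.IsPrime›.mem_of_pow_mem q.natDegree ((p.add_mem_iff_left (Ideal.sum_mem _ fun i hi => ?_)).1 hc))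
    refine Ideal.mul_mem_right _ _ (hp (Ideal.pow_le_self ?_ (hcoeff i)))
    have := Finset.mem_range.1 hi; omega
  refine fun x => ⟨t, ht, ?_⟩
  rw [one_smul]
  have : aeval (Algebra.lsmul A A M s₀) q = Algebra.lsmul A A M t := aeval_algHom_apply _ s₀ q
  exact (LinearMap.congr_fun this x).symm.trans (LinearMap.congr_fun hq0 x)

theorem exists_kills (hp : maximalIdeal A ≤ p.comap (algebraMap A D)) :
    ∀ (r : ℕ) (M : Type w) [AddCommGroup M] [Module A M] [Module D M] [IsScalarTower A D M]
      [Module.FinitePresentation A M] (v : Fin r → M), Submodule.span A (Set.range v) = ⊤ →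
      (∃ a₀ : A, a₀ ≠ 0 ∧ ∀ x : M, a₀ • x = 0) →
      ∃ a : A, Kills p M a ∧ ∀ c, Kills p M c → a ∣ c := by
  classical
  have hone : (1 : D) ∉ p := p.ne_top_iff_one.1 (Ideal.IsPrime.ne_top ‹_›)
  intro r
  induction r with
  | zero =>
    intro M _ _ _ _ _ v hv _
    refine ⟨1, fun x => ⟨1, hone, ?_⟩, fun c _ => one_dvd c⟩
    have : x ∈ (⊥ : Submodule A M) := by
      rw [← Submodule.span_empty, ← Set.range_eq_empty v, hv]; trivial
    rw [(Submodule.mem_bot A).1 this, smul_zero, smul_zero]
  | succ r ih =>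
    intro M _ _ _ _ _ v hv ht
    by_cases h1 : Kills p M (1 : A)
    · exact ⟨1, h1, fun c _ => one_dvd c⟩
    obtain ⟨a₀, ha₀, hann⟩ := ht
    let π : (Fin (r + 1) → A) →ₗ[A] M := Fintype.linearCombination A v
    have hπ : Function.Surjective π := by
      rw [← LinearMap.range_eq_top, Fintype.range_linearCombination, hv]
    have hK : (LinearMap.ker π).FG := Module.FinitePresentation.fg_ker π hπ
    -- a relation with a unit coefficient removes a generator
    have key : ∀ (N : Type w) [AddCommGroup N] [Module A N] (w : Fin (r + 1) → N),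
        Submodule.span A (Set.range w) = ⊤ → ∀ y : Fin (r + 1) → A, Fintype.linearCombination A w y = 0 →
          ∀ i, IsUnit (y i) → Submodule.span A (Set.range (w ∘ i.succAbove)) = ⊤ := by
      intro N _ _ w hw y hy i hi
      refine top_le_iff.1 (hw ▸ Submodule.span_le.2 ?_)
      rintro _ ⟨j, rfl⟩
      rcases Fin.eq_self_or_eq_succAbove i j with h | ⟨k, rfl⟩
      · rw [h]
        rw [Fintype.linearCombination_apply, Fin.sum_univ_succAbove _ i, add_eq_zero_iff_eq_neg] at hy
        refine (Submodule.smul_mem_iff_of_isUnit _ hi).1 ?_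
        rw [hy]
        exact Submodule.neg_mem _ (Submodule.sum_mem _ fun k _ =>
          Submodule.smul_mem _ _ (Submodule.subset_span ⟨k, rfl⟩))
      · exact Submodule.subset_span ⟨k, rfl⟩
    by_cases hunit : ∃ y ∈ LinearMap.ker π, ∃ i, IsUnit (y i)
    · obtain ⟨y, hy, i, hi⟩ := hunit
      exact ih M _ (key M v hv y hy i hi) ⟨a₀, ha₀, hann⟩
    push Not at hunit
    obtain ⟨G, hG⟩ := hK
    let T : Finset A := Finset.univ.biUnion fun i => G.image fun g => g i
    let I : Ideal A := Ideal.span (T : Set A)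
    obtain ⟨⟨a₁, ha₁⟩⟩ := IsBezout.isPrincipal_of_FG I ⟨T, rfl⟩
    replace ha₁ : I = Ideal.span {a₁} := ha₁
    have hcoord : ∀ y ∈ LinearMap.ker π, ∀ i, a₁ ∣ y i := by
      intro y hy i
      rw [← Ideal.mem_span_singleton, ← ha₁]
      rw [← hG] at hy
      refine Submodule.span_induction (p := fun y _ => y i ∈ I) (fun g hg => ?_) (Ideal.zero_mem _)
        (fun _ _ _ _ h h' => Ideal.add_mem _ h h') (fun a _ _ h => Ideal.mul_mem_left _ a h) hy
      exact Ideal.subset_span (Finset.mem_coe.2 (Finset.mem_biUnion.2 ⟨i, Finset.mem_univ _, Finset.mem_image_of_mem _ hg⟩))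
    have ha₁0 : a₁ ≠ 0 := by
      rintro rfl
      have hmem : Pi.single (0 : Fin (r + 1)) a₀ ∈ LinearMap.ker π := by
        rw [LinearMap.mem_ker, Fintype.linearCombination_apply_single]
        exact hann _
      have := hcoord _ hmem 0
      rw [Pi.single_eq_same] at this
      exact ha₀ (zero_dvd_iff.1 this)
    have hmin : ∀ c, Kills p M c → a₁ ∣ c := by
      intro c hc
      by_contra hndvd
      refine h1 (kills_one_of_smul_le p hp M fun x => ?_)
      obtain ⟨s, hs, hsx⟩ := hc x
      refine ⟨s, hs, ?_⟩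
      obtain ⟨y, hy⟩ := hπ (s • x)
      have hcy : c • y ∈ LinearMap.ker π := by
        rw [LinearMap.mem_ker, map_smul, hy, smul_comm]; exact hsx
      rw [← hy, show π y = ∑ i, y i • v i from Fintype.linearCombination_apply A v y]
      refine Submodule.sum_mem _ fun i _ => ?_
      refine Submodule.smul_mem_smul (by_contra fun hu => hndvd ?_) trivial
      have hd := hcoord _ hcy i
      rwa [Pi.smul_apply, smul_eq_mul, (notMem_maximalIdeal.1 hu).dvd_mul_right] at hd
    let M' : Submodule D M := LinearMap.range (DistribSMul.toLinearMap D M a₁)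
    have hmemM' : ∀ x : M, a₁ • x ∈ M' := fun x => ⟨x, rfl⟩
    let ρ : M →ₗ[A] M' := (a₁ • LinearMap.id : M →ₗ[A] M).codRestrict (M'.restrictScalars A) hmemM'
    have hρ : Function.Surjective ρ := fun ⟨y, x, hx⟩ => ⟨x, Subtype.ext hx⟩
    let v' : Fin (r + 1) → M' := ρ ∘ v
    have hv' : Submodule.span A (Set.range v') = ⊤ := by
      rw [Set.range_comp, ← Submodule.map_span, hv, Submodule.map_top, LinearMap.range_eq_top.2 hρ]
    let μ : (Fin (r + 1) → A) →ₗ[A] Fin (r + 1) → A := a₁ • LinearMap.id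
    have hμ : Function.Injective μ := fun y z h => funext fun i => mul_left_cancel₀ ha₁0 (congrFun h i)
    have hker : LinearMap.ker (ρ.comp π) = (LinearMap.ker π).comap μ := by
      ext y
      rw [Submodule.mem_comap, LinearMap.mem_ker, LinearMap.mem_ker, Subtype.ext_iff]
      show a₁ • π y = 0 ↔ π (a₁ • y) = 0
      rw [map_smul]
    have hle : LinearMap.ker π ≤ LinearMap.range μ := fun y hy => by
      choose z hz using hcoord y hy
      exact ⟨z, funext fun i => (hz i).symm⟩
    have : Module.FinitePresentation A M' := by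
      refine Module.finitePresentation_of_surjective (ρ.comp π) (hρ.comp hπ) ?_
      rw [hker]
      refine Submodule.fg_of_fg_map_injective μ hμ ?_
      rw [Submodule.map_comap_eq_self hle]
      exact ⟨G, hG⟩
    -- some coordinate of a relation is a unit multiple of `a₁`
    obtain ⟨y, hy, i, hi⟩ : ∃ y ∈ LinearMap.ker π, ∃ i, ∃ z, y i = a₁ * z ∧ IsUnit z := by
      by_contra hno
      push Not at hno
      have hle' : I ≤ maximalIdeal A • I := by
        refine Ideal.span_le.2 fun b hb => ?_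
        obtain ⟨i, -, hb⟩ := Finset.mem_biUnion.1 hb
        obtain ⟨g, hg, rfl⟩ := Finset.mem_image.1 hb
        have hgK : g ∈ LinearMap.ker π := hG ▸ Submodule.subset_span hg
        obtain ⟨z, hz⟩ := hcoord g hgK i
        rw [hz, mul_comm]
        exact Submodule.smul_mem_smul (by_contra fun hu => hno g hgK i z hz (notMem_maximalIdeal.1 hu))
          (ha₁ ▸ Ideal.mem_span_singleton_self a₁)
      have := Submodule.eq_bot_of_le_smul_of_le_jacobson_bot (maximalIdeal A) I ⟨_, rfl⟩ hle' (maximalIdeal_le_jacobson _)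
      exact ha₁0 (Ideal.span_singleton_eq_bot.1 (ha₁ ▸ this))
    obtain ⟨u, hu, huu⟩ := hi
    obtain ⟨z, hz⟩ := hle hy
    have hzi : z i = u := mul_left_cancel₀ ha₁0 ((congrFun hz i).trans hu)
    have hrel : Fintype.linearCombination A v' z = 0 := by
      have : z ∈ LinearMap.ker (ρ.comp π) := by rw [hker, Submodule.mem_comap, hz]; exact hy
      rw [LinearMap.mem_ker, LinearMap.comp_apply, Fintype.linearCombination_apply, map_sum] at this
      simpa [Fintype.linearCombination_apply, v'] using this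
    obtain ⟨a', hkill, hmin'⟩ := ih M' _ (key M' v' hv' z hrel i (hzi ▸ huu))
      ⟨a₀, ha₀, fun x => Subtype.ext (hann _)⟩
    refine ⟨a₁ * a', fun x => ?_, fun c hc => ?_⟩
    · obtain ⟨s, hs, h⟩ := hkill ⟨_, hmemM' x⟩
      refine ⟨s, hs, ?_⟩
      rw [mul_comm, mul_smul]
      exact congrArg Subtype.val h
    · obtain ⟨c', rfl⟩ := hmin c hc
      refine mul_dvd_mul_left _ (hmin' c' ?_)
      rintro ⟨x, y, rfl⟩
      obtain ⟨s, hs, h⟩ := hc y
      refine ⟨s, hs, Subtype.ext ?_⟩
      show s • c' • a₁ • y = 0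
      rwa [← mul_smul c', mul_comm c']

variable [Module.Finite A D] [Module.IsTorsionFree A D]

/-- In a finite torsion free algebra, unramified and reduced at `p`, every element is locally at `p`
zero or a scalar times a unit. -/
theorem content (hp : maximalIdeal A ≤ p.comap (algebraMap A D))
    (hmax : ∀ d ∈ p, ∃ s ∉ p, s * d ∈ (maximalIdeal A).map (algebraMap A D))
    (hred : ∀ (d s : D) (n : ℕ), s ∉ p → s * d ^ n = 0 → ∃ t ∉ p, t * d = 0) (d : D) :
    (∃ s ∉ p, s * d = 0) ∨ ∃ c : A, c ≠ 0 ∧ ∃ s ∉ p, ∃ t ∉ p, s * d = c • t := by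
  classical
  have hone : (1 : D) ∉ p := p.ne_top_iff_one.1 (Ideal.IsPrime.ne_top ‹_›)
  have hmulp : ∀ {s t : D}, s ∉ p → t ∉ p → s * t ∉ p := fun hs ht h =>
    (‹p.IsPrime›.mem_or_mem h).elim hs ht
  by_cases hd : d ∈ p
  swap
  · exact Or.inr ⟨1, one_ne_zero, 1, hone, d, hd, by rw [one_smul, one_mul]⟩
  have hprinc : ∀ y ∈ (maximalIdeal A).map (algebraMap A D), ∃ c ∈ maximalIdeal A, ∃ z : D, y = c • z := by
    intro y hy
    induction hy using Submodule.span_induction with
    | mem x hx =>
      obtain ⟨c, hc, rfl⟩ := hx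
      exact ⟨c, hc, 1, by rw [Algebra.smul_def, mul_one]⟩
    | zero => exact ⟨0, zero_mem _, 0, (zero_smul A (0 : D)).symm⟩
    | add x y _ _ hx hy =>
      obtain ⟨c, hc, z, rfl⟩ := hx
      obtain ⟨c', hc', z', rfl⟩ := hy
      rcases ValuationRing.dvd_total c c' with ⟨e, rfl⟩ | ⟨e, rfl⟩
      · exact ⟨c, hc, z + e • z', by rw [smul_add, mul_smul]⟩
      · exact ⟨c', hc', e • z + z', by rw [smul_add, mul_smul]⟩
    | smul r x _ hx =>
      obtain ⟨c, hc, z, rfl⟩ := hx
      exact ⟨c, hc, r * z, by rw [smul_eq_mul, mul_smul_comm]⟩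
  obtain ⟨s₀, hs₀, h₀⟩ := hmax d hd
  obtain ⟨c₀, hc₀, z₀, hz₀⟩ := hprinc _ h₀
  rcases eq_or_ne c₀ 0 with rfl | hc₀0
  · exact Or.inl ⟨s₀, hs₀, by rw [hz₀, zero_smul]⟩
  -- an algebraic relation
  obtain ⟨q, hqm, hq⟩ := (Algebra.IsIntegral.of_finite A D).isIntegral d
  obtain ⟨q', hqq', hndvd⟩ := q.exists_eq_pow_rootMultiplicity_mul_and_not_dvd hqm.ne_zero 0
  rw [C_0, sub_zero] at hqq' hndvd
  set k := q.rootMultiplicity 0
  have hq'0 : q'.coeff 0 ≠ 0 := fun h => hndvd (X_dvd_iff.2 h)
  let w : D := aeval d q'.divX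
  have hrel : d ^ k * (algebraMap A D (q'.coeff 0) + d * w) = 0 := by
    have h2 : aeval d q = 0 := hq
    rw [hqq', map_mul, map_pow, aeval_X, ← X_mul_divX_add q', map_add, map_mul, aeval_X, aeval_C] at h2
    rw [← h2, add_comm]
  let a : A := q'.coeff 0 * c₀
  have ha : a ≠ 0 := mul_ne_zero hq'0 hc₀0
  let K : Submodule D D := Submodule.comap (LinearMap.mulLeft D d) (Ideal.span {algebraMap A D a})
  have hKmem : ∀ x, x ∈ K ↔ ∃ y, a • y = d * x := fun x => by
    rw [Submodule.mem_comap, Ideal.mem_span_singleton']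
    simp [Algebra.smul_def, mul_comm]
  have : Module.Flat A D :=
    Module.Flat.flat_iff_torsion_eq_bot_of_isBezout.2 (Submodule.isTorsionFree_iff_torsion_eq_bot.1 ‹_›)
  have : Module.Free A D := Module.free_of_flat_of_isLocalRing
  have : Module.FinitePresentation A D := Module.finitePresentation_of_projective A D
  have hKfg : (K.restrictScalars A).FG := by
    let φ : D × D →ₗ[A] D := (LinearMap.mulLeft A d).coprod (-(a • LinearMap.id))
    have : Module.Finite A (LinearMap.range φ) := Module.Finite.range φ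
    have : Module.Flat A (LinearMap.range φ) := by
      refine Module.Flat.flat_iff_torsion_eq_bot_of_isBezout.2 (Submodule.isTorsionFree_iff_torsion_eq_bot.1 ?_)
      infer_instance
    have : Module.Free A (LinearMap.range φ) := Module.free_of_flat_of_isLocalRing
    have : Module.FinitePresentation A (LinearMap.range φ) := Module.finitePresentation_of_projective A _
    have hfg := Module.FinitePresentation.fg_ker φ.rangeRestrict φ.surjective_rangeRestrict
    rw [LinearMap.ker_rangeRestrict] at hfg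
    have : K.restrictScalars A = (LinearMap.ker φ).map (LinearMap.fst A D D) := by
      ext x
      rw [Submodule.restrictScalars_mem, hKmem]
      simp only [Submodule.mem_map, LinearMap.mem_ker, LinearMap.fst_apply, Prod.exists, φ]
      constructor
      · rintro ⟨y, hy⟩; exact ⟨x, y, by simp [hy], rfl⟩
      · rintro ⟨x', y, h, rfl⟩
        exact ⟨y, (eq_of_sub_eq_zero (by simpa [sub_eq_add_neg] using h)).symm⟩
    rw [this]
    exact hfg.map _
  have : Module.FinitePresentation A (D ⧸ K) :=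
    Module.finitePresentation_of_surjective ((Submodule.mkQ K).restrictScalars A) (Submodule.mkQ_surjective K)
      (by rw [LinearMap.ker_restrictScalars, Submodule.ker_mkQ]; exact hKfg)
  obtain ⟨G, hG⟩ := (Module.Finite.fg_top : (⊤ : Submodule A (D ⧸ K)).FG)
  obtain ⟨a', hkill, hmin⟩ := exists_kills p hp G.card (D ⧸ K) (fun i => (G.equivFin.symm i : D ⧸ K))
    (by
      rw [← hG]
      refine congrArg (Submodule.span A) (Set.ext fun x => ⟨?_, fun hx => ?_⟩)
      · rintro ⟨i, rfl⟩; exact (G.equivFin.symm i).2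
      · exact ⟨G.equivFin ⟨x, hx⟩, by simp⟩)
    ⟨a, ha, fun x => by
      obtain ⟨x, rfl⟩ := Submodule.mkQ_surjective K x
      exact (Submodule.Quotient.mk_eq_zero K).2 ((hKmem _).2 ⟨d * x, by simp [Algebra.smul_def]; ring⟩)⟩
  have hkills : ∀ (c : A) (s : D), s ∉ p → (∃ y, a • y = s * (c • d)) → Kills p (D ⧸ K) c := by
    intro c s hs ⟨y, hy⟩ x
    obtain ⟨x, rfl⟩ := Submodule.mkQ_surjective K x
    refine ⟨s, hs, (Submodule.Quotient.mk_eq_zero K).2 ((hKmem _).2 ⟨y * x, ?_⟩)⟩
    rw [← smul_mul_assoc, hy]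
    simp [Algebra.smul_def]
    ring
  obtain ⟨s, hs, hsK⟩ := hkill (Submodule.Quotient.mk 1)
  obtain ⟨y, hy⟩ := (hKmem _).1 ((Submodule.Quotient.mk_eq_zero K).1 hsK)
  have hy' : a • y = s * (a' • d) := by rw [hy]; simp [Algebra.smul_def]; ring
  obtain ⟨e, he⟩ := hmin a (hkills a 1 hone ⟨d, by rw [one_mul]⟩)
  have ha' : a' ≠ 0 := fun h => ha (by rw [he, h, zero_mul])
  have hsd : s * d = e • y := by
    refine smul_right_injective D ha' ?_
    show a' • (s * d) = a' • e • y
    rw [← mul_smul, ← he, hy', mul_smul_comm]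
  by_cases hu : IsUnit a'
  · left
    obtain ⟨a'', rfl⟩ := hu
    have he' : e = a * ↑a''⁻¹ := by rw [he, mul_comm (a'' : A), mul_assoc, Units.mul_inv, mul_one]
    let y₁ : D := (↑a''⁻¹ : A) • y
    have hsd1 : s * d = algebraMap A D (q'.coeff 0) * (algebraMap A D c₀ * y₁) := by
      rw [hsd, he']; simp [y₁, a, Algebra.smul_def]; ring
    have hs' : s + algebraMap A D c₀ * y₁ * w ∉ p := fun h =>
      hs ((p.add_mem_iff_left (Ideal.mul_mem_right _ _ (Ideal.mul_mem_right _ _ (hp hc₀)))).1 h)
    refine hred d _ k hs' (smul_right_injective D hq'0 ?_)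
    show q'.coeff 0 • _ = q'.coeff 0 • (0 : D)
    rw [smul_zero, Algebra.smul_def]
    linear_combination s * hrel - (d ^ k * w) * hsd1
  · by_cases hy2 : y ∈ p
    swap
    · exact Or.inr ⟨e, fun h => ha (by rw [he, h, mul_zero]), s, hs, y, hy2, hsd⟩
    obtain ⟨t, ht, hty⟩ := hmax y hy2
    obtain ⟨c₁, hc₁, z, hz⟩ := hprinc _ hty
    rcases eq_or_ne c₁ 0 with rfl | hc₁0
    · refine Or.inl ⟨t * s, hmulp ht hs, ?_⟩
      rw [mul_assoc, hsd, mul_smul_comm, hz, zero_smul, smul_zero]
    exfalso
    have hts : (t * s) * (a' • d) = a • c₁ • z := by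
      rw [mul_assoc, ← hy', mul_smul_comm, hz]
    rcases ValuationRing.dvd_total c₁ a' with ⟨c', hc'⟩ | ⟨f, hf⟩
    · have : Kills p (D ⧸ K) c' := by
        refine hkills c' (t * s) (hmulp ht hs) ⟨z, smul_right_injective D hc₁0 ?_⟩
        show c₁ • a • z = c₁ • (t * s * (c' • d))
        rw [← mul_smul_comm, ← mul_smul c₁ c' d, ← hc', hts, smul_comm]
      obtain ⟨g, hg⟩ := hmin c' this
      refine (mem_maximalIdeal c₁).1 hc₁ (IsUnit.of_mul_eq_one g (mul_left_cancel₀ ha' ?_))
      rw [mul_one]; linear_combination -hc' - c₁ * hg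
    · have : Kills p (D ⧸ K) (1 : A) := by
        refine hkills 1 (t * s) (hmulp ht hs) ⟨f • z, smul_right_injective D ha' ?_⟩
        show a' • a • f • z = a' • (t * s * ((1 : A) • d))
        rw [one_smul, ← mul_smul_comm, hts, hf, ← mul_smul, ← mul_smul, ← mul_smul]
        congr 1; ring
      exact hu (isUnit_of_dvd_one (hmin 1 this))

end Groth.Agent.H48.EtaleVal
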