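import Groth.Agent.H48.FSExtAux
import Groth.Agent.H52.FBase.GeomRed
import Groth.Agent.Lib.GrpQ.SmoothPt
import Groth.Agent.Lib.Cyc.MultPow

set_option autoImplicit false
set_option linter.style.haveILetI false
universe u
open IsLocalRing TensorProduct Polynomial

namespace Groth.Agent.H48.FSExt

theorem zeroDim_minimal {Q : Type u} [CommRing Q] (hdim : ∀ q : Ideal Q, q.IsPrime → q.IsMaximal) (p : Ideal Q)
    [p.IsPrime] : p ∈ minimalPrimes Q :=
  ⟨⟨inferInstance, bot_le⟩, fun q hq hle => ((hdim q hq.1).eq_of_le (Ideal.IsPrime.ne_top inferInstance) hle).symm.le⟩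

/-- The structure theorem behind Abhyankar's lemma. -/
theorem core {M : Type u} [Field M] (W : ValuationSubring M) [IsDiscreteValuationRing W] {P : Type u} [CommRing P]
    (φ : P →+* W) (t : P) (ht : φ t ∈ maximalIdeal W) (ht0 : φ t ≠ 0)
    (hgen : ∀ z : M, ∃ a b : P, φ b ≠ 0 ∧ z * (φ b : M) = φ a)
    {Q : Type u} [CommRing Q] [IsReduced Q] (hdim : ∀ q : Ideal Q, q.IsPrime → q.IsMaximal)
    (ψ : Q →+* P ⧸ Ideal.span {t}) (hψ : Function.Surjective ψ) :
    maximalIdeal W = Ideal.span {φ t} ∧ Function.Surjective ((residue W).comp φ) := by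
  classical
  let n : Ideal P := (maximalIdeal W).comap φ
  haveI : n.IsPrime := Ideal.IsPrime.comap φ
  have htn : Ideal.span {t} ≤ n := (Ideal.span_singleton_le_iff_mem _).2 ht
  let q : Ideal Q := (n.map (Ideal.Quotient.mk (Ideal.span {t}))).comap ψ
  haveI : (n.map (Ideal.Quotient.mk (Ideal.span {t}))).IsPrime :=
    Ideal.map_isPrime_of_surjective Ideal.Quotient.mk_surjective (by rwa [Ideal.mk_ker])
  haveI : q.IsPrime := Ideal.IsPrime.comap ψ
  have hmem : ∀ x : P, Ideal.Quotient.mk (Ideal.span {t}) x ∈ n.map (Ideal.Quotient.mk (Ideal.span {t})) ↔ x ∈ n := fun x => by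
    rw [← Ideal.mem_comap, Ideal.comap_map_of_surjective _ Ideal.Quotient.mk_surjective,
      ← RingHom.ker_eq_comap_bot, Ideal.mk_ker, sup_eq_left.2 htn]
  have hfield := Groth.Agent.Lib.GrpQ.SmoothPt.isField_atPrime_minimal Q (zeroDim_minimal hdim q)
  have hkill : ∀ x ∈ n, ∃ s r : P, s ∉ n ∧ s * x = r * t := by
    intro x hx
    obtain ⟨y, hy⟩ := hψ (Ideal.Quotient.mk _ x)
    have hyq : y ∈ q := by show ψ y ∈ n.map (Ideal.Quotient.mk (Ideal.span {t})); rw [hy]; exact Ideal.mem_map_of_mem _ hx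
    have h0 : algebraMap Q (Localization.AtPrime q) y = 0 := by
      letI := hfield.toField
      by_contra h0
      exact (IsLocalization.AtPrime.to_map_mem_maximal_iff (Localization.AtPrime q) q y).2 hyq |>
        fun hm => (mem_maximalIdeal _).1 hm (Ne.isUnit h0)
    obtain ⟨⟨s, hs⟩, hsy⟩ := (IsLocalization.map_eq_zero_iff q.primeCompl _ y).1 h0
    obtain ⟨s', hs'⟩ := Ideal.Quotient.mk_surjective (ψ s)
    have hsn : s' ∉ n := fun h => hs (by show ψ s ∈ n.map (Ideal.Quotient.mk (Ideal.span {t})); rw [← hs']; exact (hmem s').2 h)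
    have : Ideal.Quotient.mk (Ideal.span {t}) (s' * x) = 0 := by rw [map_mul, hs', ← hy, ← map_mul, hsy, map_zero]
    obtain ⟨r, hr⟩ := Ideal.mem_span_singleton'.1 (Ideal.Quotient.eq_zero_iff_mem.1 this)
    exact ⟨s', r, hsn, hr.symm⟩
  have hnmax : ∀ y, y ∉ n → ∃ y', 1 - y * y' ∈ n := by
    intro y hy
    obtain ⟨y₀, hy₀⟩ := hψ (Ideal.Quotient.mk _ y)
    have hyq : y₀ ∉ q := fun h => hy ((hmem y).1 (by rw [← hy₀]; exact h))
    obtain ⟨a, b, hb, hab⟩ := (hdim q inferInstance).exists_inv hyq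
    obtain ⟨a', ha'⟩ := Ideal.Quotient.mk_surjective (ψ a)
    refine ⟨a', (hmem _).1 ?_⟩
    rw [map_sub, map_one, map_mul, ha', ← hy₀, ← map_one ψ, ← map_mul, ← map_sub,
      show (1 : Q) - y₀ * a = b by linear_combination -hab]
    exact hb
  have hu : ∀ s, s ∉ n → IsUnit (φ s) := fun s hs => notMem_maximalIdeal.1 hs
  obtain ⟨ϖ, hϖ⟩ := IsDiscreteValuationRing.exists_irreducible W
  -- every element is a unit times a power of `t`
  have hdec : ∀ (m : ℕ) (b : P) (u : Wˣ), φ b = u * ϖ ^ m →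
      ∃ (s b' : P) (i : ℕ), s ∉ n ∧ b' ∉ n ∧ φ (s * b) = φ (t ^ i * b') := by
    intro m
    induction m using Nat.strong_induction_on with
    | _ m ih =>
      intro b u hb
      by_cases hbn : b ∈ n
      · obtain ⟨s, r, hs, hsr⟩ := hkill b hbn
        have h1 : φ s * φ b = φ r * φ t := by rw [← map_mul, ← map_mul, hsr]
        have hr0 : φ r ≠ 0 := fun h => by
          rw [h, zero_mul, mul_eq_zero, hb] at h1
          exact h1.elim (hu s hs).ne_zero (mul_ne_zero u.ne_zero (pow_ne_zero m hϖ.ne_zero))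
        obtain ⟨k, v, hv⟩ := IsDiscreteValuationRing.eq_unit_mul_pow_irreducible hr0 hϖ
        obtain ⟨l, w, hw⟩ := IsDiscreteValuationRing.eq_unit_mul_pow_irreducible ht0 hϖ
        have hl : 0 < l := Nat.pos_of_ne_zero fun h => (mem_maximalIdeal _).1 ht (by
          rw [hw, h, pow_zero, mul_one]; exact w.isUnit)
        have hkm : m = k + l := by
          refine IsDiscreteValuationRing.unit_mul_pow_congr_pow hϖ hϖ ((hu s hs).unit * u) (v * w) m (k + l) ?_
          rw [hb, hv, hw] at h1
          push_cast [IsUnit.unit_spec]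
          rw [mul_assoc, h1, pow_add]; ring
        obtain ⟨s₂, b', i, hs₂, hb', he⟩ := ih k (by omega) r v hv
        refine ⟨s₂ * s, b', i + 1, fun h => ((‹n.IsPrime›).mem_or_mem h).elim hs₂ hs, hb', ?_⟩
        rw [mul_assoc, hsr, ← mul_assoc, map_mul, he, pow_succ, mul_right_comm, map_mul φ (t ^ i * b') t]
      · exact ⟨1, b, 0, fun h => Ideal.IsPrime.ne_top ‹n.IsPrime› ((Ideal.eq_top_iff_one _).2 h), hbn, by simp⟩
  have hdec' : ∀ b : P, φ b ≠ 0 → ∃ (i : ℕ) (x y : P), x ∉ n ∧ y ∉ n ∧ φ y * φ b = φ t ^ i * φ x := by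
    intro b hb
    obtain ⟨m, u, hm⟩ := IsDiscreteValuationRing.eq_unit_mul_pow_irreducible hb hϖ
    obtain ⟨s, b', i, hs, hb', he⟩ := hdec m b u hm
    exact ⟨i, b', s, hb', hs, by rw [← map_mul, he, map_mul, map_pow]⟩
  have hrep : ∀ w : W, w ≠ 0 → ∃ (k : ℕ) (x y : P), x ∉ n ∧ y ∉ n ∧ φ y * w = φ t ^ k * φ x := by
    intro w hw
    obtain ⟨a, b, hb, hab⟩ := hgen w
    have hab' : w * φ b = φ a := Subtype.ext hab
    have ha : φ a ≠ 0 := hab' ▸ mul_ne_zero hw hb
    obtain ⟨i, x, y, hx, hy, hi⟩ := hdec' a ha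
    obtain ⟨j, x', y', hx', hy', hj⟩ := hdec' b hb
    have h : φ (y * x') * w * φ t ^ j = φ t ^ i * φ (x * y') := by
      rw [map_mul, map_mul]
      linear_combination φ y' * hi + φ y * φ y' * hab' - φ y * w * hj
    have hnx : ∀ a b, a ∉ n → b ∉ n → a * b ∉ n := fun a b ha hb h => ((‹n.IsPrime›).mem_or_mem h).elim ha hb
    rcases le_or_gt j i with hle | hlt
    · refine ⟨i - j, x * y', y * x', hnx _ _ hx hy', hnx _ _ hy hx', mul_right_cancel₀ (pow_ne_zero j ht0) ?_⟩
      rw [h, mul_right_comm, ← pow_add, Nat.sub_add_cancel hle]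
    · exfalso
      have h2 : φ (y * x') * w * φ t ^ (j - i) = φ (x * y') := mul_right_cancel₀ (pow_ne_zero i ht0) (by
        rw [mul_assoc, ← pow_add, Nat.sub_add_cancel hlt.le, h, mul_comm])
      exact hnx _ _ hx hy' (show φ (x * y') ∈ maximalIdeal W from
        h2 ▸ Ideal.mul_mem_left _ _ (Ideal.pow_mem_of_mem _ ht _ (by omega)))
  refine ⟨le_antisymm (fun w hw => ?_) ((Ideal.span_singleton_le_iff_mem _).2 ht), ?_⟩
  · rcases eq_or_ne w 0 with rfl | hw0
    · exact zero_mem _
    obtain ⟨k, x, y, hx, hy, h⟩ := hrep w hw0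
    rcases k with _ | k
    · rw [pow_zero, one_mul] at h
      exact absurd (show φ x ∈ maximalIdeal W from h ▸ Ideal.mul_mem_left _ _ hw) hx
    · rw [Ideal.mem_span_singleton, ← (hu y hy).dvd_mul_left, h, pow_succ', mul_assoc]
      exact dvd_mul_right _ _
  · intro r
    obtain ⟨w, rfl⟩ := residue_surjective r
    by_cases hw : w ∈ maximalIdeal W
    · exact ⟨0, by rw [map_zero, (residue_eq_zero_iff w).2 hw]⟩
    obtain ⟨k, x, y, hx, hy, h⟩ := hrep w fun h => hw (h ▸ zero_mem _)
    obtain ⟨y', hy'⟩ := hnmax y hy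
    rcases k with _ | k
    · refine ⟨x * y', ?_⟩
      have h1 : residue W (φ (1 - y * y')) = 0 := (residue_eq_zero_iff _).2 hy'
      rw [map_sub, map_one, map_mul, map_sub, map_one, map_mul, sub_eq_zero] at h1
      have h2 := congrArg (residue W) h
      rw [pow_zero, one_mul, map_mul] at h2
      rw [RingHom.comp_apply, map_mul, map_mul, ← h2]
      linear_combination (residue W w) * h1.symm
    · exfalso
      refine hw (((maximalIdeal.isMaximal W).isPrime.mem_or_mem ?_).resolve_left hy)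
      rw [h, pow_succ', mul_assoc]
      exact Ideal.mul_mem_right _ _ ht

theorem isReduced_adjoinRoot {S : Type u} [CommRing S] [IsReduced S] {f : S[X]} (hf : f.Monic) (hsep : f.Separable) :
    IsReduced (AdjoinRoot f) := by
  refine ⟨fun x hx => ?_⟩
  obtain ⟨g, rfl⟩ := AdjoinRoot.mk_surjective x
  obtain ⟨N, hN⟩ := hx
  rw [← map_pow, AdjoinRoot.mk_eq_zero] at hN
  rw [AdjoinRoot.mk_eq_zero, ← modByMonic_eq_zero_iff_dvd hf]
  ext i
  rw [coeff_zero, ← IsReduced.eq_zero (_ : S) (nilpotent_iff_mem_prime.2 fun p hp => ?_)]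
  haveI := hp
  let κ : S →+* p.ResidueField := algebraMap S p.ResidueField
  have hsq : Squarefree (f.map κ) := (hsep.map (f := κ)).squarefree
  have hdvd : f.map κ ∣ g.map κ := hsq.isRadical N _ (by rw [← Polynomial.map_pow]; exact Polynomial.map_dvd κ hN)
  have h0 : (g %ₘ f).map κ = 0 := by rw [map_modByMonic κ hf, modByMonic_eq_zero_iff_dvd (hf.map κ)]; exact hdvd
  have := congrArg (fun P => coeff P i) h0
  rw [coeff_map, coeff_zero, Ideal.algebraMap_residueField_eq_zero] at this
  exact this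

theorem isMaximal_of_integral {k Q : Type u} [Field k] [CommRing Q] [Algebra k Q] [Algebra.IsIntegral k Q]
    (q : Ideal Q) (hq : q.IsPrime) : q.IsMaximal :=
  Ideal.isMaximal_of_isIntegral_of_isMaximal_comap q (by
    haveI : (q.comap (algebraMap k Q)).IsPrime := Ideal.IsPrime.comap _
    rw [Ideal.eq_bot_of_prime (q.comap (algebraMap k Q))]
    exact Ideal.bot_isMaximal)

theorem geomRed_quotient {k P K : Type u} [Field k] [CommRing P] [Algebra k P] [Field K] [Algebra k K]
    [Algebra.IsGeometricallyReduced k P] (hdim : ∀ q : Ideal P, q.IsPrime → q.IsMaximal)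
    (ψ : P →ₐ[k] K) (hψ : Function.Surjective ψ) : Algebra.IsGeometricallyReduced k K := by
  haveI := Algebra.isReduced_of_isGeometricallyReduced k (A := P)
  let p : Ideal P := RingHom.ker ψ
  haveI : p.IsPrime := RingHom.ker_isPrime ψ
  have hfield := Groth.Agent.Lib.GrpQ.SmoothPt.isField_atPrime_minimal P (zeroDim_minimal hdim p)
  letI := hfield.toField
  let L : Localization.AtPrime p →ₐ[k] K := IsLocalization.liftAlgHom (M := p.primeCompl) (f := ψ) fun s =>
    IsUnit.mk0 _ s.2
  have hL : Function.Bijective L := ⟨L.toRingHom.injective, fun z => by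
    obtain ⟨x, rfl⟩ := hψ z
    exact ⟨algebraMap P _ x, IsLocalization.lift_eq _ _⟩⟩
  haveI : Algebra.IsGeometricallyReduced k (Localization.AtPrime p) :=
    Groth.Agent.Lib.GrpQ.SmoothPt.isGeometricallyReduced_localization k P p.primeCompl
  exact Algebra.IsGeometricallyReduced.of_injective (AlgEquiv.ofBijective L hL).symm.toAlgHom
    (AlgEquiv.injective _)

theorem geomRed_baseChange (k k₁ B : Type u) [Field k] [Field k₁] [Algebra k k₁] [CommRing B] [Algebra k B]
    [Algebra.IsGeometricallyReduced k B] : Algebra.IsGeometricallyReduced k₁ (k₁ ⊗[k] B) := by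
  rw [Algebra.isGeometricallyReduced_field_iff]
  haveI : IsReduced (B ⊗[k] AlgebraicClosure k₁) := Groth.Agent.H52.FBase.GeomRed.isReduced_tensor_field _
  haveI : IsReduced (AlgebraicClosure k₁ ⊗[k] B) :=
    isReduced_of_injective (Algebra.TensorProduct.comm k (AlgebraicClosure k₁) B) (AlgEquiv.injective _)
  exact isReduced_of_injective (Algebra.TensorProduct.cancelBaseChange k k₁ k₁ (AlgebraicClosure k₁) B)
    (AlgEquiv.injective _)

theorem geomRed_separable (k F E : Type u) [Field k] [Field F] [Field E] [Algebra k F] [Algebra F E] [Algebra k E]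
    [IsScalarTower k F E] [Algebra.IsSeparable F E] [Module.Finite F E] [Algebra.IsGeometricallyReduced k F] :
    Algebra.IsGeometricallyReduced k E := by
  rw [Algebra.isGeometricallyReduced_field_iff]
  haveI : IsReduced (F ⊗[k] AlgebraicClosure k) := Groth.Agent.H52.FBase.GeomRed.isReduced_tensor_field _
  haveI : IsReduced (E ⊗[k] AlgebraicClosure k) :=
    Groth.Agent.Lib.Cyc.MultPow.isReduced_tensor_separable k (AlgebraicClosure k) F E
  exact isReduced_of_injective (Algebra.TensorProduct.comm k (AlgebraicClosure k) E) (AlgEquiv.injective _)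

theorem residue_algebraic {A K K₁ : Type u} [CommRing A] [IsDomain A] [IsDiscreteValuationRing A] [Field K]
    [Algebra A K] [IsFractionRing A K] [Field K₁] [Algebra K K₁] [FiniteDimensional K K₁] (V : ValuationSubring K₁)
    (hV : EtRam.Dominates A ((algebraMap K K₁).comp (algebraMap A K)) V) :
    letI : Algebra A V := (RingHom.codRestrict _ V hV.1).toAlgebra
    haveI : IsLocalHom (algebraMap A V) := DomVal.isLocalHom_of_dominates hV
    Algebra.IsAlgebraic (ResidueField A) (ResidueField V) := by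
  letI : Algebra A V := (RingHom.codRestrict _ V hV.1).toAlgebra
  haveI : IsLocalHom (algebraMap A V) := DomVal.isLocalHom_of_dominates hV
  refine ⟨fun x => ?_⟩
  obtain ⟨y, rfl⟩ := residue_surjective x
  letI : Algebra A K₁ := ((algebraMap K K₁).comp (algebraMap A K)).toAlgebra
  haveI : IsScalarTower A K K₁ := IsScalarTower.of_algebraMap_eq fun _ => rfl
  haveI : IsScalarTower A V K₁ := IsScalarTower.of_algebraMap_eq fun _ => rfl
  obtain ⟨P, hP0, hP⟩ := (IsFractionRing.isAlgebraic_iff A K K₁).2 (Algebra.IsAlgebraic.isAlgebraic (R := K) (y : K₁))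
  obtain ⟨ϖ, hϖ⟩ := IsDiscreteValuationRing.exists_irreducible A
  obtain ⟨j, hj, hmin⟩ := P.support.exists_min_image (fun i => IsDiscreteValuationRing.addVal A (P.coeff i))
    (support_nonempty.2 hP0)
  have hc0 : P.coeff j ≠ 0 := mem_support_iff.1 hj
  have hdvd : ∀ i, P.coeff j ∣ P.coeff i := fun i => by
    by_cases hi : P.coeff i = 0
    · rw [hi]; exact dvd_zero _
    · exact IsDiscreteValuationRing.addVal_le_iff_dvd.1 (hmin i (mem_support_iff.2 hi))
  obtain ⟨R, hR⟩ : C (P.coeff j) ∣ P := C_dvd_iff_dvd_coeff _ _ |>.2 hdvd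
  have hR1 : R.coeff j = 1 := by
    have := congrArg (fun p => coeff p j) hR
    simp only [coeff_C_mul] at this
    exact mul_left_cancel₀ hc0 (by rw [← this, mul_one])
  refine ⟨R.map (residue A), fun h => ?_, ?_⟩
  · have := congrArg (fun p => coeff p j) h
    simp [coeff_map, hR1] at this
  · have hy : aeval y R = 0 := by
      have h1 : aeval (y : K₁) R = 0 := by
        rw [hR, map_mul, aeval_C] at hP
        exact (mul_eq_zero.1 hP).resolve_left ((map_ne_zero_iff _ (show Function.Injective (algebraMap A K₁) from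
            (algebraMap K K₁).injective.comp (IsFractionRing.injective A K))).2 hc0)
      exact Subtype.ext (by rw [show (y : K₁) = algebraMap V K₁ y from rfl, aeval_algebraMap_apply] at h1; exact h1)
    rw [show residue A = algebraMap A (ResidueField A) from rfl, aeval_map_algebraMap,
      show residue V y = algebraMap V (ResidueField V) y from rfl, aeval_algebraMap_apply, hy, map_zero]

end Groth.Agent.H48.FSExt
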