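import Groth.Agent.H48.FSExtMain

set_option autoImplicit false
set_option linter.style.haveILetI false
universe u
open IsLocalRing EtRam

namespace Groth.Agent.H48.FSExt

theorem finite_of_adjoin {K L M K₁ : Type u} [Field K] [Field L] [Field M] [Field K₁] [Algebra K L] [Algebra K M]
    [Algebra L M] [IsScalarTower K L M] [Algebra K K₁] [FiniteDimensional K K₁] (f : K₁ →ₐ[K] M)
    (hgen : Algebra.adjoin L (Set.range f) = ⊤) : FiniteDimensional L M := by
  let s := Module.finBasis K K₁
  have hle : Algebra.adjoin L (Set.range f) ≤ Algebra.adjoin L (Set.range (f ∘ s)) := Algebra.adjoin_le (by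
    rintro _ ⟨x, rfl⟩
    rw [← s.sum_repr x, map_sum, SetLike.mem_coe]
    refine sum_mem fun i _ => ?_
    rw [map_smul, Algebra.smul_def, IsScalarTower.algebraMap_apply K L M]
    exact mul_mem (Subalgebra.algebraMap_mem _ _) (Algebra.subset_adjoin ⟨i, rfl⟩))
  have hfg : (Algebra.adjoin L (Set.range (f ∘ s))).toSubmodule.FG :=
    fg_adjoin_of_finite (Set.finite_range _) (by
      rintro _ ⟨i, rfl⟩
      exact ((IsIntegral.of_finite K (s i)).map f).tower_top)
  have htop : Algebra.adjoin L (Set.range (f ∘ s)) = ⊤ := top_le_iff.1 (hgen ▸ hle)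
  rw [htop, Algebra.top_toSubmodule] at hfg
  exact ⟨hfg⟩

variable {A B K L M K₁ : Type u} [CommRing A] [IsDomain A] [IsDiscreteValuationRing A]
  [CommRing B] [IsDomain B] [IsDiscreteValuationRing B] [Algebra A B] [IsLocalHom (algebraMap A B)]
  [Field K] [Field L] [Field M] [Field K₁] [Algebra A K] [IsFractionRing A K] [Algebra B L] [IsFractionRing B L]
  [Algebra K L] [Algebra K M] [Algebra L M] [IsScalarTower K L M] [Algebra K K₁] [FiniteDimensional K K₁]
  (hcomp : ∀ a : A, algebraMap B L (algebraMap A B a) = algebraMap K L (algebraMap A K a))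
  (f : K₁ →ₐ[K] M) (W : ValuationSubring M)
  (hW : Dominates B ((algebraMap L M).comp (algebraMap B L)) W)

include hcomp hW in
theorem dominates_base : Dominates A ((algebraMap K M).comp (algebraMap A K)) W := by
  have h : ∀ a, algebraMap K M (algebraMap A K a) = algebraMap L M (algebraMap B L (algebraMap A B a)) := fun a => by
    rw [hcomp, ← IsScalarTower.algebraMap_apply K L M]
  refine ⟨fun a => ?_, fun a ha => ?_⟩
  · show algebraMap K M _ ∈ W
    rw [h]; exact hW.1 _
  · show W.valuation (algebraMap K M _) < 1
    rw [h]; exact hW.2 _ (map_nonunit _ _ ha)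

include hcomp hW in
theorem dominates_comap : Dominates A ((algebraMap K K₁).comp (algebraMap A K)) (W.comap f.toRingHom) := by
  rw [DomVal.dominates_comap_iff, show f.toRingHom.comp ((algebraMap K K₁).comp (algebraMap A K)) =
    (algebraMap K M).comp (algebraMap A K) from RingHom.ext fun a => f.commutes _]
  exact dominates_base hcomp W hW

/-- Abhyankar's lemma at a local extension. -/
theorem local_ext (hinj : Function.Injective (algebraMap A B)) (hgen : Algebra.adjoin L (Set.range f) = ⊤)
    [Algebra.IsGeometricallyReduced (ResidueField A) (ResidueField B)]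
    (he : (Ideal.ramificationIdx' (maximalIdeal A) (maximalIdeal B) : ResidueField A) ≠ 0) :
    letI : Algebra A (W.comap f.toRingHom) :=
      (RingHom.codRestrict _ (W.comap f.toRingHom) (dominates_comap hcomp f W hW).1).toAlgebra
    letI : Algebra (W.comap f.toRingHom) W := (inclOfComap W f.toRingHom).toAlgebra
    Ideal.ramificationIdx' (maximalIdeal A) (maximalIdeal B) ∣
        Ideal.ramificationIdx' (maximalIdeal A) (maximalIdeal (W.comap f.toRingHom)) →
    IsWeaklyUnramified (W.comap f.toRingHom) W ∧
      @Algebra.IsGeometricallyReduced (ResidueField (W.comap f.toRingHom)) (ResidueField W) _ _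
        (ResidueField.map (inclOfComap W f.toRingHom)).toAlgebra := by
  intro hdiv
  have hV := dominates_comap hcomp f W hW
  letI : Algebra A (W.comap f.toRingHom) := (RingHom.codRestrict _ (W.comap f.toRingHom) hV.1).toAlgebra
  haveI : IsLocalHom (algebraMap A (W.comap f.toRingHom)) := DomVal.isLocalHom_of_dominates hV
  haveI := finite_of_adjoin f hgen
  haveI : IsDiscreteValuationRing W := isDVR W hW
  haveI : IsDiscreteValuationRing (W.comap f.toRingHom) := isDVR (W.comap f.toRingHom) hV
  letI : Algebra (W.comap f.toRingHom) W := (inclOfComap W f.toRingHom).toAlgebra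
  haveI : IsLocalHom (algebraMap (W.comap f.toRingHom) W) := isLocalHom_inclOfComap W f.toRingHom
  suffices h : IsWeaklyUnramified (W.comap f.toRingHom) W ∧
      Algebra.IsGeometricallyReduced (ResidueField (W.comap f.toRingHom)) (ResidueField W) by
    refine ⟨h.1, ?_⟩
    convert h.2 using 2
    · exact Algebra.algebra_ext _ _ fun r => by obtain ⟨r, rfl⟩ := residue_surjective r; rfl
  refine main hinj ?_ ((algebraMap L M).comp (algebraMap B L)) (f.toRingHom.comp (W.comap f.toRingHom).subtype)
    ((algebraMap L M).injective.comp (IsFractionRing.injective B L)) (f.injective.comp Subtype.val_injective)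
    (RingHom.ext fun a => ?_) ?_ W hW (DomVal.dominates_subtype W) (Or.inl (residue_algebraic _ hV)) he hdiv
  · exact fun a b h => IsFractionRing.injective A K ((algebraMap K K₁).injective (congrArg Subtype.val h))
  · show algebraMap L M (algebraMap B L (algebraMap A B a)) = f (algebraMap K K₁ (algebraMap A K a))
    rw [hcomp, f.commutes, ← IsScalarTower.algebraMap_apply K L M]
  · refine eq_top_iff.2 fun z htop => ?_
    clear htop
    have hz : z ∈ Algebra.adjoin L (Set.range f) := by rw [hgen]; trivial
    induction hz using Algebra.adjoin_induction with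
    | mem x hx =>
      obtain ⟨y, rfl⟩ := hx
      rcases (W.comap f.toRingHom).mem_or_inv_mem y with h | h
      · exact Subfield.subset_closure (Or.inr ⟨⟨y, h⟩, rfl⟩)
      · rw [← inv_inv (f y), ← map_inv₀]
        exact inv_mem (Subfield.subset_closure (Or.inr ⟨⟨y⁻¹, h⟩, rfl⟩))
    | algebraMap l =>
      obtain ⟨a, b, -, rfl⟩ := IsFractionRing.div_surjective B l
      rw [map_div₀]
      exact div_mem (Subfield.subset_closure (Or.inl ⟨a, rfl⟩)) (Subfield.subset_closure (Or.inl ⟨b, rfl⟩))
    | add x y _ _ hx hy => exact add_mem hx hy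
    | mul x y _ _ hx hy => exact mul_mem hx hy

end Groth.Agent.H48.FSExt
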