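import Groth.Agent.H48.DomTower



import Mathlib.RingTheory.AdjoinRoot

set_option autoImplicit false
set_option linter.style.haveILetI false
universe u
open IsLocalRing TensorProduct Polynomial

namespace Groth.Agent.H48.FSExt

/-- A valuation subring dominating a DVR in a finite extension of its fraction field is a DVR. -/
theorem isDVR {B L M : Type u} [CommRing B] [IsDomain B] [IsDiscreteValuationRing B] [Field L] [Field M]
    [Algebra B L] [IsFractionRing B L] [Algebra L M] [Algebra.IsAlgebraic L M] [FiniteDimensional L M]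
    (W : ValuationSubring M) (hW : EtRam.Dominates B ((algebraMap L M).comp (algebraMap B L)) W) :
    IsDiscreteValuationRing W := by
  classical
  obtain ⟨ϖ, hϖ⟩ := IsDiscreteValuationRing.exists_irreducible B
  let g := (algebraMap L M).comp (algebraMap B L)
  have hg : Function.Injective g := (algebraMap L M).injective.comp (IsFractionRing.injective B L)
  let v := W.valuation
  set q := v (g ϖ) with hq
  have hq1 : q < 1 := hW.2 ϖ hϖ.not_isUnit
  have hq0 : q ≠ 0 := (_root_.map_ne_zero v).2 fun h => hϖ.ne_zero ((map_eq_zero_iff _ hg).1 h)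
  have hvB : ∀ b : B, b ≠ 0 → ∃ n : ℕ, v (g b) = q ^ n := by
    intro b hb
    obtain ⟨n, u, rfl⟩ := IsDiscreteValuationRing.eq_unit_mul_pow_irreducible hb hϖ
    refine ⟨n, ?_⟩
    have h1 : v (g u) * v (g ↑u⁻¹) = 1 := by rw [← map_mul, ← map_mul, Units.mul_inv, map_one, map_one]
    have h2 : v (g u) = 1 := le_antisymm ((W.valuation_le_one_iff _).2 (hW.1 _)) (by
      rw [← h1]; exact mul_le_of_le_one_right' ((W.valuation_le_one_iff _).2 (hW.1 _)))
    rw [map_mul, map_mul, h2, one_mul, map_pow, map_pow]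
  -- torsion value group modulo `q`
  have hpow : ∀ x : M, x ≠ 0 → v x ≤ 1 → ∃ k n : ℕ, 0 < k ∧ k ≤ Module.finrank L M ∧ v x ^ k = q ^ n := by
    intro x hx hx1
    obtain ⟨P, hPm, hPx, hPd⟩ : ∃ P : L[X], P.Monic ∧ aeval x P = 0 ∧ P.natDegree ≤ Module.finrank L M :=
      ⟨minpoly L x, minpoly.monic (Algebra.IsIntegral.isIntegral x), minpoly.aeval L x, minpoly.natDegree_le x⟩
    rw [aeval_eq_sum_range] at hPx
    obtain ⟨i, hi, j, hj, hij, heq⟩ : ∃ i ∈ P.support, ∃ j ∈ P.support, i ≠ j ∧
        v (algebraMap L M (P.coeff i) * x ^ i) = v (algebraMap L M (P.coeff j) * x ^ j) := by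
      by_contra! hcon
      have hne : P.support.Nonempty := support_nonempty.2 hPm.ne_zero
      have hsum : ∑ i ∈ P.support, algebraMap L M (P.coeff i) * x ^ i = 0 := by
        rw [← hPx, Finset.sum_subset (s₂ := Finset.range (P.natDegree + 1))]
        · simp [Algebra.smul_def]
        · exact fun i hi => Finset.mem_range.2 (Nat.lt_succ_of_le (le_natDegree_of_mem_supp i hi))
        · intro i _ hi; simp [notMem_support_iff.1 hi]
      obtain ⟨i, hi, hmax⟩ := P.support.exists_max_image (fun i => v (algebraMap L M (P.coeff i) * x ^ i)) hne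
      have hlt : v (∑ j ∈ P.support.erase i, algebraMap L M (P.coeff j) * x ^ j) <
          v (algebraMap L M (P.coeff i) * x ^ i) := by
        refine Valuation.map_sum_lt v ?_ fun j hj => lt_of_le_of_ne (hmax j (Finset.mem_of_mem_erase hj))
          (hcon j (Finset.mem_of_mem_erase hj) i hi (Finset.ne_of_mem_erase hj))
        exact (_root_.map_ne_zero v).2 (mul_ne_zero ((_root_.map_ne_zero _).2 (mem_support_iff.1 hi)) (pow_ne_zero _ hx))
      have h := Valuation.map_add_eq_of_lt_left v hlt
      rw [Finset.add_sum_erase P.support (fun j => algebraMap L M (P.coeff j) * x ^ j) hi, hsum, map_zero] at h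
      exact (mul_ne_zero ((_root_.map_ne_zero _).2 (mem_support_iff.1 hi)) (pow_ne_zero i hx)) ((map_eq_zero v).1 h.symm)
    wlog hle : i < j generalizing i j
    · exact this j hj i hi hij.symm heq.symm (by omega)
    obtain ⟨a, b, hb, hab⟩ := IsFractionRing.div_surjective B (P.coeff i / P.coeff j)
    have hb0 : b ≠ 0 := nonZeroDivisors.ne_zero hb
    have ha0 : a ≠ 0 := by
      rintro rfl
      rw [map_zero, zero_div, eq_comm, div_eq_zero_iff] at hab
      exact hab.elim (mem_support_iff.1 hi) (mem_support_iff.1 hj)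
    obtain ⟨m, hm⟩ := hvB a ha0
    obtain ⟨l, hl⟩ := hvB b hb0
    have hv : v x ^ (j - i) * q ^ l = q ^ m := by
      have h1 : g a * algebraMap L M (P.coeff j) = algebraMap L M (P.coeff i) * g b := by
        show algebraMap L M (algebraMap B L a) * _ = _ * algebraMap L M (algebraMap B L b)
        rw [← map_mul, ← map_mul]
        congr 1
        rw [div_eq_div_iff ((map_ne_zero_iff _ (IsFractionRing.injective B L)).2 hb0) (mem_support_iff.1 hj)] at hab
        exact hab
      have h2 := congrArg v h1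
      rw [map_mul, map_mul, hm, hl] at h2
      rw [show x ^ j = x ^ (j - i) * x ^ i by rw [← pow_add, Nat.sub_add_cancel hle.le], ← mul_assoc, map_mul,
        map_mul v (_ * _), map_mul, map_pow v x (j - i), map_pow v x i] at heq
      have h3 := mul_right_cancel₀ (pow_ne_zero _ ((_root_.map_ne_zero v).2 hx)) heq
      rw [h3, mul_assoc] at h2
      rw [mul_comm (q ^ m)] at h2
      exact (mul_left_cancel₀ ((_root_.map_ne_zero v).2 ((_root_.map_ne_zero _).2 (mem_support_iff.1 hj))) h2).symm
    have hlm : l ≤ m := by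
      by_contra h
      have : q ^ m < q ^ m := lt_of_le_of_lt (hv.symm.le.trans (mul_le_of_le_one_left' (pow_le_one₀ zero_le hx1)))
        (pow_lt_pow_right_of_lt_one₀ (zero_lt_iff.2 hq0) hq1 (by omega))
      exact lt_irrefl _ this
    refine ⟨j - i, m - l, by omega, ?_, mul_right_cancel₀ (pow_ne_zero l hq0) ?_⟩
    · have := le_natDegree_of_mem_supp j hj; omega
    rw [hv, ← pow_add, Nat.sub_add_cancel hlm]
  -- bound the denominators
  obtain ⟨N, hN, hN'⟩ : ∃ N : ℕ, 0 < N ∧ ∀ x : M, x ≠ 0 → v x ≤ 1 → ∃ n : ℕ, v x ^ N = q ^ n := by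
    refine ⟨(Module.finrank L M).factorial, Nat.factorial_pos _, fun x hx hx1 => ?_⟩
    obtain ⟨k, n, hk, hkle, hkn⟩ := hpow x hx hx1
    obtain ⟨c, hc⟩ := Nat.dvd_factorial hk hkle
    exact ⟨n * c, by rw [hc, pow_mul, hkn, pow_mul]⟩
  let π : W := ⟨g ϖ, hW.1 ϖ⟩
  have hπ0 : π ≠ 0 := fun h => hq0 (by rw [hq, show g ϖ = 0 from congrArg Subtype.val h, map_zero])
  have hπ1 : ¬ IsUnit π := (mem_maximalIdeal _).1 ((W.valuation_lt_one_iff π).2 hq1)
  choose n hn using fun (w : W) (hw : w ≠ 0) =>
    hN' (w : M) (fun h => hw (Subtype.ext h)) ((W.valuation_le_one_iff _).2 w.2)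
  have hunit : ∀ (w : W) (hw : w ≠ 0), IsUnit w ↔ n w hw = 0 := by
    intro w hw
    rw [W.valuation_eq_one_iff]
    constructor
    · intro h
      by_contra h0
      have := hn w hw
      rw [h, one_pow] at this
      exact absurd this.symm (ne_of_lt (pow_lt_one₀ zero_le hq1 h0))
    · intro h
      have := hn w hw
      rw [h, pow_zero] at this
      exact (pow_eq_one_iff_of_nonneg zero_le hN.ne').1 this
  have hmul : ∀ (a b : W) (ha : a ≠ 0) (hb : b ≠ 0), n (a * b) (mul_ne_zero ha hb) = n a ha + n b hb := by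
    intro a b ha hb
    have := hn (a * b) (mul_ne_zero ha hb)
    rw [show ((a * b : W) : M) = a * b from rfl, map_mul, mul_pow, hn a ha, hn b hb, ← pow_add] at this
    exact ((pow_right_strictAnti₀ (zero_lt_iff.2 hq0) hq1).injective this).symm
  have hP : ∃ k, ∃ w : W, ∃ hw : w ≠ 0, ¬ IsUnit w ∧ n w hw = k := ⟨_, π, hπ0, hπ1, rfl⟩
  obtain ⟨w₀, hw₀, hu₀, hk₀⟩ := Nat.find_spec hP
  have hmin : ∀ (w : W) (hw : w ≠ 0), ¬ IsUnit w → n w₀ hw₀ ≤ n w hw := fun w hw hu => by
    rw [hk₀]; exact Nat.find_min' hP ⟨w, hw, hu, rfl⟩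
  have hpos : 0 < n w₀ hw₀ := Nat.pos_of_ne_zero fun h => hu₀ ((hunit w₀ hw₀).2 h)
  have hirr : Irreducible w₀ := by
    refine ⟨hu₀, fun a b hab => ?_⟩
    by_contra! hcon
    have ha : a ≠ 0 := left_ne_zero_of_mul (hab ▸ hw₀)
    have hb : b ≠ 0 := right_ne_zero_of_mul (hab ▸ hw₀)
    have h := hmul a b ha hb
    have hA := hmin a ha hcon.1
    have hB := hmin b hb hcon.2
    subst hab; omega
  refine IsDiscreteValuationRing.ofHasUnitMulPowIrreducibleFactorization ⟨w₀, hirr, fun {w} hw => ?_⟩
  induction hk : n w hw using Nat.strong_induction_on generalizing w with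
  | _ k ih =>
    by_cases hu : IsUnit w
    · exact ⟨0, by rw [pow_zero]; exact (associated_one_iff_isUnit.2 hu).symm⟩
    · obtain ⟨c, hc⟩ : w₀ ∣ w := by
        rcases ValuationRing.dvd_total w₀ w with h | ⟨c, hc⟩
        · exact h
        · have hc0 : c ≠ 0 := right_ne_zero_of_mul (hc ▸ hw₀)
          have h := hmul w c hw hc0
          have h' := hmin w hw hu
          subst hc
          exact (associated_mul_unit_left w c ((hunit c hc0).2 (by omega))).dvd
      have hc0 : c ≠ 0 := right_ne_zero_of_mul (hc ▸ hw)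
      subst hc
      obtain ⟨m, hm⟩ := ih (n c hc0) (by rw [← hk, hmul w₀ c hw₀ hc0]; omega) hc0 rfl
      exact ⟨m + 1, by rw [pow_succ', ]; exact hm.mul_left w₀⟩

end Groth.Agent.H48.FSExt
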