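import Groth.Agent.H48.FSExt

set_option autoImplicit false
set_option linter.style.haveILetI false
universe u
open IsLocalRing TensorProduct Polynomial EtRam

namespace Groth.Agent.H48.FSExt

/-- A geometrically reduced algebraic extension is separable. -/
theorem isSeparable_of_geomRed (k E : Type u) [Field k] [Field E] [Algebra k E] [Algebra.IsAlgebraic k E]
    [Algebra.IsGeometricallyReduced k E] : Algebra.IsSeparable k E := by
  refine ⟨fun x => ?_⟩
  have hx : IsIntegral k x := Algebra.IsIntegral.isIntegral x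
  let F := IntermediateField.adjoin k {x}
  haveI : Algebra.IsGeometricallyReduced k F := Algebra.IsGeometricallyReduced.of_injective F.val Subtype.val_injective
  let pb := IntermediateField.adjoin.powerBasis hx
  let Ω := AlgebraicClosure k
  haveI : IsReduced (Ω ⊗[k] F) := (Algebra.isGeometricallyReduced_field_iff k F).1 inferInstance
  show (minpoly k x).Separable
  rw [← separable_map (algebraMap k Ω), PerfectField.separable_iff_squarefree]
  intro a ha
  obtain ⟨b, hb⟩ := ha
  set q := (minpoly k x).map (algebraMap k Ω) with hq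
  have hq0 : q ≠ 0 := (Polynomial.map_ne_zero_iff (algebraMap k Ω).injective).2 (minpoly.ne_zero hx)
  let y : Ω ⊗[k] F := 1 ⊗ₜ IntermediateField.AdjoinSimple.gen k x
  have hy : aeval y q = 0 := by
    rw [hq, aeval_map_algebraMap, show y = Algebra.TensorProduct.includeRight (IntermediateField.AdjoinSimple.gen k x)
      from rfl, aeval_algHom_apply, IntermediateField.aeval_gen_minpoly, map_zero]
  have hab : aeval y (a * b) = 0 := by
    refine IsNilpotent.eq_zero ⟨2, ?_⟩
    show aeval y (a * b) ^ 2 = 0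
    rw [sq, ← map_mul, show a * b * (a * b) = q * b by rw [hb]; ring, map_mul, hy, zero_mul]
  by_contra hau
  have hb0 : b ≠ 0 := right_ne_zero_of_mul (hb ▸ hq0)
  have ha0 : a ≠ 0 := left_ne_zero_of_mul (left_ne_zero_of_mul (hb ▸ hq0))
  have hdeg : (a * b).natDegree < (minpoly k x).natDegree := by
    rw [← natDegree_map (algebraMap k Ω) (p := minpoly k x), ← hq, hb, mul_assoc,
      natDegree_mul ha0 (mul_ne_zero ha0 hb0)]
    have : 0 < a.natDegree := Nat.pos_of_ne_zero fun h => hau (by
      rw [eq_C_of_natDegree_eq_zero h]; exact (Ne.isUnit fun h0 => ha0 (by rw [eq_C_of_natDegree_eq_zero h, h0, map_zero])).map C)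
    omega
  have hdim : pb.dim = (minpoly k x).natDegree := IntermediateField.adjoin.powerBasis_dim hx
  let bΩ := Algebra.TensorProduct.basis Ω pb.basis
  have hb' : ∀ i : Fin pb.dim, bΩ i = y ^ (i : ℕ) := fun i => by
    rw [Algebra.TensorProduct.basis_apply, PowerBasis.basis_eq_pow, Algebra.TensorProduct.tmul_pow, one_pow]
    rfl
  rw [aeval_eq_sum_range' (hdim ▸ hdeg), ← Fin.sum_univ_eq_sum_range (fun i => (a * b).coeff i • y ^ i)] at hab
  simp_rw [← hb'] at hab
  refine mul_ne_zero ha0 hb0 (Polynomial.ext fun i => ?_)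
  rw [coeff_zero]
  by_cases hi : i < pb.dim
  · exact Fintype.linearIndependent_iff.1 bΩ.linearIndependent _ hab ⟨i, hi⟩
  · exact coeff_eq_zero_of_natDegree_lt (by omega)

local notation "e(" R "," S ")" => Ideal.ramificationIdx' (maximalIdeal R) (maximalIdeal S)

variable {A B A₁ M : Type u} [CommRing A] [IsDomain A] [IsDiscreteValuationRing A]
  [CommRing B] [IsDomain B] [IsDiscreteValuationRing B] [CommRing A₁] [IsDomain A₁] [IsDiscreteValuationRing A₁]
  [Algebra A B] [Algebra A A₁] [IsLocalHom (algebraMap A B)] [IsLocalHom (algebraMap A A₁)] [Field M]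

/-- Abhyankar's lemma for two extensions of a DVR inside a common valuation ring. -/
theorem main (hB : Function.Injective (algebraMap A B)) (h1 : Function.Injective (algebraMap A A₁))
    (gB : B →+* M) (g₁ : A₁ →+* M) (hgB : Function.Injective gB) (hg₁ : Function.Injective g₁)
    (hcomm : gB.comp (algebraMap A B) = g₁.comp (algebraMap A A₁))
    (hgen : Subfield.closure (Set.range gB ∪ Set.range g₁) = ⊤)
    (W : ValuationSubring M) [IsDiscreteValuationRing W] (hWB : Dominates B gB W) (hW1 : Dominates A₁ g₁ W)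
    [Algebra.IsGeometricallyReduced (ResidueField A) (ResidueField B)]
    (halg : Algebra.IsAlgebraic (ResidueField A) (ResidueField A₁) ∨ Algebra.IsAlgebraic (ResidueField A) (ResidueField B))
    (he : (e(A,B) : ResidueField A) ≠ 0) (hdiv : e(A,B) ∣ e(A,A₁)) :
    letI : Algebra A₁ W := (RingHom.codRestrict g₁ W hW1.1).toAlgebra
    haveI : IsLocalHom (algebraMap A₁ W) := DomVal.isLocalHom_of_dominates hW1
    IsWeaklyUnramified A₁ W ∧ Algebra.IsGeometricallyReduced (ResidueField A₁) (ResidueField W) := by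
  classical
  letI : Algebra A₁ W := (RingHom.codRestrict g₁ W hW1.1).toAlgebra
  haveI : IsLocalHom (algebraMap A₁ W) := DomVal.isLocalHom_of_dominates hW1
  letI : Algebra B W := (RingHom.codRestrict gB W hWB.1).toAlgebra
  haveI : IsLocalHom (algebraMap B W) := DomVal.isLocalHom_of_dominates hWB
  let jB := algebraMap B W
  let j₁ := algebraMap A₁ W
  have hjB : Function.Injective jB := fun a b h => hgB (congrArg Subtype.val h)
  have hj₁ : Function.Injective j₁ := fun a b h => hg₁ (congrArg Subtype.val h)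
  have hcW : ∀ a, jB (algebraMap A B a) = j₁ (algebraMap A A₁ a) := fun a => Subtype.ext (RingHom.congr_fun hcomm a)
  set e := e(A,B) with hedef
  set e₁ := e(A,A₁) with he₁def
  obtain ⟨π, hπ⟩ := IsDiscreteValuationRing.exists_irreducible A
  obtain ⟨ϖ, hϖ⟩ := IsDiscreteValuationRing.exists_irreducible B
  obtain ⟨τ, hτ⟩ := IsDiscreteValuationRing.exists_irreducible A₁
  obtain ⟨he0, u, hu⟩ := DVRExt.exists_unit_mul_pow hB hπ hϖ
  obtain ⟨he10, v, hv⟩ := DVRExt.exists_unit_mul_pow h1 hπ hτ
  obtain ⟨d, hd⟩ := hdiv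
  have hd0 : 0 < d := Nat.pos_of_ne_zero fun h => he10 (by rw [← he₁def, hd, h, mul_zero])
  let U : Wˣ := Units.map jB.toMonoidHom u
  let V : Wˣ := Units.map j₁.toMonoidHom v
  have hrel : (U : W) * jB ϖ ^ e = (V : W) * j₁ τ ^ (d * e) := by
    have h := hcW π
    rw [hu, hv, map_mul, map_mul, map_pow, map_pow, ← hedef, ← he₁def, hd, mul_comm e d] at h
    exact h
  have hτ0 : j₁ τ ≠ 0 := (map_ne_zero_iff _ hj₁).2 hτ.ne_zero
  have hϖ0 : jB ϖ ≠ 0 := (map_ne_zero_iff _ hjB).2 hϖ.ne_zero
  -- the root `z`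
  let z' : M := (j₁ τ : M) ^ d / (jB ϖ : M)
  have hz' : z' ^ e * (V : W) = (U : W) := by
    have h := congrArg Subtype.val hrel
    push_cast at h
    simp only [z', div_pow, ← pow_mul]
    rw [div_mul_eq_mul_div, div_eq_iff (pow_ne_zero _ fun h0 => hϖ0 (Subtype.ext h0)), h, mul_comm]
  have hvU : ∀ x : Wˣ, W.valuation ((x : W) : M) = 1 := fun x => (W.valuation_eq_one_iff _).1 x.isUnit
  have hvz : W.valuation z' = 1 := by
    have h := congrArg W.valuation hz'
    rw [map_mul, map_pow, hvU, hvU, mul_one] at h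
    exact (pow_eq_one_iff_of_nonneg zero_le he0).1 h
  let z : W := ⟨z', (W.valuation_le_one_iff _).1 hvz.le⟩
  have hzu : IsUnit z := (W.valuation_eq_one_iff z).2 hvz
  have hze : z ^ e * V = U := Subtype.ext (by push_cast; exact hz')
  have hzτ : z * jB ϖ = j₁ τ ^ d := Subtype.ext (by
    push_cast
    exact div_mul_cancel₀ _ fun h0 => hϖ0 (Subtype.ext h0))
  -- the subring
  let P : Subring W := Subring.closure (Set.range jB ∪ Set.range j₁ ∪ {z})
  have hPB : ∀ b, jB b ∈ P := fun b => Subring.subset_closure (Or.inl (Or.inl ⟨b, rfl⟩))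
  have hP1 : ∀ a, j₁ a ∈ P := fun a => Subring.subset_closure (Or.inl (Or.inr ⟨a, rfl⟩))
  have hPz : z ∈ P := Subring.subset_closure (Or.inr rfl)
  let τP : P := ⟨j₁ τ, hP1 τ⟩
  let t := Ideal.span {τP}
  let zP : P := ⟨z, hPz⟩
  let iB : B →+* P := jB.codRestrict P hPB
  let i₁ : A₁ →+* P := j₁.codRestrict P hP1
  have hzP : zP ^ e = iB u * i₁ (↑v⁻¹) := Subtype.ext (by
    show z ^ e = jB u * j₁ ↑v⁻¹
    rw [show jB u = (U : W) from rfl, ← hze, mul_assoc, show ((V : W)) = j₁ v from rfl, ← map_mul, Units.mul_inv,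
      map_one, mul_one])
  have hϖt : iB ϖ ∈ t := by
    refine Ideal.mem_span_singleton'.2 ⟨τP ^ (d - 1) * zP ^ (e - 1) * iB (↑u⁻¹) * i₁ v, Subtype.ext ?_⟩
    show j₁ τ ^ (d - 1) * z ^ (e - 1) * jB ↑u⁻¹ * j₁ v * j₁ τ = jB ϖ
    have h1 : jB ↑u⁻¹ * (U : W) = 1 := by
      rw [show ((U : W)) = jB u from rfl, ← map_mul, Units.inv_mul, map_one]
    calc j₁ τ ^ (d - 1) * z ^ (e - 1) * jB ↑u⁻¹ * j₁ v * j₁ τ
        = (z * jB ϖ) * z ^ (e - 1) * (V : W) * jB ↑u⁻¹ := by
          rw [hzτ, show ((V : W)) = j₁ v from rfl]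
          conv_rhs => rw [← Nat.sub_add_cancel hd0, pow_succ]
          ring
      _ = jB ϖ * ((z ^ e * V) * jB ↑u⁻¹) := by
          conv_rhs => rw [← Nat.sub_add_cancel (show 1 ≤ e from Nat.pos_of_ne_zero he0), pow_succ]
          ring
      _ = jB ϖ := by rw [hze, mul_comm (U : W), h1, mul_one]
  let Kb := ResidueField B
  let K₁ := ResidueField A₁
  let k := ResidueField A
  let mkt := Ideal.Quotient.mk t
  let fB : Kb →+* P ⧸ t := Ideal.Quotient.lift (maximalIdeal B) (mkt.comp iB) fun b hb => by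
    rw [hϖ.maximalIdeal_eq, Ideal.mem_span_singleton] at hb
    obtain ⟨c, rfl⟩ := hb
    rw [map_mul, RingHom.comp_apply, Ideal.Quotient.eq_zero_iff_mem.2 hϖt, zero_mul]
  let f₁ : K₁ →+* P ⧸ t := Ideal.Quotient.lift (maximalIdeal A₁) (mkt.comp i₁) fun b hb => by
    rw [hτ.maximalIdeal_eq, Ideal.mem_span_singleton] at hb
    obtain ⟨c, rfl⟩ := hb
    rw [map_mul, RingHom.comp_apply, show mkt (i₁ τ) = 0 from
      Ideal.Quotient.eq_zero_iff_mem.2 (Ideal.mem_span_singleton_self τP), zero_mul]
  letI : Algebra k (P ⧸ t) := (f₁.comp (algebraMap k K₁)).toAlgebra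
  let FB : Kb →ₐ[k] P ⧸ t :=
    { fB with
      commutes' := fun r => by
        obtain ⟨a, rfl⟩ := residue_surjective r
        show mkt (iB (algebraMap A B a)) = mkt (i₁ (algebraMap A A₁ a))
        congr 1
        exact Subtype.ext (hcW a) }
  let F₁ : K₁ →ₐ[k] P ⧸ t := { f₁ with commutes' := fun _ => rfl }
  let T₀ := K₁ ⊗[k] Kb
  let Φ : T₀ →ₐ[k] P ⧸ t := Algebra.TensorProduct.lift F₁ FB fun _ _ => Commute.all _ _
  let w : T₀ˣ := Units.map (Algebra.TensorProduct.includeRight (R := k) (A := K₁)).toMonoidHom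
      (Units.map (residue B).toMonoidHom u) *
    Units.map (Algebra.TensorProduct.includeLeft (R := k) (S := k) (B := Kb)).toMonoidHom
      (Units.map (residue A₁).toMonoidHom v⁻¹)
  have hΦw : Φ w = mkt zP ^ e := by
    rw [← map_pow, hzP, map_mul]
    show Φ (((1 : K₁) ⊗ₜ residue B u) * (residue A₁ ↑v⁻¹ ⊗ₜ (1 : Kb))) = _
    rw [map_mul, Algebra.TensorProduct.lift_tmul, Algebra.TensorProduct.lift_tmul, map_one, map_one, one_mul, mul_one]
    rfl
  haveI : Algebra.IsGeometricallyReduced K₁ T₀ := geomRed_baseChange k K₁ Kb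
  haveI : IsReduced T₀ := Algebra.isReduced_of_isGeometricallyReduced K₁ (A := T₀)
  let f : T₀[X] := X ^ e - C (w : T₀)
  have hfm : f.Monic := monic_X_pow_sub_C _ he0
  have hsep : f.Separable := separable_X_pow_sub_C_unit w (by
    rw [← map_natCast (algebraMap k T₀)]; exact (Ne.isUnit he).map _)
  let Q := AdjoinRoot f
  haveI : IsReduced Q := isReduced_adjoinRoot hfm hsep
  let Ψ : Q →+* P ⧸ t := AdjoinRoot.lift Φ.toRingHom (mkt zP) (by
    simp only [f, eval₂_sub, eval₂_X_pow, eval₂_C]
    rw [sub_eq_zero]; exact hΦw.symm)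
  haveI : Module.Finite T₀ Q := hfm.finite_adjoinRoot
  have hint : ∀ q : Ideal T₀, q.IsPrime → q.IsMaximal := by
    rcases halg with h | h
    · intro q hq
      haveI : Algebra.IsIntegral k K₁ := inferInstance
      let eS : Kb ⊗[k] K₁ ≃ₐ[k] T₀ := Algebra.TensorProduct.comm k Kb K₁
      haveI : (q.comap eS).IsPrime := Ideal.IsPrime.comap _
      have := isMaximal_of_integral (k := Kb) (q.comap eS) inferInstance
      have hq' : q = (q.comap eS).map eS := (Ideal.map_comap_of_surjective eS eS.surjective q).symm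
      rw [hq']
      exact Ideal.map_isMaximal_of_equiv eS
    · haveI : Algebra.IsIntegral k Kb := inferInstance
      exact fun q hq => isMaximal_of_integral (k := K₁) q hq
  have hdim : ∀ q : Ideal Q, q.IsPrime → q.IsMaximal := fun q hq => by
    haveI : Algebra.IsIntegral T₀ Q := Algebra.IsIntegral.of_finite T₀ Q
    haveI := hint (q.comap (algebraMap T₀ Q)) (Ideal.IsPrime.comap _)
    exact Ideal.isMaximal_of_isIntegral_of_isMaximal_comap (R := T₀) q inferInstance
  have hΨ : Function.Surjective Ψ := by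
    have key : ∀ (x : W) (hx : x ∈ P), ∃ y, Ψ y = mkt ⟨x, hx⟩ := by
      intro x hx
      induction hx using Subring.closure_induction with
      | mem x hx =>
        rcases hx with (⟨b, rfl⟩ | ⟨a, rfl⟩) | rfl
        · refine ⟨AdjoinRoot.of f (1 ⊗ₜ residue B b), ?_⟩
          rw [AdjoinRoot.lift_of]
          show Φ _ = _
          rw [Algebra.TensorProduct.lift_tmul, map_one, one_mul]; rfl
        · refine ⟨AdjoinRoot.of f (residue A₁ a ⊗ₜ 1), ?_⟩
          rw [AdjoinRoot.lift_of]
          show Φ _ = _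
          rw [Algebra.TensorProduct.lift_tmul, map_one, mul_one]; rfl
        · exact ⟨AdjoinRoot.root f, AdjoinRoot.lift_root _⟩
      | zero => exact ⟨0, by rw [map_zero]; exact (map_zero mkt).symm⟩
      | one => exact ⟨1, by rw [map_one]; exact (map_one mkt).symm⟩
      | add a b _ _ ha hb =>
        obtain ⟨p, hp⟩ := ha; obtain ⟨q, hq⟩ := hb
        exact ⟨p + q, by rw [map_add, hp, hq, ← map_add]; rfl⟩
      | mul a b _ _ ha hb =>
        obtain ⟨p, hp⟩ := ha; obtain ⟨q, hq⟩ := hb
        exact ⟨p * q, by rw [map_mul, hp, hq, ← map_mul]; rfl⟩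
      | neg a _ ha =>
        obtain ⟨p, hp⟩ := ha
        exact ⟨-p, by rw [map_neg, hp, ← map_neg]; rfl⟩
    intro y
    obtain ⟨⟨x, hx⟩, rfl⟩ := Ideal.Quotient.mk_surjective y
    exact key x hx
  have hτm : j₁ τ ∈ maximalIdeal W := map_nonunit _ _ hτ.not_isUnit
  have hgenP : ∀ y : M, ∃ a b : P, P.subtype b ≠ 0 ∧ y * ((P.subtype b : W) : M) = (P.subtype a : W) := by
    intro y
    have hy : y ∈ Subfield.closure (Set.range gB ∪ Set.range g₁) := by rw [hgen]; trivial
    obtain ⟨a, ha, b, hb, rfl⟩ := Subfield.mem_closure_iff.1 hy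
    have hle : Subring.closure (Set.range gB ∪ Set.range g₁) ≤ P.map W.subtype := Subring.closure_le.2 (by
      rintro _ (⟨b, rfl⟩ | ⟨b, rfl⟩)
      · exact ⟨_, hPB b, rfl⟩
      · exact ⟨_, hP1 b, rfl⟩)
    obtain ⟨a', ha', rfl⟩ := hle ha
    obtain ⟨b', hb', rfl⟩ := hle hb
    by_cases hb0 : b' = 0
    · exact ⟨0, 1, by simp, by simp [hb0]⟩
    · exact ⟨⟨a', ha'⟩, ⟨b', hb'⟩, hb0, div_mul_cancel₀ _ fun h => hb0 (Subtype.ext h)⟩
  obtain ⟨hmax, hres⟩ := core W P.subtype τP hτm hτ0 hgenP hdim Ψ hΨ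
  refine ⟨?_, ?_⟩
  · show (maximalIdeal A₁).map (algebraMap A₁ W) = maximalIdeal W
    rw [hmax, hτ.maximalIdeal_eq, Ideal.map_span, Set.image_singleton]; rfl
  -- residue fields
  letI : Algebra k (ResidueField W) := ((algebraMap K₁ (ResidueField W)).comp (algebraMap k K₁)).toAlgebra
  haveI : IsScalarTower k K₁ (ResidueField W) := IsScalarTower.of_algebraMap_eq fun _ => rfl
  let GB : Kb →ₐ[k] ResidueField W :=
    { ResidueField.map jB with
      commutes' := fun r => by
        obtain ⟨a, rfl⟩ := residue_surjective r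
        show residue W (jB (algebraMap A B a)) = residue W (j₁ (algebraMap A A₁ a))
        rw [hcW] }
  let Θ : T₀ →ₐ[K₁] ResidueField W := Algebra.TensorProduct.lift (Algebra.ofId K₁ _) GB fun _ _ => Commute.all _ _
  haveI : (RingHom.ker Θ).IsPrime := RingHom.ker_isPrime Θ
  let F : IntermediateField K₁ (ResidueField W) :=
    Θ.range.toIntermediateField' (by
      have hmx := hint (RingHom.ker Θ) inferInstance
      exact MulEquiv.isField ((Ideal.Quotient.maximal_ideal_iff_isField_quotient _).1 hmx)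
        (RingHom.quotientKerEquivRange Θ.toRingHom).symm.toMulEquiv)
  let ΘF : T₀ →ₐ[K₁] F := Θ.rangeRestrict
  haveI : Algebra.IsGeometricallyReduced K₁ F := geomRed_quotient hint ΘF Θ.rangeRestrict_surjective
  have hzroot : residue W z ^ e = ((ΘF w : F) : ResidueField W) := by
    show _ = Θ (((1 : K₁) ⊗ₜ residue B u) * (residue A₁ ↑v⁻¹ ⊗ₜ (1 : Kb)))
    rw [map_mul, Algebra.TensorProduct.lift_tmul, Algebra.TensorProduct.lift_tmul, map_one, map_one, one_mul, mul_one,
      ← map_pow]
    show _ = residue W (jB u) * residue W (j₁ ↑v⁻¹)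
    rw [← map_mul]
    congr 1
    exact congrArg Subtype.val hzP
  have hzi : IsIntegral F (residue W z) := .of_pow (Nat.pos_of_ne_zero he0) (by rw [hzroot]; exact isIntegral_algebraMap (A := ResidueField W) (x := ΘF w))
  have hzsep : IsSeparable F (residue W z) := by
    refine Separable.of_dvd (f := X ^ e - C (ΘF w)) (separable_X_pow_sub_C _ ?_ ((w.isUnit.map ΘF).ne_zero)) ?_
    · rw [← map_natCast (algebraMap k F)]; exact (_root_.map_ne_zero _).2 he
    · refine minpoly.dvd F _ ?_
      rw [map_sub, aeval_X_pow, aeval_C, sub_eq_zero]; exact hzroot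
  let E := IntermediateField.adjoin F {residue W z}
  have hE : E = ⊤ := by
    refine eq_top_iff.2 fun r htop => ?_
    clear htop
    obtain ⟨⟨x, hx⟩, rfl⟩ := hres r
    show residue W x ∈ E
    induction hx using Subring.closure_induction with
    | mem x hx =>
      rcases hx with (⟨b, rfl⟩ | ⟨a, rfl⟩) | rfl
      · have : residue W (jB b) = algebraMap F _ (ΘF (1 ⊗ₜ residue B b)) := by
          show _ = Θ (1 ⊗ₜ residue B b)
          rw [Algebra.TensorProduct.lift_tmul, map_one, one_mul]; rfl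
        rw [this]; exact E.algebraMap_mem _
      · have : residue W (j₁ a) = algebraMap F _ (ΘF (residue A₁ a ⊗ₜ 1)) := by
          show _ = Θ (residue A₁ a ⊗ₜ 1)
          rw [Algebra.TensorProduct.lift_tmul, map_one, mul_one]; rfl
        rw [this]; exact E.algebraMap_mem _
      · exact IntermediateField.subset_adjoin F _ rfl
    | zero => rw [map_zero]; exact zero_mem _
    | one => rw [map_one]; exact one_mem _
    | add a b _ _ ha hb => rw [map_add]; exact add_mem ha hb
    | mul a b _ _ ha hb => rw [map_mul]; exact mul_mem ha hb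
    | neg a _ ha => rw [map_neg]; exact neg_mem ha
  haveI : FiniteDimensional F E := IntermediateField.adjoin.finiteDimensional hzi
  haveI : Algebra.IsSeparable F E := (IntermediateField.isSeparable_adjoin_simple_iff_isSeparable F _).2 hzsep
  let eE : E ≃ₐ[F] ResidueField W := (IntermediateField.equivOfEq hE).trans IntermediateField.topEquiv
  haveI : Module.Finite F (ResidueField W) := Module.Finite.equiv eE.toLinearEquiv
  haveI : Algebra.IsSeparable F (ResidueField W) := AlgEquiv.Algebra.isSeparable eE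
  exact geomRed_separable K₁ F (ResidueField W)

end Groth.Agent.H48.FSExt
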