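import Groth.Agent.H48.FormalGlue
import Mathlib.LinearAlgebra.TensorProduct.Pi

/-!
# Lifting extensions by torsion modules along formal glueing data
-/

universe u

open TensorProduct

namespace Groth.Agent.H48.FG

variable {R : Type u} [CommRing R] {S : Type u} [CommRing S] [Algebra R S] [Module.Flat R S]
variable {t : ℕ} {f : Fin t → R} {N : Type u} [AddCommGroup N] [Module R N]

theorem exists_pow_le (f : Fin t → R) (k : Fin t → ℕ) :
    ∃ n, Ideal.span (Set.range f) ^ n ≤ Ideal.span (Set.range fun i => f i ^ k i) := by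
  classical
  refine Ideal.exists_pow_le_of_le_radical_of_fg ?_ ⟨Finset.univ.image f, by simp⟩
  rw [Ideal.span_le]
  rintro _ ⟨i, rfl⟩
  exact ⟨k i, Ideal.subset_span ⟨i, rfl⟩⟩

theorem isITors_of_kill {P : Type u} [AddCommGroup P] [Module R P]
    (h : ∀ (x : P) (i : Fin t), ∃ k : ℕ, f i ^ k • x = 0) :
    IsITors (Ideal.span (Set.range f)) P := by
  intro x
  choose k hk using h x
  obtain ⟨n, hn⟩ := exists_pow_le f k
  refine ⟨n, fun a ha => ?_⟩
  have ha' := hn ha
  clear ha
  induction ha' using Submodule.span_induction with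
  | mem a h => obtain ⟨i, rfl⟩ := h; exact hk i
  | zero => exact zero_smul _ _
  | add x y _ _ hx hy => rw [add_smul, hx, hy, add_zero]
  | smul c y _ hy => rw [smul_eq_mul, mul_smul, hy, smul_zero]

variable (f N)

/-- `n ↦ (f_i ^ k n)`. -/
noncomputable def powMap (k : ℕ) : N →ₗ[R] Fin t → N :=
  LinearMap.pi fun i => f i ^ k • LinearMap.id

/-- Compatible families. -/
noncomputable def cocMap (k : ℕ) : (Fin t → N) →ₗ[R] Fin t × Fin t → N :=
  LinearMap.pi fun q => f q.2 ^ k • LinearMap.proj q.1 - f q.1 ^ k • LinearMap.proj q.2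

theorem cocMap_eq_zero_iff (k : ℕ) (h : Fin t → N) :
    cocMap f N k h = 0 ↔ ∀ i j, f j ^ k • h i = f i ^ k • h j := by
  rw [funext_iff, Prod.forall]
  refine forall_congr' fun i => forall_congr' fun j => ?_
  simp [cocMap, sub_eq_zero]

variable {f N}
variable (hq : QuotBij S (Ideal.span (Set.range f)))
include hq

/-- A family of multiples of `x` coming from `N` makes `x` come from `N`. -/
theorem exists_of_pow_smul (k : ℕ) (x : S ⊗[R] N) (h : Fin t → N)
    (hc : ∀ i j, f j ^ k • h i = f i ^ k • h j) (hx : ∀ i, f i ^ k • x = (1 : S) ⊗ₜ[R] h i) :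
    ∃ n : N, (1 : S) ⊗ₜ[R] n = x ∧ ∀ i, f i ^ k • n = h i := by
  have hx' : (powMap f N k).lTensor S x = (1 : S) ⊗ₜ[R] h := by
    apply (TensorProduct.piRight R R S fun _ => N).injective
    funext i
    have hproj : ∀ z : S ⊗[R] N,
        TensorProduct.piRight R R S (fun _ => N) ((powMap f N k).lTensor S z) i = f i ^ k • z := by
      intro z
      induction z using TensorProduct.induction_on with
      | zero => simp
      | tmul s y => simp [powMap]
      | add a b ha hb => simp only [map_add, Pi.add_apply, smul_add, ha, hb]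
    rw [hproj, hx, TensorProduct.piRight_apply, TensorProduct.piRightHom_tmul]
  have hker : IsITors (Ideal.span (Set.range f)) (LinearMap.ker (powMap f N k)) :=
    isITors_of_kill fun y i => ⟨k, Subtype.ext (congrFun (LinearMap.mem_ker.1 y.2) i)⟩
  obtain ⟨n, hn⟩ := exists_pow_le f fun _ => k
  have hη : ∀ a ∈ Ideal.span (Set.range f) ^ n, a • h ∈ LinearMap.range (powMap f N k) := by
    intro a ha
    have ha' := hn ha
    clear ha
    induction ha' using Submodule.span_induction with
    | mem a hm =>
      obtain ⟨j, rfl⟩ := hm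
      exact ⟨h j, funext fun i => (hc i j).symm⟩
    | zero => simp
    | add x y _ _ hx hy => rw [add_smul]; exact add_mem hx hy
    | smul c x _ hx => rw [smul_eq_mul, mul_smul]; exact Submodule.smul_mem _ c hx
  obtain ⟨μ, h1, h2⟩ := exists_preimage hq (powMap f N k) x hx' n hη hker
  exact ⟨μ, h1, congrFun h2⟩

/-- A compatible family in `S ⊗ N` is, up to a multiple of one element, a family from `N`. -/
theorem exists_decomp_family (k : ℕ) (x : Fin t → S ⊗[R] N)
    (hc : ∀ i j, f j ^ k • x i = f i ^ k • x j) :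
    ∃ (h : Fin t → N) (z : S ⊗[R] N), (∀ i j, f j ^ k • h i = f i ^ k • h j) ∧
      ∀ i, x i = (1 : S) ⊗ₜ[R] h i + f i ^ k • z := by
  classical
  let P := LinearMap.ker (cocMap f N k)
  let ξ := (TensorProduct.piRight R R S fun _ : Fin t => N).symm x
  have hξ : (cocMap f N k).lTensor S ξ = 0 := by
    apply (TensorProduct.piRight R R S fun _ : Fin t × Fin t => N).injective
    have hproj : ∀ (w : S ⊗[R] (Fin t → N)) (i j : Fin t),
        TensorProduct.piRight R R S (fun _ => N) ((cocMap f N k).lTensor S w) (i, j) =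
          f j ^ k • TensorProduct.piRight R R S (fun _ => N) w i -
          f i ^ k • TensorProduct.piRight R R S (fun _ => N) w j := by
      intro w i j
      induction w using TensorProduct.induction_on with
      | zero => simp
      | tmul s y => simp [cocMap, TensorProduct.tmul_sub]
      | add a b ha hb => simp only [map_add, Pi.add_apply, smul_add, ha, hb]; abel
    funext ⟨i, j⟩
    rw [hproj, map_zero, Pi.zero_apply]
    simp only [ξ, LinearEquiv.apply_symm_apply]
    rw [hc i j, sub_self]
  have hexP : Function.Exact P.subtype (cocMap f N k) := (cocMap f N k).exact_subtype_ker_map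
  obtain ⟨w, hw⟩ := (Module.Flat.lTensor_exact S hexP _).1 hξ
  let c : N →ₗ[R] P := (powMap f N k).codRestrict P fun n => by
    rw [LinearMap.mem_ker, cocMap_eq_zero_iff]
    intro i j
    simp only [powMap, LinearMap.pi_apply, LinearMap.smul_apply, LinearMap.id_apply]
    rw [smul_comm]
  have hT : IsITors (Ideal.span (Set.range f)) (P ⧸ LinearMap.range c) := by
    refine isITors_of_kill fun q j => ?_
    obtain ⟨p, rfl⟩ := Submodule.Quotient.mk_surjective _ q
    refine ⟨k, ?_⟩
    rw [← Submodule.Quotient.mk_smul, Submodule.Quotient.mk_eq_zero]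
    refine ⟨(p : Fin t → N) j, Subtype.ext (funext fun i => ?_)⟩
    exact ((cocMap_eq_zero_iff f N k _).1 (LinearMap.mem_ker.1 p.2) i j).symm
  obtain ⟨q, hq'⟩ := (mk_bijective_of_torsion hq hT).2 ((LinearMap.range c).mkQ.lTensor S w)
  obtain ⟨p, rfl⟩ := Submodule.Quotient.mk_surjective _ q
  have h0 : (LinearMap.range c).mkQ.lTensor S (w - (1 : S) ⊗ₜ[R] p) = 0 := by
    rw [map_sub, ← hq']; simp
  obtain ⟨z, hz⟩ := (Module.Flat.lTensor_exact S (LinearMap.exact_map_mkQ_range c) _).1 h0
  refine ⟨p, z, (cocMap_eq_zero_iff f N k _).1 (LinearMap.mem_ker.1 p.2), fun i => ?_⟩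
  have hw' : w = (1 : S) ⊗ₜ[R] p + c.lTensor S z := by rw [hz]; abel
  have hx : x i = TensorProduct.piRight R R S (fun _ => N) (P.subtype.lTensor S w) i := by
    rw [hw]; simp [ξ]
  have hproj : ∀ z : S ⊗[R] N, TensorProduct.piRight R R S (fun _ => N)
      (P.subtype.lTensor S (c.lTensor S z)) i = f i ^ k • z := by
    intro z
    induction z using TensorProduct.induction_on with
    | zero => simp
    | tmul s y => simp [c, powMap]
    | add a b ha hb => simp only [map_add, Pi.add_apply, smul_add, ha, hb]
  rw [hx, hw', map_add, map_add, Pi.add_apply, hproj]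
  simp

end Groth.Agent.H48.FG
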