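import Mathlib

/-!
# Torsion modules along a flat map inducing an isomorphism modulo an ideal
-/

universe u

open TensorProduct

namespace Groth.Agent.H48.FG

variable {R : Type u} [CommRing R] (S : Type u) [CommRing S] [Algebra R S] (I : Ideal R)

/-- The quotient map `R/I → S/IS` is bijective. -/
abbrev QuotBij : Prop :=
  Function.Bijective (Ideal.quotientMap (I.map (algebraMap R S)) (algebraMap R S) Ideal.le_comap_map)

/-- Every element is killed by a power of `I`. -/
def IsITors (M : Type u) [AddCommGroup M] [Module R M] : Prop :=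
  ∀ m : M, ∃ n : ℕ, ∀ a ∈ I ^ n, a • m = 0

variable {S I}
variable {M : Type u} [AddCommGroup M] [Module R M]

theorem mem_smul_top_of_mk_eq_zero (hq : QuotBij S I) {m : M}
    (h : (1 : S) ⊗ₜ[R] m = 0) : m ∈ I • (⊤ : Submodule R M) := by
  let qf : (R ⧸ I) →ₗ[R] S ⧸ I.map (algebraMap R S) :=
    { toFun := Ideal.quotientMap (I.map (algebraMap R S)) (algebraMap R S) Ideal.le_comap_map
      map_add' := map_add _
      map_smul' := fun r x => by
        obtain ⟨x, rfl⟩ := Ideal.Quotient.mk_surjective x
        simp [Algebra.smul_def, ← Ideal.Quotient.algebraMap_eq,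
          IsScalarTower.algebraMap_apply R S (S ⧸ I.map (algebraMap R S))] }
  let e := LinearEquiv.ofBijective qf hq
  let r : S →ₗ[R] R ⧸ I :=
    e.symm.toLinearMap.comp (IsScalarTower.toAlgHom R S (S ⧸ I.map (algebraMap R S))).toLinearMap
  have hr : r 1 = Ideal.Quotient.mk I 1 := by
    apply e.injective
    simp [r, e, qf, ← Ideal.Quotient.algebraMap_eq]
  have := congrArg (fun z => quotTensorEquivQuotSMul M I (r.rTensor M z)) h
  simp only [LinearMap.rTensor_tmul, hr, quotTensorEquivQuotSMul_mk_tmul, one_smul, map_zero] at this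
  exact (Submodule.Quotient.mk_eq_zero _).1 this

theorem exists_mk_sub_mem (hq : QuotBij S I) (x : S ⊗[R] M) :
    ∃ m : M, x - (1 : S) ⊗ₜ[R] m ∈
      LinearMap.range ((I • (⊤ : Submodule R M)).subtype.lTensor S) := by
  induction x using TensorProduct.induction_on with
  | zero => exact ⟨0, by simp⟩
  | tmul s m =>
    obtain ⟨q, hq'⟩ := hq.2 (Ideal.Quotient.mk _ s)
    obtain ⟨r, rfl⟩ := Ideal.Quotient.mk_surjective q
    rw [Ideal.quotientMap_mk, Ideal.Quotient.eq] at hq'
    refine ⟨r • m, ?_⟩
    have hsub : s ⊗ₜ[R] m - (1 : S) ⊗ₜ[R] (r • m) = (s - algebraMap R S r) ⊗ₜ[R] m := by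
      rw [sub_tmul, ← smul_tmul, Algebra.smul_def, mul_one]
    rw [hsub]
    have hmem := (I.map (algebraMap R S)).neg_mem hq'
    rw [neg_sub] at hmem
    have key : ∀ c ∈ I.map (algebraMap R S), ∀ t : S, (t * c) ⊗ₜ[R] m ∈
        LinearMap.range ((I • (⊤ : Submodule R M)).subtype.lTensor S) := by
      intro c hc
      induction hc using Submodule.span_induction with
      | mem c hc =>
        obtain ⟨a, ha, rfl⟩ := hc
        intro t
        exact ⟨t ⊗ₜ ⟨a • m, Submodule.smul_mem_smul ha Submodule.mem_top⟩, by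
          rw [LinearMap.lTensor_tmul, Submodule.subtype_apply, ← smul_tmul, Algebra.smul_def,
            mul_comm]⟩
      | zero => intro t; simp
      | add a b _ _ ha hb => intro t; rw [mul_add, add_tmul]; exact add_mem (ha t) (hb t)
      | smul c a _ ih => intro t; rw [smul_eq_mul, ← mul_assoc]; exact ih (t * c)
    simpa using key _ hmem 1
  | add x y hx hy =>
    obtain ⟨a, ha⟩ := hx
    obtain ⟨b, hb⟩ := hy
    refine ⟨a + b, ?_⟩
    rw [tmul_add, add_sub_add_comm]
    exact add_mem ha hb

variable [Module.Flat R S]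

theorem mk_bijective_of_pow (hq : QuotBij S I) :
    ∀ (n : ℕ) (M : Type u) [AddCommGroup M] [Module R M], (∀ a ∈ I ^ n, ∀ m : M, a • m = 0) →
      Function.Bijective (TensorProduct.mk R S M 1) := by
  intro n
  induction n with
  | zero =>
    intro M _ _ h
    have : Subsingleton M := subsingleton_of_forall_eq 0 fun m => by
      simpa using h 1 (by simp) m
    have : Subsingleton (S ⊗[R] M) := inferInstance
    exact ⟨fun _ _ _ => Subsingleton.elim _ _, fun x => ⟨0, Subsingleton.elim _ _⟩⟩
  | succ n ih =>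
    intro M _ _ h
    let P : Submodule R M := I • ⊤
    have hP : ∀ a ∈ I ^ n, ∀ m : P, a • m = 0 := fun a ha m => Subtype.ext <| by
      show a • (m : M) = 0
      have : (m : M) ∈ I • (⊤ : Submodule R M) := m.2
      refine Submodule.smul_induction_on this (fun b hb x _ => ?_) fun x y hx hy => by
        rw [smul_add, hx, hy, add_zero]
      rw [← mul_smul]
      exact h _ (pow_succ I n ▸ Ideal.mul_mem_mul ha hb) x
    obtain ⟨hinj, hsurj⟩ := ih P hP
    refine ⟨(injective_iff_map_eq_zero _).2 fun m hm => ?_, fun x => ?_⟩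
    · have hmP : m ∈ P := mem_smul_top_of_mk_eq_zero hq hm
      have h0 : P.subtype.lTensor S ((1 : S) ⊗ₜ[R] (⟨m, hmP⟩ : P)) = 0 := hm
      have := Module.Flat.lTensor_preserves_injective_linearMap (M := S) P.subtype
        P.subtype_injective (h0.trans (map_zero _).symm)
      exact congrArg Subtype.val (hinj (this.trans (map_zero _).symm))
    · obtain ⟨m, y, hy⟩ := exists_mk_sub_mem hq x
      obtain ⟨p, rfl⟩ := hsurj y
      refine ⟨m + p, ?_⟩
      rw [map_add]
      change (1 : S) ⊗ₜ[R] m + (1 : S) ⊗ₜ[R] (p : M) = x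
      simp only [TensorProduct.mk_apply, LinearMap.lTensor_tmul, Submodule.subtype_apply] at hy
      rw [hy]; abel

theorem mk_bijective_of_torsion (hq : QuotBij S I) (hM : IsITors I M) :
    Function.Bijective (TensorProduct.mk R S M 1) := by
  have hfg : ∀ P : Submodule R M, P.FG → Function.Bijective (TensorProduct.mk R S P 1) := by
    intro P hP
    obtain ⟨T, hT⟩ := hP
    choose g hg using fun t : M => hM t
    refine mk_bijective_of_pow hq (T.sup g) P fun a ha m => Subtype.ext ?_
    show a • (m : M) = 0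
    have hm : (m : M) ∈ Submodule.span R (T : Set M) := hT ▸ m.2
    generalize (m : M) = m' at hm ⊢
    induction hm using Submodule.span_induction with
    | mem t ht => exact hg t a (Ideal.pow_le_pow_right (Finset.le_sup ht) ha)
    | zero => exact smul_zero a
    | add x y _ _ hx hy => rw [smul_add, hx, hy, add_zero]
    | smul c x _ hx => rw [smul_comm, hx, smul_zero]
  refine ⟨(injective_iff_map_eq_zero _).2 fun m hm => ?_, fun x => ?_⟩
  · let P := Submodule.span R ({m} : Set M)
    have h0 : P.subtype.lTensor S ((1 : S) ⊗ₜ[R] (⟨m, Submodule.mem_span_singleton_self m⟩ : P)) = 0 :=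
      hm
    have := Module.Flat.lTensor_preserves_injective_linearMap (M := S) P.subtype
      P.subtype_injective (h0.trans (map_zero _).symm)
    exact congrArg Subtype.val
      ((hfg P (Submodule.fg_span_singleton m)).1 (this.trans (map_zero _).symm))
  · induction x using TensorProduct.induction_on with
    | zero => exact ⟨0, map_zero _⟩
    | tmul s m =>
      obtain ⟨p, hp⟩ := (hfg _ (Submodule.fg_span_singleton m)).2
        (s ⊗ₜ[R] (⟨m, Submodule.mem_span_singleton_self m⟩ : Submodule.span R ({m} : Set M)))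
      exact ⟨p, congrArg (LinearMap.lTensor S (Submodule.subtype _)) hp⟩
    | add x y hx hy =>
      obtain ⟨a, rfl⟩ := hx
      obtain ⟨b, rfl⟩ := hy
      exact ⟨a + b, map_add _ _ _⟩

/-- If `ψ : A → B` has `I`-power torsion cokernel and kernel, then any element of `B` whose image in
`S ⊗ B` comes from `x : S ⊗ A` comes from a unique element of `A` inducing `x`. -/
theorem exists_preimage (hq : QuotBij S I) {A B : Type u} [AddCommGroup A] [Module R A]
    [AddCommGroup B] [Module R B] (ψ : A →ₗ[R] B) {η : B} (x : S ⊗[R] A)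
    (hx : ψ.lTensor S x = (1 : S) ⊗ₜ[R] η) (n : ℕ) (hη : ∀ a ∈ I ^ n, a • η ∈ LinearMap.range ψ)
    (hker : IsITors I (LinearMap.ker ψ)) :
    ∃ μ : A, (1 : S) ⊗ₜ[R] μ = x ∧ ψ μ = η := by
  let P := Submodule.span R ({(LinearMap.range ψ).mkQ η} : Set (B ⧸ LinearMap.range ψ))
  let c : P := ⟨_, Submodule.mem_span_singleton_self _⟩
  have hP : IsITors I P := by
    intro p
    obtain ⟨r, hr⟩ := Submodule.mem_span_singleton.1 p.2
    refine ⟨n, fun a ha => Subtype.ext ?_⟩
    show a • (p : B ⧸ LinearMap.range ψ) = 0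
    rw [← hr, smul_comm, ← map_smul, Submodule.mkQ_apply, (Submodule.Quotient.mk_eq_zero _).2 (hη a ha),
      smul_zero]
  have h1 : P.subtype.lTensor S ((1 : S) ⊗ₜ[R] c) = 0 := by
    show (1 : S) ⊗ₜ[R] (LinearMap.range ψ).mkQ η = 0
    rw [← LinearMap.lTensor_tmul S _ (1 : S), ← hx, ← LinearMap.comp_apply, ← LinearMap.lTensor_comp,
      LinearMap.range_mkQ_comp, LinearMap.lTensor_zero, LinearMap.zero_apply]
  have h2 := (mk_bijective_of_torsion hq hP).1 ((Module.Flat.lTensor_preserves_injective_linearMap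
    (M := S) P.subtype P.subtype_injective (h1.trans (map_zero _).symm)).trans (map_zero _).symm)
  obtain ⟨μ₀, hμ₀⟩ := (Submodule.Quotient.mk_eq_zero _).1 (congrArg Subtype.val h2)
  have h3 : ψ.lTensor S (x - (1 : S) ⊗ₜ[R] μ₀) = 0 := by
    rw [map_sub, hx, LinearMap.lTensor_tmul, hμ₀, sub_self]
  obtain ⟨y, hy⟩ := (Module.Flat.lTensor_exact S ψ.exact_subtype_ker_map _).1 h3
  obtain ⟨t, rfl⟩ := (mk_bijective_of_torsion hq hker).2 y
  refine ⟨μ₀ + t, ?_, by rw [map_add, hμ₀, LinearMap.mem_ker.1 t.2, add_zero]⟩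
  rw [TensorProduct.tmul_add]
  simp only [TensorProduct.mk_apply, LinearMap.lTensor_tmul, Submodule.subtype_apply] at hy
  rw [hy]; abel

theorem quotBij_of_mk_bijective {S : Type u} [CommRing S] [Algebra R S]
    (h : Function.Bijective (TensorProduct.mk R S (R ⧸ I) 1)) : QuotBij S I := by
  let θ : S ⊗[R] (R ⧸ I) →ₗ[R] S ⧸ I.map (algebraMap R S) :=
    TensorProduct.lift (LinearMap.mk₂ R
      (fun s q => Ideal.Quotient.mk (I.map (algebraMap R S)) s *
        Ideal.quotientMap (I.map (algebraMap R S)) (algebraMap R S) Ideal.le_comap_map q)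
      (fun a b q => by rw [map_add, add_mul])
      (fun c a q => by simp [Algebra.smul_def, mul_assoc, ← Ideal.Quotient.algebraMap_eq,
        ← IsScalarTower.algebraMap_apply])
      (fun a p q => by rw [map_add, mul_add])
      (fun c a q => by
        obtain ⟨q, rfl⟩ := Ideal.Quotient.mk_surjective q
        simp [Algebra.smul_def, ← Ideal.Quotient.algebraMap_eq,
          IsScalarTower.algebraMap_apply R S (S ⧸ I.map (algebraMap R S))]
        ring))
  have hθ : ∀ q, θ ((1 : S) ⊗ₜ[R] q) =
      Ideal.quotientMap (I.map (algebraMap R S)) (algebraMap R S) Ideal.le_comap_map q := fun q => by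
    simp [θ]
  refine ⟨(injective_iff_map_eq_zero _).2 fun q hq => ?_, fun t => ?_⟩
  · obtain ⟨r, rfl⟩ := Ideal.Quotient.mk_surjective q
    rw [Ideal.quotientMap_mk, Ideal.Quotient.eq_zero_iff_mem] at hq
    have key : ∀ c ∈ I.map (algebraMap R S), ∀ t : S,
        (t * c) ⊗ₜ[R] Ideal.Quotient.mk I (1 : R) = 0 := by
      intro c hc
      induction hc using Submodule.span_induction with
      | mem c hc =>
        obtain ⟨a, ha, rfl⟩ := hc
        intro t
        rw [mul_comm, ← Algebra.smul_def, smul_tmul, ← Ideal.Quotient.mk_eq_mk,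
          ← Submodule.Quotient.mk_smul, smul_eq_mul, mul_one,
          (Submodule.Quotient.mk_eq_zero I).2 ha, tmul_zero]
      | zero => intro t; simp
      | add a b _ _ ha hb => intro t; rw [mul_add, add_tmul, ha, hb, add_zero]
      | smul c a _ ih => intro t; rw [smul_eq_mul, ← mul_assoc]; exact ih _
    have h1 := key _ hq 1
    rw [one_mul, Algebra.algebraMap_eq_smul_one, smul_tmul, ← Ideal.Quotient.mk_eq_mk,
      ← Submodule.Quotient.mk_smul, smul_eq_mul, mul_one] at h1
    exact h.1 (h1.trans (map_zero _).symm)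
  · obtain ⟨s, rfl⟩ := Ideal.Quotient.mk_surjective t
    obtain ⟨q, hq⟩ := h.2 (s ⊗ₜ[R] Ideal.Quotient.mk I (1 : R))
    refine ⟨q, ?_⟩
    rw [← hθ]
    simp only [TensorProduct.mk_apply] at hq
    rw [hq]
    simp [θ]

end Groth.Agent.H48.FG
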