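import Groth.Agent.H48.DomVal
import Mathlib.NumberTheory.RamificationInertia.Galois
import Mathlib.RingTheory.RamificationInertia.Inertia
import Mathlib.RingTheory.RamificationInertia.Ramification
import Mathlib.RingTheory.Invariant.Galois
import Mathlib.FieldTheory.Galois.IsGaloisGroup

/-!
Ramification index and residue degree of a place of a Galois extension divide the degree.
-/

set_option autoImplicit false
set_option linter.style.haveILetI false
universe u
open IsLocalRing EtRam

namespace Groth.Agent.H48.GalRam

variable {A K L : Type u} [CommRing A] [IsDomain A] [IsDiscreteValuationRing A] [Field K] [Algebra A K]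
  [IsFractionRing A K] [Field L] [Algebra K L] [FiniteDimensional K L]

/-- A dominating valuation subring is a localisation of the integral closure at a maximal ideal. -/
theorem exists_localization [Algebra.IsSeparable K L] [Algebra A L] [IsScalarTower A K L] (V : ValuationSubring L)
    (hV : Dominates A ((algebraMap K L).comp (algebraMap A K)) V) :
    ∃ f : integralClosure A L →+* V, (∀ c, (f c : L) = c) ∧ ∃ (P : Ideal (integralClosure A L)) (_ : P.IsPrime),
      P = (maximalIdeal V).comap f ∧ P ≠ ⊥ ∧
        @IsLocalization.AtPrime _ _ V _ f.toAlgebra P _ := by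
  let C := integralClosure A L
  haveI : IsDedekindDomain C := IsIntegralClosure.isDedekindDomain A K L C
  haveI : IsFractionRing C L := IsIntegralClosure.isFractionRing_of_finite_extension A K L C
  have hmap : ∀ a, algebraMap A L a = algebraMap K L (algebraMap A K a) := IsScalarTower.algebraMap_apply A K L
  have hCV : ∀ c : C, (c : L) ∈ V := by
    intro c
    letI : Algebra A V := ((algebraMap A L).codRestrict V fun a => hmap a ▸ hV.1 a).toAlgebra
    haveI : IsScalarTower A V L := IsScalarTower.of_algebraMap_eq fun _ => rfl
    obtain ⟨y, hy⟩ := IsIntegrallyClosed.isIntegral_iff.1 (c.2.tower_top (A := V))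
    rw [← hy]; exact y.2
  let f : C →+* V := (algebraMap C L).codRestrict V hCV
  let P : Ideal C := (maximalIdeal V).comap f
  have hP : P ≠ ⊥ := by
    obtain ⟨π, hπ⟩ := IsDiscreteValuationRing.exists_irreducible A
    refine Submodule.ne_bot_iff _ |>.2 ⟨algebraMap A C π, ?_, ?_⟩
    · refine (ValuationSubring.valuation_lt_one_iff V (f (algebraMap A C π))).2 ?_
      show V.valuation (algebraMap A L π) < 1
      rw [hmap]; exact hV.2 π hπ.not_isUnit
    · intro h0
      have h1 : algebraMap A L π = 0 := by rw [IsScalarTower.algebraMap_apply A C L, h0, map_zero]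
      rw [hmap, map_eq_zero] at h1
      exact hπ.ne_zero ((map_eq_zero_iff _ (IsFractionRing.injective A K)).1 h1)
  haveI : P.IsPrime := Ideal.IsPrime.comap f
  refine ⟨f, fun c => rfl, P, inferInstance, rfl, hP, ?_⟩
  let Q := Localization.AtPrime P
  haveI : IsDiscreteValuationRing Q := IsLocalization.AtPrime.isDiscreteValuationRing_of_dedekind_domain C hP _
  have hu : ∀ d : P.primeCompl, IsUnit (f d) := fun d => IsLocalRing.notMem_maximalIdeal.1 d.2
  let φ : Q →+* V := IsLocalization.lift (M := P.primeCompl) (g := f) hu
  have hloc : ∀ s : Q, IsUnit (φ s) → IsUnit s := by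
    intro s hs
    obtain ⟨⟨c, d⟩, rfl⟩ := IsLocalization.mk'_surjective P.primeCompl s
    have hc : IsUnit (f c) := by
      have : φ (IsLocalization.mk' _ c d) * f d = f c := by
        rw [← IsLocalization.lift_eq (S := Q) hu (d : C), ← map_mul, IsLocalization.mk'_spec, IsLocalization.lift_eq]
      rw [← this]
      exact hs.mul (hu d)
    exact (IsLocalization.AtPrime.isUnit_mk'_iff Q P c d).2 fun hcP => (mem_maximalIdeal _).1 hcP hc
  let ψ : Q →+* L := V.subtype.comp φ
  letI : Algebra Q L := ψ.toAlgebra
  haveI : IsScalarTower C Q L := IsScalarTower.of_algebraMap_eq fun c => by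
    show _ = V.subtype (φ _)
    rw [IsLocalization.lift_eq]; rfl
  haveI : IsFractionRing Q L := IsFractionRing.isFractionRing_of_isDomain_of_isLocalization P.primeCompl _ _
  have hsurj : Function.Surjective φ := by
    intro x
    rcases ValuationRing.isInteger_or_isInteger Q (x : L) with ⟨s, hs⟩ | ⟨s, hs⟩
    · exact ⟨s, Subtype.ext hs⟩
    · by_cases h : IsUnit s
      · refine ⟨(h.unit⁻¹ : _), Subtype.ext ?_⟩
        show ψ _ = (x : L)
        rw [map_units_inv, IsUnit.unit_spec, ← inv_inv (x : L)]
        exact congrArg _ hs
      · have h0 : x = 0 := by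
          by_contra hx
          refine h (hloc s ?_)
          have : x * φ s = 1 := Subtype.ext (show (x : L) * ψ s = 1 by
            rw [show ψ s = (x : L)⁻¹ from hs]
            exact mul_inv_cancel₀ fun h0 => hx (Subtype.ext h0))
          exact IsUnit.of_mul_eq_one x (by rw [mul_comm]; exact this)
        exact ⟨0, by rw [h0, map_zero]⟩
  have hinj : Function.Injective φ := fun a b hab => IsFractionRing.injective Q L (congrArg Subtype.val hab)
  letI : Algebra C V := f.toAlgebra
  let φA : Q →ₐ[C] V := { φ with commutes' := fun c => IsLocalization.lift_eq hu c }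
  exact IsLocalization.isLocalization_of_algEquiv P.primeCompl (AlgEquiv.ofBijective φA ⟨hinj, hsurj⟩)

/-- Both local degrees divide the global one. -/
theorem dvd_finrank [IsGalois K L] (V : ValuationSubring L)
    (hV : Dominates A ((algebraMap K L).comp (algebraMap A K)) V) :
    letI : Algebra A V := (RingHom.codRestrict _ V hV.1).toAlgebra
    ∀ [IsLocalHom (algebraMap A V)],
    Ideal.ramificationIdx' (maximalIdeal A) (maximalIdeal V) ∣ Module.finrank K L ∧
      Module.finrank (ResidueField A) (ResidueField V) ∣ Module.finrank K L := by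
  intro _
  letI : Algebra A V := (RingHom.codRestrict _ V hV.1).toAlgebra
  letI : Algebra A L := ((algebraMap K L).comp (algebraMap A K)).toAlgebra
  haveI : IsScalarTower A K L := IsScalarTower.of_algebraMap_eq fun _ => rfl
  haveI : Algebra.IsSeparable K L := inferInstance
  haveI : IsDiscreteValuationRing V := DomVal.isDVR A K L hV
  obtain ⟨f, hf, P, hPp, hPdef, hP0, hloc⟩ := exists_localization V hV
  let C := integralClosure A L
  letI : Algebra C V := f.toAlgebra
  haveI : IsLocalization.AtPrime V P := hloc
  haveI : IsDedekindDomain C := IsIntegralClosure.isDedekindDomain A K L C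
  haveI : IsFractionRing C L := IsIntegralClosure.isFractionRing_of_finite_extension A K L C
  haveI : Module.Finite A C := IsIntegralClosure.finite A K L C
  haveI : FaithfulSMul A C := (faithfulSMul_iff_algebraMap_injective A C).2 fun a b h => by
    have h' := congrArg (algebraMap C L) h
    rw [← IsScalarTower.algebraMap_apply, ← IsScalarTower.algebraMap_apply] at h'
    exact IsFractionRing.injective A K ((algebraMap K L).injective h')
  haveI : Module.IsTorsionFree A C := Module.isTorsionFree_iff_algebraMap_injective.2
    (FaithfulSMul.algebraMap_injective A C)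
  haveI : IsScalarTower A C V := IsScalarTower.of_algebraMap_eq fun a => Subtype.ext (hf (algebraMap A C a)).symm
  haveI : P.IsMaximal := hPp.isMaximal hP0
  have hover : P.LiesOver (maximalIdeal A) := ⟨by
    ext a
    rw [Ideal.under_def, Ideal.mem_comap, hPdef, Ideal.mem_comap,
      show f (algebraMap A C a) = algebraMap A V a from (IsScalarTower.algebraMap_apply A C V a).symm,
      mem_maximalIdeal, mem_maximalIdeal, mem_nonunits_iff, mem_nonunits_iff]
    exact ⟨fun h hu => h ((isUnit_map_iff _ a).1 hu), fun h hu => h (hu.map _)⟩⟩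
  letI := IsIntegralClosure.MulSemiringAction A K L C
  haveI : IsGaloisGroup (L ≃ₐ[K] L) A C := IsGaloisGroup.of_isFractionRing (L ≃ₐ[K] L) A C K L
  have h := Ideal.ncard_primesOver_mul_ramificationIdxIn_mul_inertiaDegIn (maximalIdeal A) C (L ≃ₐ[K] L)
  rw [Ideal.ramificationIdxIn_eq_ramificationIdx (maximalIdeal A) P (L ≃ₐ[K] L),
    Ideal.inertiaDegIn_eq_inertiaDeg (maximalIdeal A) P (L ≃ₐ[K] L), IsGalois.card_aut_eq_finrank] at h
  have hne : maximalIdeal A ≠ ⊥ := IsDiscreteValuationRing.not_a_field A
  rw [← Ideal.ramificationIdx'_eq_ramificationIdx (maximalIdeal A) P hne,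
    Ideal.inertiaDeg_eq_of_isMaximal (maximalIdeal A) P] at h
  constructor
  · -- ramification
    have hpS : (maximalIdeal A).map (algebraMap A C) ≠ ⊥ := Ideal.map_ne_bot_of_ne_bot hne
    obtain ⟨I, hI, hdec⟩ := Ideal.eq_prime_pow_mul_coprime hpS P
    rw [← Ideal.IsDedekindDomain.ramificationIdx'_eq_normalizedFactors_count hpS hPp hP0] at hdec
    have hIP : ¬ I ≤ P := fun hle => hPp.ne_top (by rw [← hI, sup_of_le_left hle])
    have hmap : (maximalIdeal A).map (algebraMap A V) =
        maximalIdeal V ^ Ideal.ramificationIdx' (maximalIdeal A) P := by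
      rw [IsScalarTower.algebraMap_eq A C V, ← Ideal.map_map]
      conv_lhs => rw [hdec]
      rw [Ideal.map_mul, Ideal.map_pow, IsLocalization.AtPrime.map_eq_top_of_not_le V hIP, Ideal.mul_top,
        IsLocalization.AtPrime.map_eq_maximalIdeal]
    rw [Ideal.ramificationIdx'_spec hmap.le (by
      rw [hmap]
      exact not_le_of_gt ((Ideal.pow_right_strictAnti _ (IsDiscreteValuationRing.not_a_field V) (maximalIdeal.isMaximal V).ne_top) (Nat.lt_succ_self _)))]
    rw [← h]; exact (dvd_mul_right _ _).mul_left _
  · -- residue degree
    have : Module.finrank (A ⧸ maximalIdeal A) (C ⧸ P) = Module.finrank (ResidueField A) (ResidueField V) := by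
      refine Algebra.finrank_eq_of_equiv_equiv (RingEquiv.refl (ResidueField A))
        (IsLocalization.AtPrime.equivQuotMaximalIdeal P V) ?_
      refine RingHom.ext fun x => ?_
      obtain ⟨a, rfl⟩ := Ideal.Quotient.mk_surjective x
      show algebraMap (ResidueField A) (ResidueField V) (residue A a) =
        Ideal.Quotient.mk (maximalIdeal V) (algebraMap C V (algebraMap A C a))
      rw [← IsScalarTower.algebraMap_apply A C V a]
      rfl
    rw [← this]
    rw [← h]; exact (dvd_mul_left _ _).mul_left _

end Groth.Agent.H48.GalRam
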