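import Groth.Prelude.Def_EtGlue
import Mathlib.LinearAlgebra.DirectSum.Finsupp
import Mathlib.LinearAlgebra.TensorProduct.Quotient
import Mathlib.LinearAlgebra.TensorProduct.RightExactness
import Mathlib.RingTheory.Localization.Away.Basic
import Mathlib.Tactic.LinearCombination

/-!
# Beauville–Laszlo: torsion, quotients and the glued module
-/

open TensorProduct

namespace Groth.Agent.H48.Glue

universe u

variable {R R' : Type u} [CommRing R] [CommRing R'] [Algebra R R'] {f : R}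
variable {M : Type u} [AddCommGroup M] [Module R M]

/-- `f ^ n` as an element of the powers of `f`. -/
abbrev pw (f : R) (n : ℕ) : Submonoid.powers f :=
  ⟨f ^ n, Submonoid.pow_mem _ (Submonoid.mem_powers f) n⟩

theorem exists_approx (hq : EtGlue.QuotPowBijective R R' f) (n : ℕ) (r : R') :
    ∃ (a : R) (s : R'), r = algebraMap R R' a + algebraMap R R' f ^ n * s := by
  rcases Nat.eq_zero_or_pos n with rfl | hn
  · exact ⟨0, r, by simp⟩
  obtain ⟨a, ha⟩ := (hq n hn).2 (Ideal.Quotient.mk _ r)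
  obtain ⟨a, rfl⟩ := Ideal.Quotient.mk_surjective a
  rw [Ideal.quotientMap_mk, Ideal.Quotient.eq, Ideal.map_span, Set.image_singleton,
    Ideal.mem_span_singleton'] at ha
  obtain ⟨s, hs⟩ := ha
  refine ⟨a, -s, ?_⟩
  rw [← map_pow]
  linear_combination hs

theorem dvd_of_algebraMap_eq (hq : EtGlue.QuotPowBijective R R' f) {n : ℕ} {a : R} {s : R'}
    (h : algebraMap R R' a = algebraMap R R' f ^ n * s) : ∃ c, a = f ^ n * c := by
  rcases Nat.eq_zero_or_pos n with rfl | hn
  · exact ⟨a, by simp⟩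
  have h0 : Ideal.Quotient.mk (Ideal.span {f ^ n}) a = 0 := by
    apply (hq n hn).1
    rw [map_zero, Ideal.quotientMap_mk, Ideal.Quotient.eq_zero_iff_mem, Ideal.map_span,
      Set.image_singleton, Ideal.mem_span_singleton']
    exact ⟨s, by rw [h, map_pow, mul_comm]⟩
  rw [Ideal.Quotient.eq_zero_iff_mem, Ideal.mem_span_singleton'] at h0
  obtain ⟨c, rfl⟩ := h0
  exact ⟨c, mul_comm _ _⟩

theorem smul_tmul_eq (a : R) (r : R') (m : M) :
    (algebraMap R R' a * r) ⊗ₜ[R] m = a • (r ⊗ₜ[R] m) := by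
  rw [← Algebra.smul_def, smul_tmul']

/-- Every element of `R' ⊗ M` is `1 ⊗ m + f^n • w`. -/
theorem exists_decomp (hq : EtGlue.QuotPowBijective R R' f) (n : ℕ) (t : R' ⊗[R] M) :
    ∃ (m : M) (w : R' ⊗[R] M), t = (1 : R') ⊗ₜ m + f ^ n • w := by
  induction t with
  | add x y hx hy =>
    obtain ⟨m, w, rfl⟩ := hx
    obtain ⟨m', w', rfl⟩ := hy
    exact ⟨m + m', w + w', by rw [tmul_add, smul_add]; abel⟩
  | zero => exact ⟨0, 0, by simp⟩
  | tmul r m =>
    obtain ⟨a, s, rfl⟩ := exists_approx hq n r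
    refine ⟨a • m, s ⊗ₜ m, ?_⟩
    rw [add_tmul, ← map_pow, smul_tmul_eq, tmul_smul]
    congr 1
    rw [smul_tmul', Algebra.algebraMap_eq_smul_one]

/-- `M → (R' ⊗ M) / f^n` is injective: `1 ⊗ m ∈ f^n (R' ⊗ M)` forces `m ∈ f^n M`. -/
theorem exists_eq_smul_of_tmul (hq : EtGlue.QuotPowBijective R R' f) {n : ℕ} {m : M}
    {w : R' ⊗[R] M} (h : (1 : R') ⊗ₜ[R] m = f ^ n • w) : ∃ m', m = f ^ n • m' := by
  rcases Nat.eq_zero_or_pos n with rfl | hn
  · exact ⟨m, by simp⟩
  let I : Ideal R := Ideal.span {f ^ n}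
  choose a s hrs using fun r => exists_approx hq n r
  have hwd : ∀ (r : R') (b : R) (c : R'), r = algebraMap R R' b + algebraMap R R' f ^ n * c →
      Ideal.Quotient.mk I (a r) = Ideal.Quotient.mk I b := by
    intro r b c hr
    obtain ⟨d, hd⟩ := dvd_of_algebraMap_eq hq (n := n) (a := a r - b) (s := c - s r) (by
      rw [map_sub]
      have := (hrs r).symm.trans hr
      linear_combination this)
    exact Ideal.Quotient.eq.2 (Ideal.mem_span_singleton'.2 ⟨d, by rw [hd, mul_comm]⟩)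
  let φ : R' →ₗ[R] R ⧸ I :=
    { toFun := fun r => Ideal.Quotient.mk I (a r)
      map_add' := fun x y => by
        rw [← map_add]
        exact hwd _ _ (s x + s y) (by
          rw [map_add]; linear_combination hrs x + hrs y)
      map_smul' := fun c x => by
        show _ = c • Ideal.Quotient.mk I (a x)
        rw [Algebra.smul_def c (Ideal.Quotient.mk I (a x)), Ideal.Quotient.algebraMap_eq, ← map_mul]
        exact hwd _ _ (algebraMap R R' c * s x) (by
          rw [Algebra.smul_def c x, map_mul]; linear_combination (algebraMap R R' c) * hrs x) }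
  let e := TensorProduct.quotTensorEquivQuotSMul M I
  have h2 := congrArg (fun t => e (LinearMap.rTensor M φ t)) h
  simp only [LinearMap.rTensor_tmul, map_smul] at h2
  have h1 : φ 1 = Ideal.Quotient.mk I 1 := hwd 1 1 0 (by simp)
  rw [h1] at h2
  obtain ⟨y, hy⟩ := Submodule.mkQ_surjective (I • (⊤ : Submodule R M)) (e (LinearMap.rTensor M φ w))
  rw [← hy, TensorProduct.quotTensorEquivQuotSMul_mk_tmul, one_smul, ← map_smul,
    Submodule.mkQ_apply, Submodule.Quotient.eq, Submodule.ideal_span_singleton_smul,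
    Submodule.mem_smul_pointwise_iff_exists] at h2
  obtain ⟨z, -, hz⟩ := h2
  exact ⟨z + y, by rw [smul_add, hz]; abel⟩

/-- The torsion condition on the ring. -/
def TorsionBij (R R' : Type u) [CommRing R] [CommRing R'] [Algebra R R'] (f : R) : Prop :=
  (∀ x : R, (∃ n : ℕ, f ^ n * x = 0) → algebraMap R R' x = 0 → x = 0) ∧
    (∀ x' : R', (∃ n : ℕ, algebraMap R R' f ^ n * x' = 0) →
      ∃ x : R, (∃ n : ℕ, f ^ n * x = 0) ∧ algebraMap R R' x = x')

theorem exists_eq_of_mul_eq (hq : EtGlue.QuotPowBijective R R' f) (ht : TorsionBij R R' f)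
    {n : ℕ} {k : R} {z : R'} (h : algebraMap R R' f ^ n * z = algebraMap R R' k) :
    ∃ d : R, z = algebraMap R R' d ∧ f ^ n * d = k := by
  obtain ⟨c, rfl⟩ := dvd_of_algebraMap_eq hq h.symm
  obtain ⟨t, ⟨j, hj⟩, htz⟩ := ht.2 (z - algebraMap R R' c) ⟨n, by
    rw [mul_sub, h, map_mul, map_pow, sub_self]⟩
  have ht0 : f ^ n * t = 0 := by
    apply ht.1 _ ⟨j, by rw [mul_left_comm, hj, mul_zero]⟩
    rw [map_mul, map_pow, htz, mul_sub, h, map_mul, map_pow, sub_self]
  exact ⟨c + t, by rw [map_add, htz]; ring, by rw [mul_add, ht0, add_zero]⟩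

/-- For a glueing pair, `f`-power torsion of `R' ⊗ M` comes from that of `M`. -/
theorem exists_torsion_preimage (hq : EtGlue.QuotPowBijective R R' f) (ht : TorsionBij R R' f)
    {n : ℕ} {x : R' ⊗[R] M} (hx : f ^ n • x = 0) :
    ∃ m : M, f ^ n • m = 0 ∧ (1 : R') ⊗ₜ[R] m = x := by
  classical
  let p : (M →₀ R) →ₗ[R] M := Finsupp.linearCombination R id
  have hp : Function.Surjective p := Finsupp.linearCombination_id_surjective R M
  obtain ⟨y, rfl⟩ := LinearMap.lTensor_surjective R' hp x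
  rw [← map_smul] at hx
  have hex : Function.Exact (LinearMap.ker p).subtype p := p.exact_subtype_ker_map
  obtain ⟨v, hv⟩ := (lTensor_exact (M := LinearMap.ker p) R' hex hp _).1 hx
  obtain ⟨k, w, rfl⟩ := exists_decomp (M := LinearMap.ker p) hq n v
  rw [map_add, map_smul, LinearMap.lTensor_tmul] at hv
  set z := y - (LinearMap.ker p).subtype.lTensor R' w with hz
  have hz' : f ^ n • z = (1 : R') ⊗ₜ[R] (k : M →₀ R) := by
    rw [hz, smul_sub, ← hv]; exact add_sub_cancel_right _ _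
  let e := TensorProduct.finsuppScalarRight R R' R' M
  have hj : ∀ j : M, algebraMap R R' f ^ n * e z j = algebraMap R R' ((k : M →₀ R) j) := by
    intro j
    have := congrArg (fun t => e t j) hz'
    simp only [← algebraMap_smul R' (f ^ n) z, e, map_smul, Finsupp.smul_apply,
      TensorProduct.finsuppScalarRight_apply_tmul_apply, smul_eq_mul] at this
    rw [map_pow, Algebra.smul_def, mul_one] at this
    exact this
  choose d hd1 hd2 using fun j => exists_eq_of_mul_eq hq ht (hj j)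
  let D : M →₀ R := Finsupp.onFinset ((e z).support ∪ (k : M →₀ R).support)
    (fun j => if j ∈ (e z).support ∪ (k : M →₀ R).support then d j else 0)
    (fun j hj' => by by_contra h; exact hj' (if_neg h))
  have hD1 : ∀ j, e z j = algebraMap R R' (D j) := by
    intro j
    simp only [D, Finsupp.onFinset_apply]
    split_ifs with h
    · exact hd1 j
    · rw [Finset.mem_union, not_or, Finsupp.notMem_support_iff] at h
      rw [h.1, map_zero]
  have hD2 : f ^ n • D = (k : M →₀ R) := by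
    ext j
    simp only [D, Finsupp.smul_apply, Finsupp.onFinset_apply, smul_eq_mul]
    split_ifs with h
    · exact hd2 j
    · rw [Finset.mem_union, not_or, Finsupp.notMem_support_iff, Finsupp.notMem_support_iff] at h
      rw [h.2, mul_zero]
  have hzD : z = (1 : R') ⊗ₜ[R] D := by
    apply e.injective
    ext j
    rw [hD1, TensorProduct.finsuppScalarRight_apply_tmul_apply, Algebra.smul_def, mul_one]
  refine ⟨p D, ?_, ?_⟩
  · rw [← map_smul, hD2]; exact k.2
  · rw [← LinearMap.lTensor_tmul R' p 1 D, ← hzD, hz, map_sub, ← LinearMap.comp_apply,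
      ← LinearMap.lTensor_comp, LinearMap.comp_ker_subtype]
    simp

theorem torsionBij_of_isGlueingPair (h : EtGlue.IsGlueingPair R R' f) : TorsionBij R R' f := by
  obtain ⟨hq, hinj, hex, -⟩ := h
  constructor
  · intro x ⟨n, hn⟩ hx
    refine hinj (Prod.ext ?_ ?_)
    · simpa using hx
    · show algebraMap R (Localization.Away f) x = algebraMap R (Localization.Away f) 0
      rw [map_zero, IsLocalization.map_eq_zero_iff (Submonoid.powers f)]
      exact ⟨⟨_, n, rfl⟩, hn⟩
  · intro x' ⟨n, hn⟩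
    obtain ⟨x, hx, hx0⟩ := hex x' 0 (by
      rw [map_zero, IsLocalization.map_eq_zero_iff (Submonoid.powers (algebraMap R R' f))]
      exact ⟨⟨_, n, rfl⟩, hn⟩)
    obtain ⟨⟨_, j, rfl⟩, hj⟩ := (IsLocalization.map_eq_zero_iff (Submonoid.powers f) _ x).1 hx0
    exact ⟨x, ⟨j, hj⟩, hx⟩

theorem mkLinearMap_eq_zero_iff (m : M) :
    LocalizedModule.mkLinearMap (Submonoid.powers f) M m = 0 ↔ ∃ n : ℕ, f ^ n • m = 0 := by
  rw [IsLocalizedModule.eq_zero_iff (Submonoid.powers f)]
  exact ⟨fun ⟨⟨_, n, rfl⟩, hn⟩ => ⟨n, hn⟩, fun ⟨n, hn⟩ => ⟨⟨_, n, rfl⟩, hn⟩⟩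

theorem tensorOfLoc_mk (m : M) (n : ℕ) :
    EtGlue.tensorOfLoc R R' f M (LocalizedModule.mk m (pw f n)) =
      LocalizedModule.mk ((1 : R') ⊗ₜ[R] m) (pw f n) := by
  simp [EtGlue.tensorOfLoc, IsLocalizedModule.map_LocalizedModules]

theorem isGlueable_of_torsion (hq : EtGlue.QuotPowBijective R R' f)
    (h1 : ∀ m : M, (∃ n : ℕ, f ^ n • m = 0) → (1 : R') ⊗ₜ[R] m = 0 → m = 0)
    (h2 : ∀ x : R' ⊗[R] M, (∃ n : ℕ, f ^ n • x = 0) →
      ∃ m : M, (∃ n : ℕ, f ^ n • m = 0) ∧ (1 : R') ⊗ₜ[R] m = x) :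
    EtGlue.IsGlueable R R' f M := by
  constructor
  · intro a b hab
    simp only [Prod.mk.injEq] at hab
    rw [← sub_eq_zero]
    refine h1 _ ((mkLinearMap_eq_zero_iff _).1 ?_) ?_
    · rw [map_sub, hab.2, sub_self]
    · rw [tmul_sub, hab.1, sub_self]
  · intro x y hxy
    induction y using LocalizedModule.induction_on with
    | h m s =>
      obtain ⟨_, n, rfl⟩ := s
      rw [tensorOfLoc_mk] at hxy
      obtain ⟨⟨_, k, rfl⟩, hk⟩ := LocalizedModule.mk_eq.1 hxy
      simp only [Submonoid.smul_def, one_smul] at hk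
      rw [smul_smul, ← pow_add, ← tmul_smul] at hk
      obtain ⟨μ, hμ⟩ := exists_eq_smul_of_tmul hq hk.symm
      obtain ⟨τ, ⟨j, hj⟩, hτ⟩ := h2 (x - (1 : R') ⊗ₜ μ) ⟨k + n, by
        rw [smul_sub, hk, ← tmul_smul, ← hμ, sub_self]⟩
      have hτ0 : f ^ (k + n) • τ = 0 := by
        refine h1 _ ⟨j, by rw [smul_comm, hj, smul_zero]⟩ ?_
        rw [tmul_smul, hτ, smul_sub, hk, ← tmul_smul, ← hμ, sub_self]
      refine ⟨μ + τ, by rw [tmul_add, hτ]; abel, ?_⟩
      rw [LocalizedModule.mkLinearMap_apply]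
      refine LocalizedModule.mk_eq.2 ⟨pw f k, ?_⟩
      simp only [Submonoid.smul_def, one_smul]
      rw [smul_smul, ← pow_add, smul_add, hτ0, add_zero, ← hμ]

theorem torsion_of_isGlueable (h : EtGlue.IsGlueable R R' f M) :
    (∀ m : M, (∃ n : ℕ, f ^ n • m = 0) → (1 : R') ⊗ₜ[R] m = 0 → m = 0) ∧
      (∀ x : R' ⊗[R] M, (∃ n : ℕ, f ^ n • x = 0) →
        ∃ m : M, (∃ n : ℕ, f ^ n • m = 0) ∧ (1 : R') ⊗ₜ[R] m = x) := by
  constructor
  · intro m hm hm0
    refine h.1 (Prod.ext ?_ ?_)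
    · simpa using hm0
    · simpa using (mkLinearMap_eq_zero_iff (f := f) m).2 hm
  · intro x hx
    obtain ⟨m, hm, hm0⟩ := h.2 x 0 (by
      rw [map_zero]; exact (mkLinearMap_eq_zero_iff (f := f) x).2 hx)
    exact ⟨m, (mkLinearMap_eq_zero_iff m).1 hm0, hm⟩

end Groth.Agent.H48.Glue
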