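import Groth.Agent.H48.GlueFlat
import Mathlib.RingTheory.RingHom.Flat
import Mathlib.RingTheory.RingHom.FinitePresentation
import Mathlib.RingTheory.RingHom.Etale
import Mathlib.RingTheory.RingHom.Surjective
import Mathlib.RingTheory.Smooth.Fiber
import Mathlib.RingTheory.Kaehler.TensorProduct
import Mathlib.RingTheory.Adjoin.Polynomial.Basic

/-!
# Algebras along a glueing pair
-/

open TensorProduct

set_option linter.style.haveILetI false

namespace Groth.Agent.H48.GlueBC

universe u

open Glue

section BaseChange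

variable {R R' A A' : Type u} [CommRing R] [CommRing R'] [Algebra R R'] [CommRing A] [Algebra R A]
  [CommRing A'] [Algebra A A'] [Algebra R' A'] [Algebra R A'] [IsScalarTower R R' A']
  [IsScalarTower R A A'] [Algebra.IsPushout R A R' A'] {f : R}

/-- The base change isomorphism. -/
noncomputable abbrev pushEquiv : R' ⊗[R] A ≃ₗ[R] A' :=
  (Algebra.IsPushout.symm (inferInstance : Algebra.IsPushout R A R' A')).out.equiv.restrictScalars R

theorem pushEquiv_one_tmul (a : A) :
    pushEquiv (R := R) (R' := R') (A := A) (A' := A') ((1 : R') ⊗ₜ[R] a) = algebraMap A A' a := by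
  simp [pushEquiv, IsBaseChange.equiv_tmul]

theorem smul_eq (f : R) (n : ℕ) (x : A') :
    f ^ n • x = algebraMap A A' (algebraMap R A f) ^ n * x := by
  rw [Algebra.smul_def, IsScalarTower.algebraMap_apply R A A', map_pow, map_pow]

theorem quotPowBijective_baseChange (hq : EtGlue.QuotPowBijective R R' f) :
    EtGlue.QuotPowBijective A A' (algebraMap R A f) := by
  intro n _
  let e := pushEquiv (R := R) (R' := R') (A := A) (A' := A')
  have hspan : Ideal.map (algebraMap A A') (Ideal.span {algebraMap R A f ^ n}) =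
      Ideal.span {algebraMap A A' (algebraMap R A f) ^ n} := by
    rw [Ideal.map_span, Set.image_singleton, map_pow]
  constructor
  · refine (injective_iff_map_eq_zero _).2 fun x hx => ?_
    obtain ⟨a, rfl⟩ := Ideal.Quotient.mk_surjective x
    rw [Ideal.quotientMap_mk, Ideal.Quotient.eq_zero_iff_mem, hspan,
      Ideal.mem_span_singleton'] at hx
    obtain ⟨w, hw⟩ := hx
    rw [mul_comm, ← smul_eq (A := A)] at hw
    obtain ⟨a', ha'⟩ := exists_eq_smul_of_tmul hq (n := n) (m := a) (w := e.symm w) (by
      apply e.injective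
      rw [pushEquiv_one_tmul, map_smul, LinearEquiv.apply_symm_apply, hw])
    rw [Ideal.Quotient.eq_zero_iff_mem, Ideal.mem_span_singleton']
    exact ⟨a', by rw [ha', Algebra.smul_def, map_pow, mul_comm]⟩
  · intro x
    obtain ⟨t, rfl⟩ := Ideal.Quotient.mk_surjective x
    obtain ⟨a, w, hw⟩ := exists_decomp hq n (e.symm t)
    refine ⟨Ideal.Quotient.mk _ a, ?_⟩
    rw [Ideal.quotientMap_mk, Ideal.Quotient.eq, hspan, Ideal.mem_span_singleton']
    refine ⟨-e w, ?_⟩
    have h1 := congrArg e hw
    rw [LinearEquiv.apply_symm_apply, map_add, pushEquiv_one_tmul, map_smul, smul_eq (A := A)] at h1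
    rw [h1]
    ring

theorem torsionBij_baseChange (hA : EtGlue.IsGlueable R R' f A) :
    TorsionBij A A' (algebraMap R A f) := by
  let e := pushEquiv (R := R) (R' := R') (A := A) (A' := A')
  obtain ⟨h1, h2⟩ := torsion_of_isGlueable hA
  constructor
  · rintro x ⟨n, hn⟩ hx
    refine h1 x ⟨n, by rw [Algebra.smul_def, map_pow, hn]⟩ (e.injective ?_)
    rw [pushEquiv_one_tmul, hx, map_zero]
  · rintro x' ⟨n, hn⟩
    obtain ⟨x, ⟨m, hm⟩, hx⟩ := h2 (e.symm x') ⟨n, by
      rw [← map_smul, smul_eq (A := A), hn, map_zero]⟩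
    refine ⟨x, ⟨m, by rw [← map_pow, ← Algebra.smul_def, hm]⟩, ?_⟩
    rw [← pushEquiv_one_tmul (R := R) (R' := R'), hx]
    exact e.apply_symm_apply x'

end BaseChange

section Algebra

variable {A A' B B' : Type u} [CommRing A] [CommRing A'] [Algebra A A'] [CommRing B] [Algebra A B]
  [CommRing B'] [Algebra A' B'] [Algebra B B'] [Algebra A B'] [IsScalarTower A A' B']
  [IsScalarTower A B B'] [hP : Algebra.IsPushout A B A' B'] {f : A}
  {Af Bf : Type u} [CommRing Af] [Algebra A Af] [IsLocalization.Away f Af]
  [CommRing Bf] [Algebra B Bf] [Algebra A Bf] [IsScalarTower A B Bf]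
  [IsLocalization.Away (algebraMap A B f) Bf] [Algebra Af Bf] [IsScalarTower A Af Bf]

instance isLocalizedModule_toAlgHom :
    IsLocalizedModule (Submonoid.powers f) (IsScalarTower.toAlgHom A B Bf).toLinearMap := by
  rw [isLocalizedModule_iff_isLocalization, Algebra.algebraMapSubmonoid, Submonoid.map_powers]
  exact inferInstanceAs (IsLocalization.Away (algebraMap A B f) Bf)

theorem flat_of_glue (hq : EtGlue.QuotPowBijective A A' f) (ht : TorsionBij A A' f)
    [Module.Flat A' B'] [Module.Flat Af Bf] : Module.Flat A B := by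
  haveI : Module.Flat A' (A' ⊗[A] B) := Module.Flat.of_linearEquiv hP.symm.out.equiv
  haveI : Module.Flat A Af := IsLocalization.flat _ (Submonoid.powers f)
  haveI : Module.Flat A Bf := Module.Flat.trans A Af Bf
  haveI : Module.Flat A (LocalizedModule (Submonoid.powers f) B) :=
    Module.Flat.of_linearEquiv (IsLocalizedModule.linearEquiv (Submonoid.powers f)
      (LocalizedModule.mkLinearMap (Submonoid.powers f) B) (IsScalarTower.toAlgHom A B Bf).toLinearMap)
  exact Glue.flat_of_glue hq ht

omit hP in
theorem exists_numerators (T : Finset Bf) :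
    ∃ t : Finset B, ∀ (S : Subalgebra A B), ↑t ⊆ (S : Set B) → ∀ y ∈ T,
      ∃ b ∈ S, ∃ n : ℕ, y * algebraMap A Bf f ^ n = algebraMap B Bf b := by
  classical
  have h : ∀ y : Bf, ∃ (n : ℕ) (b : B), y * algebraMap A Bf f ^ n = algebraMap B Bf b := by
    intro y
    obtain ⟨n, b, hb⟩ := IsLocalization.Away.surj (algebraMap A B f) y
    exact ⟨n, b, by rw [IsScalarTower.algebraMap_apply A B Bf, hb]⟩
  choose n b hb using h
  exact ⟨T.image b, fun S hS y hy =>
    ⟨b y, hS (Finset.mem_coe.2 (Finset.mem_image_of_mem b hy)), n y, hb y⟩⟩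

theorem eq_top_of_glue (hq : EtGlue.QuotPowBijective A A' f) (N : Submodule A B)
    (h1 : ∀ b : B, ∃ n : ℕ, f ^ n • b ∈ N)
    (h2 : Submodule.span A' (algebraMap B B' '' N) = ⊤) : N = ⊤ := by
  have hT : IsTors f (B ⧸ N) := fun q => by
    obtain ⟨b, rfl⟩ := N.mkQ_surjective q
    obtain ⟨n, hn⟩ := h1 b
    exact ⟨n, by rw [← map_smul, Submodule.mkQ_apply, Submodule.Quotient.mk_eq_zero]; exact hn⟩
  haveI : Subsingleton (A' ⊗[A] (B ⧸ N)) := by
    refine subsingleton_of_forall_eq 0 fun z => ?_
    obtain ⟨z, rfl⟩ := LinearMap.lTensor_surjective A' N.mkQ_surjective z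
    let e := hP.symm.out.equiv
    have hz : e z ∈ Submodule.span A' (algebraMap B B' '' N) := h2 ▸ Submodule.mem_top
    have key : (Submodule.span A' (algebraMap B B' '' N)).comap e.toLinearMap ≤
        LinearMap.ker (N.mkQ.baseChange A') := by
      rw [Submodule.comap_equiv_eq_map_symm, Submodule.map_span_le]
      rintro _ ⟨b, hb, rfl⟩
      have : e.symm (algebraMap B B' b) = (1 : A') ⊗ₜ[A] b := by
        rw [LinearEquiv.symm_apply_eq]
        simp [e, IsBaseChange.equiv_tmul]
      show N.mkQ.baseChange A' (e.symm (algebraMap B B' b)) = 0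
      rw [this, LinearMap.baseChange_tmul, Submodule.mkQ_apply,
        (Submodule.Quotient.mk_eq_zero N).2 hb, tmul_zero]
    exact key hz
  exact Submodule.Quotient.subsingleton_iff.1 (subsingleton_of_isTors (R' := A') hq hT)

theorem surjective_of_glue (hq : EtGlue.QuotPowBijective A A' f)
    (h1 : Function.Surjective (algebraMap Af Bf)) (h2 : Function.Surjective (algebraMap A' B')) :
    Function.Surjective (algebraMap A B) := by
  let N := LinearMap.range (Algebra.linearMap A B)
  suffices N = ⊤ from LinearMap.range_eq_top.1 this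
  refine eq_top_of_glue (B' := B') hq N (fun b => ?_) ?_
  · obtain ⟨y, hy⟩ := h1 (algebraMap B Bf b)
    obtain ⟨n, a, ha⟩ := IsLocalization.Away.surj f y
    have := congrArg (algebraMap Af Bf) ha
    rw [map_mul, map_pow, hy, ← IsScalarTower.algebraMap_apply A Af Bf,
      ← IsScalarTower.algebraMap_apply A Af Bf, IsScalarTower.algebraMap_apply A B Bf f,
      IsScalarTower.algebraMap_apply A B Bf a, ← map_pow, ← map_mul] at this
    obtain ⟨⟨_, k, rfl⟩, hk⟩ :=
      (IsLocalization.eq_iff_exists (Submonoid.powers (algebraMap A B f)) Bf).1 this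
    refine ⟨k + n, f ^ k * a, ?_⟩
    simp only [Algebra.linearMap_apply, Algebra.smul_def, map_mul, map_pow] at hk ⊢
    rw [← hk, pow_add]
    ring
  · rw [eq_top_iff]
    intro z _
    obtain ⟨a, rfl⟩ := h2 z
    rw [Algebra.algebraMap_eq_smul_one]
    exact Submodule.smul_mem _ _ (Submodule.subset_span ⟨1, ⟨1, by simp⟩, map_one _⟩)

theorem finiteType_of_glue (hq : EtGlue.QuotPowBijective A A' f)
    [h1 : Algebra.FiniteType Af Bf] [h2 : Algebra.FiniteType A' B'] :
    Algebra.FiniteType A B := by
  classical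
  obtain ⟨T, hT⟩ := h1.out
  obtain ⟨T', hT'⟩ := h2.out
  obtain ⟨t, ht⟩ := exists_numerators (A := A) (B := B) (f := f) T
  let e := hP.symm.out.equiv
  have hdec : ∀ x : A' ⊗[A] B, ∃ u : Finset B, ∀ S : Subalgebra A B, ↑u ⊆ (S : Set B) →
      e x ∈ Submodule.span A' (algebraMap B B' '' (S : Set B)) := by
    intro x
    induction x with
    | zero => exact ⟨∅, fun S _ => by rw [map_zero]; exact zero_mem _⟩
    | tmul a b =>
      refine ⟨{b}, fun S hS => ?_⟩
      rw [IsBaseChange.equiv_tmul]
      exact Submodule.smul_mem _ _ (Submodule.subset_span ⟨b, hS (by simp), rfl⟩)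
    | add x y hx hy =>
      obtain ⟨u, hu⟩ := hx
      obtain ⟨v, hv⟩ := hy
      refine ⟨u ∪ v, fun S hS => ?_⟩
      rw [map_add]
      exact add_mem (hu S fun c hc => hS (Finset.mem_union_left _ hc))
        (hv S fun c hc => hS (Finset.mem_union_right _ hc))
  choose u hu using hdec
  let s : Finset B := t ∪ T'.biUnion fun z => u (e.symm z)
  let S := Algebra.adjoin A (s : Set B)
  suffices hS : Subalgebra.toSubmodule S = ⊤ from ⟨⟨s, Algebra.toSubmodule_eq_top.1 hS⟩⟩
  have hsS : (s : Set B) ⊆ S := Algebra.subset_adjoin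
  refine eq_top_of_glue (B' := B') hq _ (fun b => ?_) ?_
  · have hb : algebraMap B Bf b ∈ Algebra.adjoin Af (T : Set Bf) := hT ▸ Algebra.mem_top
    suffices key : ∀ y ∈ Algebra.adjoin Af (T : Set Bf), ∃ c ∈ S, ∃ n : ℕ,
        y * algebraMap A Bf f ^ n = algebraMap B Bf c by
      obtain ⟨c, hc, n, hn⟩ := key _ hb
      rw [IsScalarTower.algebraMap_apply A B Bf, ← map_pow, ← map_mul] at hn
      obtain ⟨⟨_, k, rfl⟩, hk⟩ :=
        (IsLocalization.eq_iff_exists (Submonoid.powers (algebraMap A B f)) Bf).1 hn
      refine ⟨k + n, ?_⟩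
      show f ^ (k + n) • b ∈ S
      have : f ^ (k + n) • b = algebraMap A B (f ^ k) * c := by
        simp only [Algebra.smul_def, map_pow, map_mul, pow_add] at hk ⊢
        rw [← hk]; ring
      rw [this]
      exact mul_mem (S.algebraMap_mem _) hc
    intro y hy
    induction hy using Algebra.adjoin_induction with
    | mem y hy => exact ht S (fun c hc => hsS (Finset.mem_union_left _ hc)) y hy
    | algebraMap r =>
      obtain ⟨n, a, ha⟩ := IsLocalization.Away.surj f r
      refine ⟨algebraMap A B a, S.algebraMap_mem _, n, ?_⟩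
      rw [← IsScalarTower.algebraMap_apply, IsScalarTower.algebraMap_apply A Af Bf,
        IsScalarTower.algebraMap_apply A Af Bf, ← map_pow, ← map_mul, ha]
    | add x y _ _ hx hy =>
      obtain ⟨a, ha, n, hn⟩ := hx
      obtain ⟨b, hb, m, hm⟩ := hy
      refine ⟨algebraMap A B f ^ m * a + algebraMap A B f ^ n * b,
        add_mem (mul_mem (pow_mem (S.algebraMap_mem _) _) ha)
          (mul_mem (pow_mem (S.algebraMap_mem _) _) hb), n + m, ?_⟩
      rw [map_add, map_mul, map_mul, map_pow, map_pow, ← hn, ← hm,
        ← IsScalarTower.algebraMap_apply, pow_add]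
      ring
    | mul x y _ _ hx hy =>
      obtain ⟨a, ha, n, hn⟩ := hx
      obtain ⟨b, hb, m, hm⟩ := hy
      refine ⟨a * b, mul_mem ha hb, n + m, ?_⟩
      rw [map_mul, ← hn, ← hm, pow_add]
      ring
  · let T0 : Submodule A' B' := Submodule.span A' (algebraMap B B' '' (S : Set B))
    have hmul : T0 * T0 ≤ T0 := by
      simp only [T0, Submodule.span_mul_span]
      refine Submodule.span_mono ?_
      rintro _ ⟨_, ⟨a, ha, rfl⟩, _, ⟨b, hb, rfl⟩, rfl⟩
      exact ⟨a * b, mul_mem ha hb, map_mul _ _ _⟩
    let S' : Subalgebra A' B' := T0.toSubalgebra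
      (Submodule.subset_span ⟨1, one_mem S, map_one _⟩)
      (fun x y hx hy => hmul (Submodule.mul_mem_mul hx hy))
    have : S' = ⊤ := top_le_iff.1 (hT' ▸ Algebra.adjoin_le fun z hz => by
      have := hu (e.symm z) S fun c hc =>
        hsS (Finset.mem_union_right _ (Finset.mem_biUnion.2 ⟨z, hz, hc⟩))
      rwa [e.apply_symm_apply] at this)
    rw [eq_top_iff]
    exact fun z _ => (this ▸ Algebra.mem_top : z ∈ S')

theorem finitePresentation_of_glue (hq : EtGlue.QuotPowBijective A A' f) (ht : TorsionBij A A' f)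
    [Module.Flat Af Bf] [Module.Flat A' B']
    [Algebra.FinitePresentation Af Bf] [Algebra.FinitePresentation A' B'] :
    Algebra.FinitePresentation A B := by
  classical
  haveI hP' : Algebra.IsPushout A A' B B' := hP.symm
  haveI : Module.Flat A B := flat_of_glue (A' := A') (B' := B') (Af := Af) (Bf := Bf) hq ht
  haveI : Algebra.FiniteType A B := finiteType_of_glue (A' := A') (B' := B') (Af := Af) (Bf := Bf) hq
  obtain ⟨n, π, hπ⟩ := Algebra.FiniteType.iff_quotient_mvPolynomial''.1 (inferInstance : Algebra.FiniteType A B)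
  let P := MvPolynomial (Fin n) A
  let K : Submodule A P := LinearMap.ker π.toLinearMap
  let I : Ideal P := RingHom.ker π.toRingHom
  refine Algebra.FinitePresentation.of_surjective hπ ?_
  show I.FG
  letI : Algebra P B := π.toRingHom.toAlgebra
  haveI : IsScalarTower A P B := IsScalarTower.of_algebraMap_eq fun a => (π.commutes a).symm
  -- base change to `A'`
  let P' := A' ⊗[A] P
  letI : Algebra P P' := Algebra.TensorProduct.rightAlgebra
  have hqP : EtGlue.QuotPowBijective P P' (algebraMap A P f) :=
    quotPowBijective_baseChange (R := A) (R' := A') hq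
  let π' : P' →ₐ[A'] A' ⊗[A] B := Algebra.TensorProduct.map (AlgHom.id A' A') π
  have hπ's : Function.Surjective π' := LinearMap.lTensor_surjective A' (g := π.toLinearMap) hπ
  let eB : A' ⊗[A] B ≃ₐ[A'] B' := Algebra.IsPushout.equiv A A' B B'
  haveI : Algebra.FinitePresentation A' (A' ⊗[A] B) :=
    Algebra.FinitePresentation.equiv eB.symm
  have hfgP : (RingHom.ker π'.toRingHom).FG :=
    Algebra.FinitePresentation.ker_fG_of_surjective π' hπ's
  -- choose finitely many elements of the kernel
  have hker : ∀ x ∈ RingHom.ker π'.toRingHom, ∃ k : A' ⊗[A] K, K.subtype.lTensor A' k = x := by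
    intro x hx
    exact (lTensor_exact A' (f := K.subtype) (g := π.toLinearMap)
      (LinearMap.exact_subtype_ker_map _) hπ _).1 hx
  have hfin : ∀ k : A' ⊗[A] K, ∃ u : Finset P, (↑u : Set P) ⊆ I ∧ ∀ J : Ideal P, ↑u ⊆ (J : Set P) →
      K.subtype.lTensor A' k ∈ J.map (algebraMap P P') := by
    intro k
    induction k with
    | zero => exact ⟨∅, by simp, fun J _ => by rw [map_zero]; exact zero_mem _⟩
    | tmul a x =>
      refine ⟨{(x : P)}, by
        rw [Finset.coe_singleton, Set.singleton_subset_iff]; exact x.2, fun J hJ => ?_⟩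
      rw [LinearMap.lTensor_tmul, show a ⊗ₜ[A] (K.subtype x) =
        (a ⊗ₜ[A] (1 : P) : P') * ((1 : A') ⊗ₜ[A] (x : P)) by simp]
      exact Ideal.mul_mem_left _ _ (Ideal.mem_map_of_mem (algebraMap P P') (hJ (by simp)))
    | add x y hx hy =>
      obtain ⟨u, hu0, hu⟩ := hx
      obtain ⟨v, hv0, hv⟩ := hy
      refine ⟨u ∪ v, by rw [Finset.coe_union]; exact Set.union_subset hu0 hv0, fun J hJ => ?_⟩
      rw [map_add]
      exact add_mem (hu J fun c hc => hJ (Finset.mem_union_left _ hc))
        (hv J fun c hc => hJ (Finset.mem_union_right _ hc))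
  obtain ⟨G, hG⟩ := hfgP
  choose k hk using fun g : G => hker g (hG ▸ Ideal.subset_span g.2)
  choose u hu0 hu using fun g : G => hfin (k g)
  -- localization
  let Pf := Localization.Away (algebraMap A P f)
  letI : Algebra Af Pf := (IsLocalization.Away.lift (S := Af) f
    (g := algebraMap A Pf) (by rw [IsScalarTower.algebraMap_apply A P Pf]; exact IsLocalization.Away.algebraMap_isUnit _)).toAlgebra
  haveI : IsScalarTower A Af Pf := IsScalarTower.of_algebraMap_eq fun a =>
    (IsLocalization.Away.lift_eq f _ a).symm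
  haveI : IsLocalization (Algebra.algebraMapSubmonoid P (Submonoid.powers f)) Pf := by
    rw [Algebra.algebraMapSubmonoid, Submonoid.map_powers]
    exact inferInstanceAs (IsLocalization.Away (algebraMap A P f) Pf)
  haveI : Algebra.IsPushout A P Af Pf := Algebra.isPushout_of_isLocalization (Submonoid.powers f) _ _ _
  haveI : Algebra.FinitePresentation Af Pf :=
    RingHom.finitePresentation_algebraMap.1 (RingHom.finitePresentation_isStableUnderBaseChange A P Af Pf
      (RingHom.finitePresentation_algebraMap.2 inferInstance))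
  haveI : IsLocalization.Away (π.toRingHom (algebraMap A P f)) Bf := by
    rw [show π.toRingHom (algebraMap A P f) = algebraMap A B f from π.commutes f]; infer_instance
  let πf : Pf →+* Bf := IsLocalization.Away.map Pf Bf π.toRingHom (algebraMap A P f)
  have hπfc : ∀ p, πf (algebraMap P Pf p) = algebraMap B Bf (π p) := fun p =>
    IsLocalization.map_eq _ p
  let πfA : Pf →ₐ[Af] Bf :=
    { πf with
      commutes' := fun r => by
        have h : πf.comp (algebraMap Af Pf) = algebraMap Af Bf := by
          refine IsLocalization.ringHom_ext (Submonoid.powers f) (RingHom.ext fun a => ?_)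
          rw [RingHom.comp_apply, RingHom.comp_apply, RingHom.comp_apply,
            ← IsScalarTower.algebraMap_apply, ← IsScalarTower.algebraMap_apply,
            IsScalarTower.algebraMap_apply A P Pf, hπfc, AlgHom.commutes,
            ← IsScalarTower.algebraMap_apply]
        exact RingHom.congr_fun h r }
  have hπfs : Function.Surjective πfA := by
    intro y
    obtain ⟨m, b, hb⟩ := IsLocalization.Away.surj (algebraMap A B f) y
    obtain ⟨p, rfl⟩ := hπ b
    refine ⟨IsLocalization.mk' Pf p (pw (algebraMap A P f) m), ?_⟩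
    apply ((IsLocalization.Away.algebraMap_isUnit (S := Bf) (algebraMap A B f)).pow m).mul_left_injective
    have h := congrArg πf (IsLocalization.mk'_spec Pf p (pw (algebraMap A P f) m))
    rw [map_mul, hπfc, hπfc, map_pow, π.commutes, map_pow] at h
    exact h.trans hb.symm
  obtain ⟨H, hH⟩ := Algebra.FinitePresentation.ker_fG_of_surjective πfA hπfs
  have hH' : ∀ h : H, ∃ p ∈ I, algebraMap P Pf p ∈ Ideal.span {(h : Pf)} ∧
      (h : Pf) ∈ Ideal.span {algebraMap P Pf p} := by
    intro h
    obtain ⟨m, p, hp⟩ := IsLocalization.Away.surj (algebraMap A P f) (h : Pf)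
    have hu : IsUnit (algebraMap P Pf (algebraMap A P f) ^ m) :=
      (IsLocalization.Away.algebraMap_isUnit _).pow _
    have h0 : πf (h : Pf) = 0 :=
      RingHom.mem_ker.1 (hH ▸ Ideal.subset_span h.2 : (h : Pf) ∈ RingHom.ker πfA)
    have hp0 : algebraMap B Bf (π p) = 0 := by rw [← hπfc, ← hp, map_mul, h0, zero_mul]
    obtain ⟨⟨_, k, rfl⟩, hk⟩ :=
      (IsLocalization.map_eq_zero_iff (Submonoid.powers (algebraMap A B f)) Bf _).1 hp0
    refine ⟨algebraMap A P f ^ k * p, ?_, ?_, ?_⟩
    · show π (algebraMap A P f ^ k * p) = 0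
      rw [map_mul, map_pow, π.commutes]; exact hk
    · rw [map_mul, ← hp]
      exact Ideal.mem_span_singleton'.2 ⟨algebraMap P Pf (algebraMap A P f ^ k) *
        algebraMap P Pf (algebraMap A P f) ^ m, by ring⟩
    · rw [map_mul, ← hp]
      refine Ideal.mem_span_singleton'.2 ⟨↑(((IsLocalization.Away.algebraMap_isUnit
        (S := Pf) (algebraMap A P f)).pow (k + m)).unit⁻¹), ?_⟩
      have := IsUnit.val_inv_mul ((IsLocalization.Away.algebraMap_isUnit
        (S := Pf) (algebraMap A P f)).pow (k + m))
      rw [map_pow]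
      linear_combination (h : Pf) * this
  choose p hpI _ hp2 using hH'
  let W : Finset P := (Finset.univ.biUnion u) ∪ Finset.univ.image p
  let J : Ideal P := Ideal.span (W : Set P)
  have hJI : J ≤ I := by
    rw [Ideal.span_le]
    simp only [W, Finset.coe_union, Finset.coe_biUnion, Finset.coe_image]
    refine Set.union_subset (Set.iUnion₂_subset fun g _ => hu0 g) ?_
    rintro _ ⟨h, _, rfl⟩
    exact hpI h
  suffices hIJ : I ≤ J by exact ⟨W, le_antisymm hJI hIJ⟩
  -- `I / J` is torsion and vanishes after base change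
  let N : Submodule P I := Submodule.comap (Submodule.subtype I) J
  let Q := I ⧸ N
  have hQ : IsTors (algebraMap A P f) Q := by
    intro q
    obtain ⟨x, rfl⟩ := Submodule.mkQ_surjective _ q
    have hx : algebraMap P Pf x ∈ J.map (algebraMap P Pf) := by
      have h1 : algebraMap P Pf x ∈ RingHom.ker πfA := by
        show πf (algebraMap P Pf x) = 0
        rw [hπfc, show π (x : P) = 0 from x.2, map_zero]
      refine (?_ : RingHom.ker πfA.toRingHom ≤ J.map (algebraMap P Pf)) h1
      rw [← hH, Ideal.span_le]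
      intro h hh
      refine (Ideal.span_singleton_le_iff_mem _).2 (Ideal.mem_map_of_mem _ ?_) (hp2 ⟨h, hh⟩)
      exact Ideal.subset_span (Finset.mem_union_right _ (Finset.mem_image_of_mem p (Finset.mem_univ _)))
    obtain ⟨⟨⟨y, hy⟩, ⟨_, m, rfl⟩⟩, he⟩ :=
      (IsLocalization.mem_map_algebraMap_iff (Submonoid.powers (algebraMap A P f)) Pf).1 hx
    rw [← map_mul, IsLocalization.eq_iff_exists (Submonoid.powers (algebraMap A P f))] at he
    obtain ⟨⟨_, k, rfl⟩, hk⟩ := he
    refine ⟨k + m, ?_⟩
    rw [← map_smul, Submodule.mkQ_apply, Submodule.Quotient.mk_eq_zero, Submodule.mem_comap]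
    show algebraMap A P f ^ (k + m) • (x : P) ∈ J
    rw [smul_eq_mul, pow_add, mul_assoc, mul_comm (algebraMap A P f ^ m) (x : P), hk]
    exact J.mul_mem_left _ hy
  haveI : Subsingleton (P' ⊗[P] Q) := by
    refine subsingleton_of_forall_eq 0 fun z => ?_
    obtain ⟨z, rfl⟩ := LinearMap.lTensor_surjective P' (Submodule.mkQ_surjective _) z
    -- `P' ⊗ I → P'` is injective
    have hinj : Function.Injective (I.subtype.lTensor P') := by
      let cK : P' ⊗[P] I ≃ₗ[A] A' ⊗[A] I :=
        (Algebra.IsPushout.cancelBaseChange A A' P P' I).restrictScalars A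
      let cP : P' ⊗[P] P ≃ₗ[A] A' ⊗[A] P := ((TensorProduct.rid P P').restrictScalars A)
      have hK : Function.Injective ((I.subtype.restrictScalars A).lTensor A') :=
        LinearMap.lTensor_injective_of_exact_of_flat (M := I) (N := P) (P := B) π.toLinearMap hπ
          (I.subtype.restrictScalars A) Subtype.val_injective (by
            rw [LinearMap.exact_iff]
            ext x
            exact ⟨fun h => ⟨⟨x, h⟩, rfl⟩, fun ⟨y, hy⟩ => hy ▸ y.2⟩) A'
      have hcomm : ∀ z, cP (I.subtype.lTensor P' (cK.symm z)) = (I.subtype.restrictScalars A).lTensor A' z := by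
        intro z
        induction z with
        | zero => simp
        | tmul a i =>
          simp [cK, cP, Algebra.IsPushout.cancelBaseChange_symm_tmul, Algebra.smul_def,
            RingHom.algebraMap_toAlgebra]
          rw [show algebraMap A' P' a = a ⊗ₜ[A] (1 : P) from rfl,
            Algebra.TensorProduct.tmul_mul_tmul, one_mul, mul_one]
        | add a b ha hb => simp only [map_add, ha, hb]
      intro x y hxy
      apply cK.injective
      apply hK
      rw [← hcomm, ← hcomm, LinearEquiv.symm_apply_apply, LinearEquiv.symm_apply_apply, hxy]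
    have hz : z ∈ LinearMap.range ((Submodule.subtype N).lTensor P') := by
      have h1 : TensorProduct.rid P P' (I.subtype.lTensor P' z) ∈ J.map (algebraMap P P') := by
        refine (?_ : RingHom.ker π'.toRingHom ≤ J.map (algebraMap P P')) ?_
        · rw [← hG, Ideal.span_le]
          intro g hg
          rw [SetLike.mem_coe, show g = _ from (hk ⟨g, hg⟩).symm]
          refine hu ⟨g, hg⟩ J fun c hc => Ideal.subset_span ?_
          exact Finset.mem_union_left _ (Finset.mem_biUnion.2 ⟨⟨g, hg⟩, Finset.mem_univ _, hc⟩)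
        · clear hinj
          induction z with
          | zero => simp
          | tmul a x =>
            rw [LinearMap.lTensor_tmul, TensorProduct.rid_tmul, RingHom.mem_ker,
              Algebra.smul_def, map_mul]
            have : π'.toRingHom (algebraMap P P' (x : P)) = 0 := by
              show π' ((1 : A') ⊗ₜ[A] (x : P)) = 0
              rw [Algebra.TensorProduct.map_tmul, show π (x : P) = 0 from x.2, tmul_zero]
            rw [show (I.subtype x : P) = (x : P) from rfl, this, zero_mul]
          | add a b ha hb => rw [map_add, map_add]; exact add_mem ha hb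
      have h2 : ∀ w ∈ J.map (algebraMap P P'), ∃ v, TensorProduct.rid P P' (I.subtype.lTensor P'
          ((Submodule.subtype N).lTensor P' v)) = w := by
        have hlin : ∀ (c : P') v, TensorProduct.rid P P' (I.subtype.lTensor P'
            (N.subtype.lTensor P' (c • v))) =
            c * TensorProduct.rid P P' (I.subtype.lTensor P' (N.subtype.lTensor P' v)) := by
          intro c v
          induction v with
          | zero => simp
          | tmul a x => simp [smul_tmul', Algebra.smul_def, mul_left_comm]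
          | add a b ha hb => rw [smul_add, map_add, map_add, map_add, ha, hb, map_add, map_add, map_add, mul_add]
        intro w hw
        change w ∈ Submodule.span P' (algebraMap P P' '' (J : Set P)) at hw
        induction hw using Submodule.span_induction with
        | mem w hw =>
          obtain ⟨j, hj, rfl⟩ := hw
          exact ⟨(1 : P') ⊗ₜ[P] ⟨⟨j, hJI hj⟩, hj⟩, by simp [Algebra.smul_def]⟩
        | zero => exact ⟨0, by simp⟩
        | add a b _ _ ha hb =>
          obtain ⟨v, rfl⟩ := ha
          obtain ⟨v', rfl⟩ := hb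
          exact ⟨v + v', by simp⟩
        | smul c w _ hw =>
          obtain ⟨v, rfl⟩ := hw
          exact ⟨c • v, (hlin c v).trans (smul_eq_mul c _).symm⟩
      obtain ⟨v, hv⟩ := h2 _ h1
      exact ⟨v, hinj ((TensorProduct.rid P P').injective hv)⟩
    obtain ⟨v, rfl⟩ := hz
    exact (lTensor_exact P' (LinearMap.exact_subtype_mkQ _) (Submodule.mkQ_surjective _)).apply_apply_eq_zero v
  have := subsingleton_of_isTors (R' := P') hqP hQ
  intro x hx
  exact (Submodule.Quotient.subsingleton_iff.1 this ▸ Submodule.mem_top :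
    (⟨x, hx⟩ : I) ∈ N)

theorem formallyUnramified_of_glue (hqB : EtGlue.QuotPowBijective B B' (algebraMap A B f))
    [Algebra.FormallyUnramified A' B'] [Algebra.FormallyUnramified Af Bf] :
    Algebra.FormallyUnramified A B := by
  haveI : IsLocalization (Algebra.algebraMapSubmonoid B (Submonoid.powers f)) Bf := by
    rw [Algebra.algebraMapSubmonoid, Submonoid.map_powers]
    exact inferInstanceAs (IsLocalization.Away (algebraMap A B f) Bf)
  haveI : Algebra.IsPushout A Af B Bf := Algebra.IsPushout.symm (Algebra.isPushout_of_isLocalization (A := Af) (Submonoid.powers f) B Bf)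
  haveI : Algebra.IsPushout A A' B B' := hP.symm
  refine ⟨?_⟩
  haveI : Subsingleton (B' ⊗[B] Ω[B⁄A]) := (KaehlerDifferential.tensorKaehlerEquiv A A' B B').subsingleton
  have hT : IsTors (algebraMap A B f) Ω[B⁄A] := by
    intro ω
    haveI : Subsingleton (Bf ⊗[B] Ω[B⁄A]) := (KaehlerDifferential.tensorKaehlerEquiv A Af B Bf).subsingleton
    haveI : IsLocalizedModule (Submonoid.powers (algebraMap A B f)) (TensorProduct.mk B Bf Ω[B⁄A] 1) :=
      inferInstance
    obtain ⟨⟨_, n, rfl⟩, hn⟩ := (IsLocalizedModule.eq_zero_iff (Submonoid.powers (algebraMap A B f))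
      (TensorProduct.mk B Bf Ω[B⁄A] 1)).1 (Subsingleton.elim _ _ : TensorProduct.mk B Bf Ω[B⁄A] 1 ω = 0)
    exact ⟨n, hn⟩
  exact subsingleton_of_isTors (R' := B') hqB hT

end Algebra

end Groth.Agent.H48.GlueBC
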