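import Groth.Agent.H48.Glue
import Mathlib.RingTheory.Localization.BaseChange

/-!
# The glued module of a glueing datum
-/

open TensorProduct

set_option linter.style.haveILetI false

namespace Groth.Agent.H48.GlueExist

universe u

theorem glue_main {R R' : Type u} [CommRing R] [CommRing R'] [Algebra R R'] {f : R}
    (hRR : EtGlue.IsGlueingPair R R' f) {M' : Type u} [AddCommGroup M'] [Module R' M'] [Module R M']
    [IsScalarTower R R' M'] {M₁ : Type u} [AddCommGroup M₁] [Module R M₁]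
    (hfn : ∀ n : ℕ, Function.Bijective fun x : M₁ => f ^ n • x)
    (β : M' →ₗ[R'] R' ⊗[R] M₁) (hβ : ∀ z, ∃ (n : ℕ) (x : M'), β x = f ^ n • z)
    (hβ0 : ∀ x, β x = 0 → ∃ n : ℕ, f ^ n • x = 0)
    {M : Type u} [AddCommGroup M] [Module R M] (p₁ : M →ₗ[R] M') (p₂ : M →ₗ[R] M₁)
    (hext : ∀ a b : M, p₁ a = p₁ b → p₂ a = p₂ b → a = b)
    (hmem : ∀ m : M, β (p₁ m) = (1 : R') ⊗ₜ[R] p₂ m)
    (hex : ∀ x y, β x = (1 : R') ⊗ₜ[R] y → ∃ m : M, p₁ m = x ∧ p₂ m = y) :
    IsLocalizedModule (Submonoid.powers f) p₂ ∧ Function.Bijective (p₁.liftBaseChange R') ∧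
      EtGlue.IsGlueable R R' f M := by
  have hq := hRR.1
  have ht := H48.Glue.torsionBij_of_isGlueingPair hRR
  haveI hloc : IsLocalizedModule (Submonoid.powers f) p₂ := by
    refine ⟨?_, ?_, ?_⟩
    · rintro ⟨_, n, rfl⟩
      rw [Module.End.isUnit_iff]
      exact hfn n
    · intro y
      obtain ⟨n, x, hx⟩ := hβ ((1 : R') ⊗ₜ[R] y)
      obtain ⟨m, -, hm⟩ := hex x (f ^ n • y) (by rw [hx, tmul_smul])
      exact ⟨⟨m, H48.Glue.pw f n⟩, hm.symm⟩
    · intro a b h
      obtain ⟨n, hn⟩ := hβ0 (p₁ a - p₁ b) (by rw [map_sub, hmem, hmem, h, sub_self])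
      refine ⟨H48.Glue.pw f n, hext _ _ ?_ ?_⟩
      · simp only [Submonoid.smul_def, map_smul]
        exact sub_eq_zero.1 ((smul_sub _ _ _).symm.trans hn)
      · simp only [Submonoid.smul_def, map_smul, h]
  let π : R' ⊗[R] M →ₗ[R'] M' := p₁.liftBaseChange R'
  have hπ : ∀ m : M, π ((1 : R') ⊗ₜ[R] m) = p₁ m := fun m => by simp [π]
  have hβπ : ∀ t, β (π t) = p₂.lTensor R' t := by
    intro t
    induction t with
    | zero => simp
    | tmul r m =>
      rw [show r ⊗ₜ[R] m = r • ((1 : R') ⊗ₜ[R] m) by rw [smul_tmul', smul_eq_mul, mul_one],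
        map_smul, map_smul, hπ, hmem, smul_tmul', smul_tmul', smul_eq_mul, mul_one,
        LinearMap.lTensor_tmul]
    | add a b ha hb => simp [ha, hb]
  have hsurj : Function.Surjective π := by
    have key : ∀ z : R' ⊗[R] M₁, ∃ (y : M₁) (t : R' ⊗[R] M), z = (1 : R') ⊗ₜ y + β (π t) := by
      intro z
      induction z with
      | zero => exact ⟨0, 0, by simp⟩
      | add a b ha hb =>
        obtain ⟨y, t, rfl⟩ := ha
        obtain ⟨y', t', rfl⟩ := hb
        exact ⟨y + y', t + t', by rw [tmul_add, map_add, map_add]; abel⟩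
      | tmul r y =>
        obtain ⟨n, x, hx⟩ := hβ ((1 : R') ⊗ₜ[R] y)
        obtain ⟨a, s, rfl⟩ := H48.Glue.exists_approx hq n r
        obtain ⟨m, -, hm⟩ := hex x (f ^ n • y) (by rw [hx, tmul_smul])
        refine ⟨a • y, s ⊗ₜ[R] m, ?_⟩
        rw [hβπ, LinearMap.lTensor_tmul, add_tmul, ← map_pow, H48.Glue.smul_tmul_eq, tmul_smul]
        congr 1
        · rw [smul_tmul', Algebra.algebraMap_eq_smul_one]
        · rw [hm]
          rw [tmul_smul]
    intro x
    obtain ⟨y, t, hyt⟩ := key (β x)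
    obtain ⟨m, hm, -⟩ := hex (x - π t) y (by rw [map_sub, hyt]; abel)
    refine ⟨(1 : R') ⊗ₜ[R] m + t, ?_⟩
    rw [map_add, hπ, hm]; exact sub_add_cancel x (π t)
  have hinj : Function.Injective π := by
    rw [← LinearMap.ker_eq_bot, Submodule.eq_bot_iff]
    intro t ht0
    rw [LinearMap.mem_ker] at ht0
    -- `t` is `f`-power torsion
    obtain ⟨n, hn⟩ : ∃ n : ℕ, f ^ n • t = 0 := by
      have h1 : p₂.lTensor R' t = 0 := by rw [← hβπ, ht0, map_zero]
      let F := TensorProduct.map (LocalizedModule.mkLinearMap (Submonoid.powers f) R') p₂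
      have h2 : F t = 0 := by
        have h3 : F = (LocalizedModule.mkLinearMap (Submonoid.powers f) R').rTensor M₁ ∘ₗ p₂.lTensor R' :=
          TensorProduct.ext' fun _ _ => rfl
        rw [h3, LinearMap.comp_apply, h1, map_zero]
      haveI : IsLocalizedModule (Submonoid.powers f) F := inferInstance
      obtain ⟨⟨_, n, rfl⟩, hn⟩ := (IsLocalizedModule.eq_zero_iff (Submonoid.powers f) F).1 h2
      exact ⟨n, hn⟩
    obtain ⟨m, hm0, rfl⟩ := H48.Glue.exists_torsion_preimage hq ht hn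
    have hy : p₂ m = 0 := (hfn n).1 (by
      simp only [smul_zero]; rw [← map_smul, hm0, map_zero])
    have : m = 0 := hext _ _ (((hπ m).symm.trans ht0).trans (map_zero p₁).symm)
      (hy.trans (map_zero p₂).symm)
    rw [this, tmul_zero]
  refine ⟨hloc, ⟨hinj, hsurj⟩, H48.Glue.isGlueable_of_torsion hq ?_ ?_⟩
  · rintro m ⟨n, hn⟩ h0
    refine hext _ _ (((hπ m).symm.trans (by rw [h0, map_zero])).trans (map_zero p₁).symm) ?_
    refine (hfn n).1 ?_
    simp only [map_zero, smul_zero, ← map_smul, hn]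
  · rintro x ⟨n, hn⟩
    obtain ⟨m, hm, hmx⟩ := H48.Glue.exists_torsion_preimage hq ht hn
    exact ⟨m, ⟨n, hm⟩, hmx⟩

end Groth.Agent.H48.GlueExist
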