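import Groth.Agent.H48.Glue
import Mathlib.RingTheory.Localization.BaseChange
import Mathlib.RingTheory.Flat.Stability
import Mathlib.RingTheory.Flat.Equalizer
import Mathlib.RingTheory.Flat.Tensor
import Mathlib.LinearAlgebra.TensorProduct.Tower
import Mathlib.RingTheory.Localization.Finiteness
import Mathlib.RingTheory.Flat.Localization
import Mathlib.Algebra.Module.LocalizedModule.Exact

/-!
# Flatness and finiteness along a glueing pair
-/

open TensorProduct

set_option linter.style.haveILetI false

namespace Groth.Agent.H48.Glue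

universe u

variable {R R' : Type u} [CommRing R] [CommRing R'] [Algebra R R'] {f : R}
variable {M : Type u} [AddCommGroup M] [Module R M]

/-- Every element is killed by a power of `f`. -/
def IsTors (f : R) (M : Type u) [AddCommGroup M] [Module R M] : Prop :=
  ∀ m : M, ∃ n : ℕ, f ^ n • m = 0

theorem mk_surjective_of_isTors (hq : EtGlue.QuotPowBijective R R' f) (h : IsTors f M) :
    Function.Surjective fun m : M => (1 : R') ⊗ₜ[R] m := by
  intro t
  induction t with
  | zero => exact ⟨0, tmul_zero _ _⟩
  | add a b ha hb =>
    obtain ⟨x, rfl⟩ := ha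
    obtain ⟨y, rfl⟩ := hb
    exact ⟨x + y, tmul_add _ _ _⟩
  | tmul r m =>
    obtain ⟨n, hn⟩ := h m
    obtain ⟨a, s, rfl⟩ := exists_approx hq n r
    refine ⟨a • m, ?_⟩
    show (1 : R') ⊗ₜ[R] (a • m) = _
    rw [add_tmul, ← map_pow (algebraMap R R'), smul_tmul_eq, ← tmul_smul, hn, tmul_zero, add_zero,
      tmul_smul, smul_tmul', Algebra.algebraMap_eq_smul_one]

theorem mk_injective_of_isTors (hq : EtGlue.QuotPowBijective R R' f) (h : IsTors f M) :
    Function.Injective fun m : M => (1 : R') ⊗ₜ[R] m := by
  choose n hn using h
  choose a s hrs using fun (k : ℕ) (r : R') => exists_approx hq k r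
  have key : ∀ (r : R') (k : ℕ) (b : R) (c : R') (q : M),
      r = algebraMap R R' b + algebraMap R R' f ^ k * c → f ^ k • q = 0 → a (n q) r • q = b • q := by
    intro r k b c q hr hq0
    rcases le_total (n q) k with hle | hle
    · obtain ⟨j, rfl⟩ := Nat.exists_eq_add_of_le hle
      obtain ⟨d, hd⟩ := dvd_of_algebraMap_eq hq (n := n q) (a := a (n q) r - b)
        (s := algebraMap R R' f ^ j * c - s (n q) r) (by
          rw [map_sub]
          have h0 := (hrs (n q) r).symm.trans hr
          rw [pow_add] at h0
          linear_combination h0)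
      rw [← sub_eq_zero, ← sub_smul, hd, mul_comm, mul_smul, hn, smul_zero]
    · obtain ⟨j, hj⟩ := Nat.exists_eq_add_of_le hle
      obtain ⟨d, hd⟩ := dvd_of_algebraMap_eq hq (n := k) (a := a (n q) r - b)
        (s := c - algebraMap R R' f ^ j * s (n q) r) (by
          rw [map_sub]
          have h0 := (hrs (n q) r).symm.trans hr
          rw [show algebraMap R R' f ^ n q = algebraMap R R' f ^ k * algebraMap R R' f ^ j by rw [hj, pow_add]] at h0
          linear_combination h0)
      rw [← sub_eq_zero, ← sub_smul, hd, mul_comm, mul_smul, hq0, smul_zero]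
  let Φ : R' →ₗ[R] M →ₗ[R] M := LinearMap.mk₂ R (fun r q => a (n q) r • q)
    (fun r₁ r₂ q => by
      rw [← add_smul]
      exact key _ (n q) _ (s (n q) r₁ + s (n q) r₂) q
        (by rw [map_add]; linear_combination hrs (n q) r₁ + hrs (n q) r₂) (hn q))
    (fun c r q => by
      rw [← mul_smul]
      exact key _ (n q) _ (algebraMap R R' c * s (n q) r) q
        (by rw [Algebra.smul_def, map_mul]; linear_combination algebraMap R R' c * hrs (n q) r) (hn q))
    (fun r q₁ q₂ => by
      obtain ⟨k, hk1, hk2, hk3⟩ : ∃ k, n (q₁ + q₂) ≤ k ∧ n q₁ ≤ k ∧ n q₂ ≤ k :=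
        ⟨n (q₁ + q₂) + n q₁ + n q₂, by omega, by omega, by omega⟩
      have hk : ∀ q, n q ≤ k → f ^ k • q = 0 := fun q hq' => by
        obtain ⟨j, rfl⟩ := Nat.exists_eq_add_of_le hq'
        rw [pow_add, mul_comm, mul_smul, hn, smul_zero]
      rw [key r k _ _ _ (hrs k r) (hk _ hk1), key r k _ _ _ (hrs k r) (hk _ hk2),
        key r k _ _ _ (hrs k r) (hk _ hk3), smul_add])
    (fun c r q => by
      obtain ⟨k, hk1, hk2⟩ : ∃ k, n (c • q) ≤ k ∧ n q ≤ k :=
        ⟨n (c • q) + n q, by omega, by omega⟩
      have hk : ∀ q, n q ≤ k → f ^ k • q = 0 := fun q hq' => by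
        obtain ⟨j, rfl⟩ := Nat.exists_eq_add_of_le hq'
        rw [pow_add, mul_comm, mul_smul, hn, smul_zero]
      rw [key r k _ _ _ (hrs k r) (hk _ hk1), key r k _ _ _ (hrs k r) (hk _ hk2), smul_comm])
  intro x y hxy
  have h1 : ∀ q, TensorProduct.lift Φ ((1 : R') ⊗ₜ[R] q) = q := fun q => by
    rw [TensorProduct.lift.tmul]
    show a (n q) 1 • q = q
    rw [key 1 (n q) 1 0 q (by simp) (hn q), one_smul]
  rw [← h1 x, ← h1 y]
  exact congrArg _ hxy

theorem subsingleton_of_isTors (hq : EtGlue.QuotPowBijective R R' f) (h : IsTors f M)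
    [Subsingleton (R' ⊗[R] M)] : Subsingleton M :=
  (mk_injective_of_isTors hq h).subsingleton

theorem finite_of_glue (hq : EtGlue.QuotPowBijective R R' f)
    [h1 : Module.Finite R' (R' ⊗[R] M)]
    [h2 : Module.Finite (Localization.Away f) (LocalizedModule (Submonoid.powers f) M)] :
    Module.Finite R M := by
  classical
  obtain ⟨s, hs⟩ := h1.fg_top
  obtain ⟨t, ht⟩ := h2.fg_top
  have hA : ∀ x : R' ⊗[R] M, ∃ u : Finset M, x ∈ Submodule.span R' ((fun m => (1 : R') ⊗ₜ[R] m) '' (u : Set M)) := by
    intro x
    induction x with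
    | zero => exact ⟨∅, zero_mem _⟩
    | tmul r m =>
      refine ⟨{m}, ?_⟩
      rw [show r ⊗ₜ[R] m = r • ((1 : R') ⊗ₜ[R] m) by rw [smul_tmul', smul_eq_mul, mul_one]]
      exact Submodule.smul_mem _ _ (Submodule.subset_span ⟨m, by simp, rfl⟩)
    | add a b ha hb =>
      obtain ⟨u, hu⟩ := ha
      obtain ⟨v, hv⟩ := hb
      exact ⟨u ∪ v, add_mem (Submodule.span_mono (Set.image_mono (by simp)) hu)
        (Submodule.span_mono (Set.image_mono (by simp)) hv)⟩
  choose u hu using hA
  have hB : ∀ y : LocalizedModule (Submonoid.powers f) M, ∃ (m : M) (c : Localization.Away f),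
      y = c • LocalizedModule.mkLinearMap (Submonoid.powers f) M m := by
    intro y
    induction y using LocalizedModule.induction_on with
    | h m d =>
      refine ⟨m, Localization.mk 1 d, ?_⟩
      rw [LocalizedModule.mkLinearMap_apply, LocalizedModule.mk_smul_mk, one_smul, mul_one]
  choose v c hvc using hB
  let N : Submodule R M := Submodule.span R (↑(s.biUnion u ∪ t.image v) : Set M)
  have hN : N.FG := Submodule.fg_span (Finset.finite_toSet _)
  have hT : IsTors f (M ⧸ N) := by
    intro q
    obtain ⟨m, rfl⟩ := N.mkQ_surjective q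
    have hm : LocalizedModule.mkLinearMap (Submonoid.powers f) M m ∈
        N.localized' (Localization.Away f) (Submonoid.powers f) (LocalizedModule.mkLinearMap _ M) := by
      have : (⊤ : Submodule (Localization.Away f) (LocalizedModule (Submonoid.powers f) M)) ≤
          N.localized' (Localization.Away f) (Submonoid.powers f) (LocalizedModule.mkLinearMap _ M) := by
        rw [← ht, Submodule.span_le]
        intro y hy
        rw [hvc y]
        refine Submodule.smul_mem _ _ ⟨v y, ?_, 1, IsLocalizedModule.mk'_one _ _ _⟩
        exact Submodule.subset_span (by simp only [Finset.coe_union, Finset.coe_image]; exact Or.inr ⟨y, hy, rfl⟩)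
      exact this Submodule.mem_top
    obtain ⟨m', hm', ⟨_, n, rfl⟩, he⟩ := hm
    rw [IsLocalizedModule.mk'_eq_iff, Submonoid.smul_def, ← map_smul,
      IsLocalizedModule.eq_iff_exists (Submonoid.powers f)] at he
    obtain ⟨⟨_, k, rfl⟩, hk⟩ := he
    refine ⟨k + n, ?_⟩
    rw [← map_smul, Submodule.mkQ_apply, Submodule.Quotient.mk_eq_zero, pow_add, mul_smul]
    simp only [Submonoid.smul_def] at hk
    rw [← hk]
    exact N.smul_mem _ hm'
  haveI : Subsingleton (R' ⊗[R] (M ⧸ N)) := by
    refine subsingleton_of_forall_eq 0 fun z => ?_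
    obtain ⟨z, rfl⟩ := LinearMap.lTensor_surjective R' N.mkQ_surjective z
    have hz : z ∈ LinearMap.ker (N.mkQ.baseChange R') := by
      have : (⊤ : Submodule R' (R' ⊗[R] M)) ≤ LinearMap.ker (N.mkQ.baseChange R') := by
        rw [← hs, Submodule.span_le]
        intro x hx
        refine (Submodule.span_le.2 ?_) (hu x)
        rintro _ ⟨m, hm, rfl⟩
        rw [SetLike.mem_coe, LinearMap.mem_ker, LinearMap.baseChange_tmul, Submodule.mkQ_apply,
          (Submodule.Quotient.mk_eq_zero N).2 (Submodule.subset_span ?_), tmul_zero]
        simp only [Finset.coe_union, Finset.coe_biUnion]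
        exact Or.inl (Set.mem_biUnion hx hm)
      exact this Submodule.mem_top
    exact hz
  have := subsingleton_of_isTors (R' := R') hq hT
  refine ⟨?_⟩
  have hNtop : N = ⊤ := Submodule.Quotient.subsingleton_iff.1 this
  rwa [← hNtop]

/-- The source of the standard presentation. -/
def Pres (R M : Type u) [CommRing R] : Type u := M →₀ R

noncomputable instance presAddCommGroup (R M : Type u) [CommRing R] : AddCommGroup (Pres R M) :=
  inferInstanceAs (AddCommGroup (M →₀ R))

noncomputable instance presModule (R M : Type u) [CommRing R] : Module R (Pres R M) :=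
  inferInstanceAs (Module R (M →₀ R))

instance presFree (R M : Type u) [CommRing R] : Module.Free R (Pres R M) :=
  inferInstanceAs (Module.Free R (M →₀ R))

/-- The standard presentation. -/
noncomputable def presMap (R M : Type u) [CommRing R] [AddCommGroup M] [Module R M] :
    Pres R M →ₗ[R] M :=
  Finsupp.linearCombination R (id : M → M)

theorem presMap_surjective (R M : Type u) [CommRing R] [AddCommGroup M] [Module R M] :
    Function.Surjective (presMap R M) :=
  Finsupp.linearCombination_id_surjective R M

/-- The kernel of the standard presentation. -/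
noncomputable abbrev presKer (R M : Type u) [CommRing R] [AddCommGroup M] [Module R M] :
    Submodule R (Pres R M) :=
  LinearMap.ker (presMap R M)

theorem pres_torsion_free_eq_zero (ht : TorsionBij R R' f) {x : Pres R M} {n : ℕ}
    (hn : f ^ n • x = 0) (hx : (1 : R') ⊗ₜ[R] x = 0) : x = 0 := by
  classical
  have key : ∀ y : M →₀ R, f ^ n • y = 0 → (1 : R') ⊗ₜ[R] y = 0 → y = 0 := fun y hn hx => by
    ext j
    refine ht.1 _ ⟨n, ?_⟩ ?_
    · simpa using congrArg (fun g : M →₀ R => g j) hn
    · have := congrArg (fun t => TensorProduct.finsuppScalarRight R R R' M t j) hx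
      simpa [TensorProduct.finsuppScalarRight_apply_tmul_apply, Algebra.smul_def] using this
  exact key x hn hx

theorem pres_exact :
    Function.Exact (presKer R M).subtype (presMap R M) :=
  (presMap R M).exact_subtype_ker_map

/-- If `M_f` is flat, the kernel of `X ⊗ K → X ⊗ F` is `f`-power torsion. -/
theorem torsion_of_lTensor_eq_zero [Module.Flat R (LocalizedModule (Submonoid.powers f) M)]
    {X : Type u} [AddCommGroup X] [Module R X] {z : X ⊗[R] presKer R M}
    (hz : (presKer R M).subtype.lTensor X z = 0) : ∃ n : ℕ, f ^ n • z = 0 := by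
  let S := Submonoid.powers f
  let p := presMap R M
  let g := IsLocalizedModule.map S (LocalizedModule.mkLinearMap S (presKer R M))
    (LocalizedModule.mkLinearMap S (Pres R M)) (presKer R M).subtype
  let h := IsLocalizedModule.map S (LocalizedModule.mkLinearMap S (Pres R M))
    (LocalizedModule.mkLinearMap S M) p
  have hh : Function.Surjective h := IsLocalizedModule.map_surjective S _ _ _
    (presMap_surjective R M)
  have hg : Function.Injective g := IsLocalizedModule.map_injective S _ _ _ (presKer R M).injective_subtype
  have hex : Function.Exact g h := IsLocalizedModule.map_exact S _ _ _ _ _ pres_exact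
  let F₁ := TensorProduct.map (LocalizedModule.mkLinearMap S X) (LocalizedModule.mkLinearMap S (presKer R M))
  have h1 : F₁ z = 0 := by
    apply LinearMap.lTensor_injective_of_exact_of_flat (M := LocalizedModule S (presKer R M)) (N := LocalizedModule S (Pres R M)) (P := LocalizedModule S M) h hh g hg hex (LocalizedModule S X)
    have h2 : g.lTensor (LocalizedModule S X) ∘ₗ F₁ =
        TensorProduct.map (LocalizedModule.mkLinearMap S X) (LocalizedModule.mkLinearMap S (Pres R M)) ∘ₗ
          (presKer R M).subtype.lTensor X := by
      refine TensorProduct.ext' fun x k => ?_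
      simp only [F₁, g, LinearMap.comp_apply, TensorProduct.map_tmul, LinearMap.lTensor_tmul, IsLocalizedModule.map_apply]
    rw [← LinearMap.comp_apply, h2, LinearMap.comp_apply, hz, map_zero, map_zero]
  haveI : IsLocalizedModule S F₁ := inferInstance
  obtain ⟨⟨_, n, rfl⟩, hn⟩ := (IsLocalizedModule.eq_zero_iff S F₁).1 h1
  exact ⟨n, hn⟩

theorem lTensor_presKer_injective (hq : EtGlue.QuotPowBijective R R' f) (ht : TorsionBij R R' f)
    [Module.Flat R (LocalizedModule (Submonoid.powers f) M)] :
    Function.Injective ((presKer R M).subtype.lTensor R') := by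
  rw [injective_iff_map_eq_zero]
  intro z hz
  obtain ⟨n, hn⟩ := torsion_of_lTensor_eq_zero (f := f) hz
  obtain ⟨k, hk, rfl⟩ := exists_torsion_preimage hq ht hn
  rw [LinearMap.lTensor_tmul] at hz
  rw [Subtype.ext (pres_torsion_free_eq_zero ht (congrArg Subtype.val hk) hz) (a2 := (0 : presKer R M)),
    tmul_zero]

theorem flat_localized_presKer [Module.Flat R (LocalizedModule (Submonoid.powers f) M)] :
    Module.Flat R (LocalizedModule (Submonoid.powers f) (presKer R M)) := by
  let S := Submonoid.powers f
  let g := IsLocalizedModule.map S (LocalizedModule.mkLinearMap S (presKer R M))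
    (LocalizedModule.mkLinearMap S (Pres R M)) (presKer R M).subtype
  let h := IsLocalizedModule.map S (LocalizedModule.mkLinearMap S (Pres R M))
    (LocalizedModule.mkLinearMap S M) (presMap R M)
  have hh : Function.Surjective h := IsLocalizedModule.map_surjective S _ _ _
    (presMap_surjective R M)
  have hg : Function.Injective g := IsLocalizedModule.map_injective S _ _ _ (presKer R M).injective_subtype
  have hex : Function.Exact g h := IsLocalizedModule.map_exact S _ _ _ _ _ pres_exact
  haveI : Module.Flat R (LocalizedModule S (Pres R M)) :=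
    Module.Flat.trans R (Localization S) _
  rw [Module.Flat.iff_rTensor_preserves_injective_linearMap]
  intro A B _ _ _ _ i hi x y hxy
  apply LinearMap.lTensor_injective_of_exact_of_flat (M := LocalizedModule S (presKer R M)) (N := LocalizedModule S (Pres R M)) (P := LocalizedModule S M) h hh g hg hex A
  apply Module.Flat.rTensor_preserves_injective_linearMap (M := LocalizedModule S (Pres R M)) i hi
  rw [← LinearMap.comp_apply, ← LinearMap.comp_apply, LinearMap.rTensor_comp_lTensor,
    ← LinearMap.lTensor_comp_rTensor, LinearMap.comp_apply, LinearMap.comp_apply, hxy]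

theorem flat_baseChange_presKer (hq : EtGlue.QuotPowBijective R R' f) (ht : TorsionBij R R' f)
    [Module.Flat R (LocalizedModule (Submonoid.powers f) M)] [Module.Flat R' (R' ⊗[R] M)] :
    Module.Flat R' (R' ⊗[R] presKer R M) := by
  let p := (presMap R M).baseChange R'
  let g := (presKer R M).subtype.baseChange R'
  have hg : Function.Injective g := lTensor_presKer_injective hq ht
  have hp : Function.Surjective p :=
    LinearMap.lTensor_surjective R' (presMap_surjective R M)
  have hex : Function.Exact g p :=
    lTensor_exact R' pres_exact (presMap_surjective R M)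
  rw [Module.Flat.iff_rTensor_preserves_injective_linearMap]
  intro A B _ _ _ _ i hi x y hxy
  apply LinearMap.lTensor_injective_of_exact_of_flat (M := R' ⊗[R] presKer R M) (N := R' ⊗[R] (Pres R M)) (P := R' ⊗[R] M) p hp g hg hex A
  apply Module.Flat.rTensor_preserves_injective_linearMap (M := R' ⊗[R] (Pres R M)) i hi
  rw [← LinearMap.comp_apply, ← LinearMap.comp_apply, LinearMap.rTensor_comp_lTensor,
    ← LinearMap.lTensor_comp_rTensor, LinearMap.comp_apply, LinearMap.comp_apply, hxy]

/-- `M ⊗ A → M ⊗ B` is injective as soon as `C ⊗ K → C ⊗ F` is, `C` the cokernel. -/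
theorem lTensor_injective_of_presKer {A B C : Type u} [AddCommGroup A] [Module R A]
    [AddCommGroup B] [Module R B] [AddCommGroup C] [Module R C]
    (g : A →ₗ[R] B) (h : B →ₗ[R] C) (hg : Function.Injective g) (hh : Function.Surjective h)
    (hex : Function.Exact g h)
    (hC : Function.Injective ((presKer R M).subtype.lTensor C)) :
    Function.Injective (g.rTensor M) := by
  let p := presMap R M
  have hp : Function.Surjective p := presMap_surjective R M
  let i := (presKer R M).subtype
  rw [injective_iff_map_eq_zero]
  intro x hx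
  obtain ⟨a, rfl⟩ := LinearMap.lTensor_surjective A hp x
  rw [← LinearMap.comp_apply, LinearMap.rTensor_comp_lTensor, ← LinearMap.lTensor_comp_rTensor,
    LinearMap.comp_apply] at hx
  obtain ⟨b, hb⟩ := (lTensor_exact B pres_exact hp _).1 hx
  have hb0 : h.rTensor (presKer R M) b = 0 := by
    apply hC
    rw [map_zero, ← LinearMap.comp_apply, LinearMap.lTensor_comp_rTensor,
      ← LinearMap.rTensor_comp_lTensor, LinearMap.comp_apply, hb, ← LinearMap.comp_apply,
      ← LinearMap.rTensor_comp, hex.linearMap_comp_eq_zero, LinearMap.rTensor_zero,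
      LinearMap.zero_apply]
  obtain ⟨c, rfl⟩ := (rTensor_exact (presKer R M) hex hh _).1 hb0
  have : a = i.lTensor A c := by
    apply Module.Flat.rTensor_preserves_injective_linearMap (M := Pres R M) g hg
    rw [← hb, ← LinearMap.comp_apply, ← LinearMap.comp_apply, LinearMap.rTensor_comp_lTensor,
      LinearMap.lTensor_comp_rTensor]
  rw [this]
  exact (lTensor_exact A pres_exact hp).apply_apply_eq_zero c

theorem presKer_lTensor_injective_of_isTors (hq : EtGlue.QuotPowBijective R R' f)
    (ht : TorsionBij R R' f) [Module.Flat R (LocalizedModule (Submonoid.powers f) M)]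
    [Module.Flat R' (R' ⊗[R] M)] {C : Type u} [AddCommGroup C] [Module R C] (hC : IsTors f C) :
    Function.Injective ((presKer R M).subtype.lTensor C) := by
  let g := (presKer R M).subtype.baseChange R'
  let p := (presMap R M).baseChange R'
  have h0 : Function.Injective (g.lTensor (R' ⊗[R] C)) :=
    LinearMap.lTensor_injective_of_exact_of_flat p
      (LinearMap.lTensor_surjective R' (presMap_surjective R M)) g
      (lTensor_presKer_injective hq ht)
      (lTensor_exact R' pres_exact (presMap_surjective R M)) (R' ⊗[R] C)
  let e := LinearEquiv.ofBijective (TensorProduct.mk R R' C 1)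
    ⟨mk_injective_of_isTors hq hC, mk_surjective_of_isTors hq hC⟩
  let eK := (e.rTensor (presKer R M)).trans
    ((AlgebraTensorModule.cancelBaseChange R R' R' (R' ⊗[R] C) (presKer R M)).symm.restrictScalars R)
  let eF := (e.rTensor (Pres R M)).trans
    ((AlgebraTensorModule.cancelBaseChange R R' R' (R' ⊗[R] C) (Pres R M)).symm.restrictScalars R)
  have hcomm : ∀ z, eF ((presKer R M).subtype.lTensor C z) = g.lTensor (R' ⊗[R] C) (eK z) := by
    intro z
    induction z with
    | zero => simp
    | tmul c k => simp [eF, eK, e, g]
    | add a b ha hb => simp [ha, hb]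
  intro x y hxy
  apply eK.injective
  apply h0
  rw [← hcomm, ← hcomm, hxy]

/-- The torsion submodule for powers of `f`. -/
noncomputable def tors (f : R) (N : Type u) [AddCommGroup N] [Module R N] : Submodule R N :=
  LinearMap.ker (LocalizedModule.mkLinearMap (Submonoid.powers f) N)

theorem flat_of_glue (hq : EtGlue.QuotPowBijective R R' f) (ht : TorsionBij R R' f)
    [Module.Flat R (LocalizedModule (Submonoid.powers f) M)] [Module.Flat R' (R' ⊗[R] M)] :
    Module.Flat R M := by
  haveI := flat_localized_presKer (f := f) (M := M)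
  haveI := flat_baseChange_presKer (M := M) hq ht
  let S := Submonoid.powers f
  let i := (presKer R M).subtype
  have hN : ∀ (N : Type u) [AddCommGroup N] [Module R N], Function.Injective (i.lTensor N) := by
    intro N _ _
    let T := tors f N
    have hT : IsTors f T := fun x => by
      obtain ⟨n, hn⟩ := (mkLinearMap_eq_zero_iff (x : N)).1 x.2
      exact ⟨n, Subtype.ext hn⟩
    let j : (N ⧸ T) →ₗ[R] LocalizedModule S N := T.liftQ (LocalizedModule.mkLinearMap S N) le_rfl
    have hj : Function.Injective j := by
      rw [← LinearMap.ker_eq_bot]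
      exact Submodule.ker_liftQ_eq_bot _ _ _ le_rfl
    let C := LocalizedModule S N ⧸ LinearMap.range j
    have hC : IsTors f C := by
      intro c
      obtain ⟨y, rfl⟩ := Submodule.mkQ_surjective _ c
      obtain ⟨⟨m, ⟨_, n, rfl⟩⟩, hm⟩ := IsLocalizedModule.surj S (LocalizedModule.mkLinearMap S N) y
      refine ⟨n, ?_⟩
      rw [← map_smul, Submodule.mkQ_apply, Submodule.Quotient.mk_eq_zero]
      exact ⟨T.mkQ m, hm.symm⟩
    -- torsion-free part
    have h1 : Function.Injective (j.rTensor (presKer R M)) :=
      lTensor_injective_of_presKer j (LinearMap.range j).mkQ hj (Submodule.mkQ_surjective _)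
        j.exact_map_mkQ_range (presKer_lTensor_injective_of_isTors hq ht hC)
    have h2 : Function.Injective (i.lTensor (LocalizedModule S N)) := by
      rw [injective_iff_map_eq_zero]
      intro z hz
      obtain ⟨n, hn⟩ := torsion_of_lTensor_eq_zero (f := f) hz
      have hu : Function.Bijective (algebraMap R (Module.End R (LocalizedModule S N)) (f ^ n)) :=
        (Module.End.isUnit_iff _).1 (IsLocalizedModule.map_units (LocalizedModule.mkLinearMap S N) (pw f n))
      let ε := LinearEquiv.ofBijective _ hu
      have : ∀ z, ε.rTensor (presKer R M) z = f ^ n • z := by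
        intro z
        induction z with
        | zero => simp
        | tmul a b => rw [LinearEquiv.rTensor_tmul, smul_tmul']; rfl
        | add a b ha hb => rw [map_add, ha, hb, smul_add]
      apply (ε.rTensor (presKer R M)).injective
      rw [this, hn, map_zero]
    have h3 : Function.Injective (i.lTensor (N ⧸ T)) := by
      refine Function.Injective.of_comp (f := j.rTensor (Pres R M)) ?_
      rw [← LinearMap.coe_comp, LinearMap.rTensor_comp_lTensor, ← LinearMap.lTensor_comp_rTensor,
        LinearMap.coe_comp]
      exact h2.comp h1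
    rw [injective_iff_map_eq_zero]
    intro z hz
    have hz1 : T.mkQ.rTensor (presKer R M) z = 0 := by
      apply h3
      rw [map_zero, ← LinearMap.comp_apply, LinearMap.lTensor_comp_rTensor,
        ← LinearMap.rTensor_comp_lTensor, LinearMap.comp_apply, hz, map_zero]
    obtain ⟨w, rfl⟩ := (rTensor_exact (presKer R M)
      (show Function.Exact T.subtype T.mkQ from LinearMap.exact_subtype_mkQ T) T.mkQ_surjective _).1 hz1
    have hw : w = 0 := by
      apply presKer_lTensor_injective_of_isTors hq ht hT
      apply Module.Flat.rTensor_preserves_injective_linearMap (M := Pres R M) T.subtype T.injective_subtype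
      rw [map_zero, map_zero, ← LinearMap.comp_apply, LinearMap.rTensor_comp_lTensor,
        ← LinearMap.lTensor_comp_rTensor, LinearMap.comp_apply, hz]
    rw [hw, map_zero]
  rw [Module.Flat.iff_rTensor_preserves_injective_linearMap]
  intro A B _ _ _ _ g hg
  exact lTensor_injective_of_presKer g (LinearMap.range g).mkQ hg (Submodule.mkQ_surjective _)
    g.exact_map_mkQ_range (hN _)

end Groth.Agent.H48.Glue
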