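import Groth.Agent.H48.GlueBC
import Mathlib.RingTheory.RingHom.FiniteType

/-!
# Properties of algebra maps along a glueing pair
-/

open TensorProduct

set_option linter.style.haveILetI false

namespace Groth.Agent.H48.GlueSetup

universe u

attribute [local instance] Algebra.TensorProduct.rightAlgebra

/-- A property stable under base change passes to both pieces. -/
theorem forward {P : ∀ {R S : Type u} [CommRing R] [CommRing S], (R →+* S) → Prop}
    (hP : RingHom.IsStableUnderBaseChange P) {R R' : Type u} [CommRing R] [CommRing R'] [Algebra R R']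
    {f : R} {A B : Type u} [CommRing A] [Algebra R A] [CommRing B] [Algebra R B] (φ : A →ₐ[R] B)
    (h : P φ.toRingHom) :
    P (Localization.awayMap φ.toRingHom (algebraMap R A f)) ∧
      P (Algebra.TensorProduct.map (AlgHom.id R R') φ).toRingHom := by
  letI : Algebra A B := φ.toRingHom.toAlgebra
  haveI : IsScalarTower R A B := IsScalarTower.of_algebraMap_eq fun r => (φ.commutes r).symm
  let A' := R' ⊗[R] A
  let B' := R' ⊗[R] B
  let Φ := Algebra.TensorProduct.map (AlgHom.id R R') φ
  letI : Algebra A' B' := Φ.toRingHom.toAlgebra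
  letI : Algebra A B' := ((algebraMap B B').comp (algebraMap A B)).toAlgebra
  haveI : IsScalarTower A B B' := IsScalarTower.of_algebraMap_eq fun _ => rfl
  haveI : IsScalarTower A A' B' := IsScalarTower.of_algebraMap_eq fun a => by
    show (1 : R') ⊗ₜ[R] φ a = Φ ((1 : R') ⊗ₜ[R] a)
    simp [Φ]
  haveI : IsScalarTower R' A' B' := IsScalarTower.of_algebraMap_eq fun r => by
    show r ⊗ₜ[R] (1 : B) = Φ (r ⊗ₜ[R] (1 : A))
    simp [Φ]
  haveI : IsScalarTower R A B' := IsScalarTower.of_algebraMap_eq (R := R) (S := A) (A := B') fun r => by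
    rw [IsScalarTower.algebraMap_apply A B B', ← IsScalarTower.algebraMap_apply R A B,
      ← IsScalarTower.algebraMap_apply R B B']
  haveI : Algebra.IsPushout A B A' B' :=
    (Algebra.IsPushout.comp_iff (R := R) (S := A) (T' := B') (R' := R') (S' := A') (T := B)).1
      inferInstance
  let Af := Localization.Away (algebraMap R A f)
  let Bf := Localization.Away (φ.toRingHom (algebraMap R A f))
  letI : Algebra Af Bf := (Localization.awayMap φ.toRingHom (algebraMap R A f)).toAlgebra
  haveI : IsScalarTower A Af Bf := IsScalarTower.of_algebraMap_eq fun a => by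
    rw [IsScalarTower.algebraMap_apply A B Bf]
    show _ = Localization.awayMap _ _ _
    rw [Localization.awayMap, IsLocalization.Away.map, IsLocalization.map_eq]
    rfl
  haveI : IsLocalization (Algebra.algebraMapSubmonoid B (Submonoid.powers (algebraMap R A f))) Bf := by
    rw [Algebra.algebraMapSubmonoid, Submonoid.map_powers]
    exact inferInstanceAs (IsLocalization.Away (φ.toRingHom (algebraMap R A f)) Bf)
  haveI : Algebra.IsPushout A B Af Bf :=
    Algebra.isPushout_of_isLocalization (Submonoid.powers (algebraMap R A f)) _ _ _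
  exact ⟨hP A B Af Bf h, hP A B A' B' h⟩

/-- The five reverse implications. -/
theorem backward {R R' : Type u} [CommRing R] [CommRing R'] [Algebra R R'] {f : R}
    (hRR' : EtGlue.IsGlueingPair R R' f) {A B : Type u} [CommRing A] [Algebra R A] [CommRing B]
    [Algebra R B] (hA : EtGlue.IsGlueable R R' f A) (φ : A →ₐ[R] B) :
    let φf := Localization.awayMap φ.toRingHom (algebraMap R A f)
    let φ' := (Algebra.TensorProduct.map (AlgHom.id R R') φ).toRingHom
    (Function.Surjective φf → Function.Surjective φ' → Function.Surjective φ) ∧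
    (φf.FiniteType → φ'.FiniteType → φ.toRingHom.FiniteType) ∧
    (φf.Flat → φ'.Flat → φ.toRingHom.Flat) ∧
    (φf.Flat → φ'.Flat → φf.FinitePresentation → φ'.FinitePresentation → φ.toRingHom.FinitePresentation) ∧
    (φf.Etale → φ'.Etale → φ.toRingHom.Etale) := by
  intro φf φ'
  letI : Algebra A B := φ.toRingHom.toAlgebra
  haveI : IsScalarTower R A B := IsScalarTower.of_algebraMap_eq fun r => (φ.commutes r).symm
  let A' := R' ⊗[R] A
  let B' := R' ⊗[R] B
  letI : Algebra A' B' := φ'.toAlgebra
  letI : Algebra A B' := ((algebraMap B B').comp (algebraMap A B)).toAlgebra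
  haveI : IsScalarTower A B B' := IsScalarTower.of_algebraMap_eq fun _ => rfl
  haveI : IsScalarTower A A' B' := IsScalarTower.of_algebraMap_eq fun a => by
    show (1 : R') ⊗ₜ[R] φ a = φ' ((1 : R') ⊗ₜ[R] a)
    simp [φ']
  haveI : IsScalarTower R' A' B' := IsScalarTower.of_algebraMap_eq fun r => by
    show r ⊗ₜ[R] (1 : B) = φ' (r ⊗ₜ[R] (1 : A))
    simp [φ']
  haveI : IsScalarTower R A B' := IsScalarTower.of_algebraMap_eq (R := R) (S := A) (A := B') fun r => by
    rw [IsScalarTower.algebraMap_apply A B B', ← IsScalarTower.algebraMap_apply R A B,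
      ← IsScalarTower.algebraMap_apply R B B']
  haveI : Algebra.IsPushout A B A' B' :=
    (Algebra.IsPushout.comp_iff (R := R) (S := A) (T' := B') (R' := R') (S' := A') (T := B)).1
      inferInstance
  let g := algebraMap R A f
  let Af := Localization.Away g
  let Bf := Localization.Away (φ.toRingHom g)
  letI : Algebra Af Bf := φf.toAlgebra
  haveI : IsScalarTower A Af Bf := IsScalarTower.of_algebraMap_eq fun a => by
    rw [IsScalarTower.algebraMap_apply A B Bf]
    show _ = Localization.awayMap _ _ _
    rw [Localization.awayMap, IsLocalization.Away.map, IsLocalization.map_eq]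
    rfl
  haveI : IsLocalization.Away (algebraMap A B g) Bf :=
    inferInstanceAs (IsLocalization.Away (φ.toRingHom g) Bf)
  have hq : EtGlue.QuotPowBijective A A' g :=
    GlueBC.quotPowBijective_baseChange (R := R) (R' := R') hRR'.1
  have ht : Glue.TorsionBij A A' g := GlueBC.torsionBij_baseChange (R := R) (R' := R') hA
  have flatB : φf.Flat → φ'.Flat → Module.Flat A B := fun h1 h2 => by
    haveI : Module.Flat Af Bf := h1
    haveI : Module.Flat A' B' := h2
    exact GlueBC.flat_of_glue (A' := A') (B' := B') (Af := Af) (Bf := Bf) hq ht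
  have fpB : φf.Flat → φ'.Flat → φf.FinitePresentation → φ'.FinitePresentation →
      Algebra.FinitePresentation A B := fun h1 h2 h3 h4 => by
    haveI : Module.Flat Af Bf := h1
    haveI : Module.Flat A' B' := h2
    haveI : Algebra.FinitePresentation Af Bf := h3
    haveI : Algebra.FinitePresentation A' B' := h4
    exact GlueBC.finitePresentation_of_glue (A' := A') (B' := B') (Af := Af) (Bf := Bf) hq ht
  refine ⟨fun h1 h2 => GlueBC.surjective_of_glue (A' := A') (B' := B') (Af := Af) (Bf := Bf) hq h1 h2,
    fun h1 h2 => ?_, flatB, fpB, fun h1 h2 => ?_⟩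
  · haveI : Algebra.FiniteType Af Bf := h1
    haveI : Algebra.FiniteType A' B' := h2
    exact GlueBC.finiteType_of_glue (A' := A') (B' := B') (Af := Af) (Bf := Bf) hq
  · haveI : Algebra.Etale Af Bf := RingHom.etale_algebraMap.1 h1
    haveI : Algebra.Etale A' B' := RingHom.etale_algebraMap.1 h2
    haveI : Module.Flat A B := flatB (inferInstanceAs (Module.Flat Af Bf)) (inferInstanceAs (Module.Flat A' B'))
    haveI : Algebra.FinitePresentation A B := fpB (inferInstanceAs (Module.Flat Af Bf))
      (inferInstanceAs (Module.Flat A' B')) (inferInstanceAs (Algebra.FinitePresentation Af Bf))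
      (inferInstanceAs (Algebra.FinitePresentation A' B'))
    haveI : Algebra.FormallyUnramified A B :=
      GlueBC.formallyUnramified_of_glue (A' := A') (B' := B') (Af := Af) (Bf := Bf) (f := g)
        (GlueBC.quotPowBijective_baseChange (R := A) (R' := A') hq)
    exact RingHom.etale_algebraMap.2 Algebra.Etale.of_formallyUnramified_of_flat

end Groth.Agent.H48.GlueSetup
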