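import Groth.Agent.H48.GlueFlat
import Groth.Agent.Lib.Tor.Module
import Mathlib.Algebra.Homology.HomologySequence
import Mathlib.RingTheory.Localization.Away.Basic

/-!
# `Tor₁(R', M)` for a glueing pair when `M_f` is flat
-/

universe u

open CategoryTheory CategoryTheory.Limits TensorProduct MonoidalCategory

namespace Groth.Agent.H48

open Groth.Agent.Lib.Tor Groth.Agent.H48.Glue

/-- `Tor₁(X, M) = 0` if `M = coker (K → F)` with `F` flat and `X ⊗ K → X ⊗ F` injective. -/
theorem subsingleton_tor_one {R : Type u} [CommRing R] (X : Type u) [AddCommGroup X] [Module R X]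
    {K F M : Type u} [AddCommGroup K] [Module R K] [AddCommGroup F] [Module R F] [Module.Flat R F]
    [AddCommGroup M] [Module R M] (i : K →ₗ[R] F) (π : F →ₗ[R] M) (hi : Function.Injective i)
    (hπ : Function.Surjective π) (hex : Function.Exact i π) (hinj : Function.Injective (i.lTensor X)) :
    Subsingleton (((CategoryTheory.Tor (ModuleCat.{u} R) 1).obj (ModuleCat.of R X)).obj
      (ModuleCat.of R M) : ModuleCat.{u} R) := by
  let X' : ModuleCat.{u} R := ModuleCat.of R X
  let P := (projectiveResolution X').complex
  let S : ShortComplex (ModuleCat.{u} R) := ShortComplex.mk (ModuleCat.ofHom i) (ModuleCat.ofHom π)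
    (ModuleCat.hom_ext hex.linearMap_comp_eq_zero)
  have hS : S.ShortExact := by
    refine ShortComplex.ShortExact.mk' ?_ ((ModuleCat.mono_iff_injective _).2 hi)
      ((ModuleCat.epi_iff_surjective _).2 hπ)
    rw [ShortComplex.moduleCat_exact_iff]
    exact fun x hx => (hex x).1 hx
  have hT := Balance.shortExact_tensorCxFun P (fun n => Balance.flat_of_projective (P.X n)) S hS
  let e₁ := Balance.torIsoOfResolution (projectiveResolution X') 1
  let z₀ := Balance.zeroIso P ((projectiveResolution X').π.f 0)
    (projectiveResolution X').complex_d_comp_π_f_zero inferInstance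
    (Balance.resolution_exact_zero (projectiveResolution X'))
  have : Mono (HomologicalComplex.homologyMap ((Balance.tensorCxFun P).map S.f) 0) := by
    refine ((MorphismProperty.monomorphisms (ModuleCat.{u} R)).arrow_mk_iso_iff
      (Arrow.isoMk (z₀.app S.X₁) (z₀.app S.X₂) (z₀.hom.naturality S.f).symm)).2 ?_
    exact (ModuleCat.mono_iff_injective _).2 hinj
  have : Mono (HomologicalComplex.homologyMap (S.map (Balance.tensorCxFun P)).f 0) := this
  have hδ : hT.δ 1 0 (by simp) = 0 :=
    (cancel_mono (HomologicalComplex.homologyMap (S.map (Balance.tensorCxFun P)).f 0)).1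
      ((hT.δ_comp 1 0 (by simp)).trans zero_comp.symm)
  have : Module.Flat R (S.X₂ : ModuleCat.{u} R) := ‹Module.Flat R F›
  have h2 : IsZero ((S.map (Balance.tensorCxFun P)).X₂.homology 1) :=
    (Balance.isZero_tor_succ_of_flat_right X' S.X₂ 0).of_iso (e₁.app S.X₂)
  have h3 : IsZero ((S.map (Balance.tensorCxFun P)).X₃.homology 1) := by
    have := (hT.homology_exact₃ 1 0 (by simp)).epi_f hδ
    exact IsZero.of_epi (HomologicalComplex.homologyMap (S.map (Balance.tensorCxFun P)).g 1) h2
  exact ModuleCat.subsingleton_of_isZero (h3.of_iso (e₁.app S.X₃).symm)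

variable {R R' : Type u} [CommRing R] [CommRing R'] [Algebra R R'] {f : R}

/-- For a glueing pair, `Tor₁(R', M) = 0` if `M_f` is flat. -/
theorem subsingleton_tor_one_of_isGlueingPair (h : EtGlue.IsGlueingPair R R' f)
    (M : Type u) [AddCommGroup M] [Module R M]
    [Module.Flat R (LocalizedModule (Submonoid.powers f) M)] :
    Subsingleton (((CategoryTheory.Tor (ModuleCat.{u} R) 1).obj (ModuleCat.of R R')).obj
      (ModuleCat.of R M) : ModuleCat.{u} R) :=
  subsingleton_tor_one R' (presKer R M).subtype (presMap R M) (presKer R M).injective_subtype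
    (presMap_surjective R M) pres_exact
    (lTensor_presKer_injective h.1 (torsionBij_of_isGlueingPair h))

/-- A module map which is bijective after localizing transports flatness of the localization. -/
theorem flat_localized_of_map {M N : Type u} [AddCommGroup M] [Module R M] [AddCommGroup N]
    [Module R N] [Module.Flat R (LocalizedModule (Submonoid.powers f) N)] (g : M →ₗ[R] N)
    (hker : ∀ m, g m = 0 → ∃ k : ℕ, f ^ k • m = 0)
    (hcoker : ∀ x : N, ∃ (k : ℕ) (m : M), g m = f ^ k • x) :
    Module.Flat R (LocalizedModule (Submonoid.powers f) M) := by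
  let S := Submonoid.powers f
  let iM := LocalizedModule.mkLinearMap S M
  let iN := LocalizedModule.mkLinearMap S N
  let G := IsLocalizedModule.map S iM iN g
  have hG : Function.Bijective G := by
    refine ⟨(injective_iff_map_eq_zero _).2 fun z hz => ?_, fun z => ?_⟩
    · obtain ⟨⟨m, ⟨_, k, rfl⟩⟩, hm⟩ := IsLocalizedModule.surj S iM z
      have h0 : iN (g m) = 0 := by
        rw [← IsLocalizedModule.map_apply S iM iN g m, ← hm, Submonoid.smul_def, map_smul, hz,
          smul_zero]
      obtain ⟨⟨_, a, rfl⟩, ha⟩ := (IsLocalizedModule.eq_zero_iff S iN).1 h0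
      simp only [Submonoid.smul_def, ← map_smul] at ha
      obtain ⟨b, hb⟩ := hker _ ha
      have h1 : iM m = 0 := (IsLocalizedModule.eq_zero_iff S iM).2
        ⟨⟨f ^ (b + a), b + a, rfl⟩, by change f ^ (b + a) • m = 0; rw [pow_add, mul_smul]; exact hb⟩
      rw [h1, Submonoid.smul_def] at hm
      exact (Module.End.isUnit_iff _).1 (IsLocalizedModule.map_units iM (⟨f ^ k, k, rfl⟩ : S)) |>.1
        (hm.trans (map_zero _).symm)
    · obtain ⟨⟨x, ⟨_, k, rfl⟩⟩, hx⟩ := IsLocalizedModule.surj S iN z
      obtain ⟨a, m, hm⟩ := hcoker x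
      obtain ⟨w, hw⟩ := (Module.End.isUnit_iff _).1
        (IsLocalizedModule.map_units iM (⟨f ^ (a + k), a + k, rfl⟩ : S)) |>.2 (iM m)
      refine ⟨w, (Module.End.isUnit_iff _).1
        (IsLocalizedModule.map_units iN (⟨f ^ (a + k), a + k, rfl⟩ : S)) |>.1 ?_⟩
      have hw' : f ^ (a + k) • w = iM m := hw
      change f ^ (a + k) • G w = f ^ (a + k) • z
      rw [← map_smul, hw', IsLocalizedModule.map_apply, hm, map_smul, pow_add, mul_smul]
      exact congrArg (f ^ a • ·) hx.symm
  exact Module.Flat.of_linearEquiv (LinearEquiv.ofBijective G hG)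

instance flat_localized_self : Module.Flat R (LocalizedModule (Submonoid.powers f) R) :=
  haveI : Module.Flat R (Localization (Submonoid.powers f)) :=
    IsLocalization.flat _ (Submonoid.powers f)
  Module.Flat.of_linearEquiv (IsLocalizedModule.linearEquiv (Submonoid.powers f)
    (LocalizedModule.mkLinearMap (Submonoid.powers f) R)
    (Algebra.linearMap R (Localization (Submonoid.powers f))))

end Groth.Agent.H48
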