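import Groth.Agent.Lib.LCFin.Annihilator
import Groth.Agent.Lib.Goren.LCI
import Groth.Agent.Lib.Depth.CM
import Groth.Agent.Lib.LocalFlat.Criterion
import Groth.Agent.Lib.Excellent.Transport
import Mathlib.RingTheory.Ideal.Colon

/-!
Linkage of ideals of codimension zero in Gorenstein local rings.
-/

universe u

open IsLocalRing RingTheory.Sequence LocCoh CategoryTheory
open scoped Pointwise TensorProduct

namespace Groth.Agent.H48.GorLink

theorem extends_of_subsingleton_ext {A : Type u} [CommRing A] (I : Ideal A)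
    (h : Subsingleton (Abelian.Ext (ModuleCat.of A (A ⧸ I)) (ModuleCat.of A A) 1))
    (φ : I →ₗ[A] A) : ∃ c : A, ∀ i : I, φ i = c * (i : A) := by
  let S : ShortComplex (ModuleCat.{u} A) :=
    ShortComplex.mk (ModuleCat.ofHom I.subtype) (ModuleCat.ofHom (Submodule.mkQ I))
      (by ext i; exact Ideal.Quotient.eq_zero_iff_mem.2 i.2)
  have hS : S.ShortExact :=
    { exact := by
        rw [ShortComplex.moduleCat_exact_iff]
        intro x hx
        exact ⟨⟨x, (Submodule.Quotient.mk_eq_zero I).1 hx⟩, rfl⟩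
      mono_f := (ModuleCat.mono_iff_injective _).2 (Submodule.injective_subtype _)
      epi_g := (ModuleCat.epi_iff_surjective _).2 (Submodule.mkQ_surjective _) }
  obtain ⟨ψ, hψ⟩ := Abelian.Ext.contravariant_sequence_exact₁ hS (ModuleCat.of A A)
    (Abelian.Ext.mk₀ (ModuleCat.ofHom φ)) (add_zero 1) (h.elim _ _)
  obtain ⟨g, rfl⟩ := (Abelian.Ext.mk₀_bijective (S.X₂) (ModuleCat.of A A)).2 ψ
  rw [Abelian.Ext.mk₀_comp_mk₀] at hψ
  have hg := (Abelian.Ext.mk₀_bijective _ _).1 hψ
  refine ⟨g.hom (1 : A), fun i => ?_⟩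
  have h1 := congr($(hg).hom i)
  refine h1.symm.trans ?_
  change g.hom (i : A) = _
  have h2 := g.hom.map_smul (i : A) (1 : A)
  rw [smul_eq_mul, mul_one] at h2
  rw [h2, smul_eq_mul, mul_comm]

variable {A : Type u} [CommRing A] [IsGorensteinLocalRing A] (I : Ideal A)
  [hM : IsCohenMacaulayLocalRing (A ⧸ I)]

include hM in
theorem subsingleton_ext_one (hdim : ringKrullDim (A ⧸ I) = ringKrullDim A) :
    Subsingleton (Abelian.Ext (ModuleCat.of A (A ⧸ I)) (ModuleCat.of A A) 1) := by
  obtain ⟨h, hh⟩ := Lib.Goren.LCI.exists_nat_dim A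
  rw [Lib.LCFin.Annihilator.subsingleton_ext_iff hh (A ⧸ I) 1]
  intro j hj
  have hd := Lib.Depth.CM.ringKrullDim_eq_depth (R := A ⧸ I)
  rw [hdim, hh, ← Lib.Depth.CM.depth_quotient_eq] at hd
  have hd' : LocCoh.depth A (A ⧸ I) = (h : ℕ∞) := (WithBot.coe_injective hd).symm
  exact (Lib.Depth.LocalCoh.le_idealDepth_iff_H (maximalIdeal A)
    (ModuleCat.of A (A ⧸ I)) h).1 hd'.ge j (by omega)

include hM in
theorem isSMulRegular_quotient (hdim : ringKrullDim (A ⧸ I) = ringKrullDim A) {x : A}
    (hx : x ∈ maximalIdeal A) (hreg : IsSMulRegular A x) : IsSMulRegular (A ⧸ I) x := by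
  by_contra hnr
  have hmem : x ∈ ⋃ p ∈ associatedPrimes A (A ⧸ I), (p : Set A) := by
    rw [biUnion_associatedPrimes_eq_compl_regular A (A ⧸ I)]; exact hnr
  simp only [Set.mem_iUnion, SetLike.mem_coe] at hmem
  obtain ⟨p, hp, hxp⟩ := hmem
  have hCM := (Lib.Depth.CM.isCohenMacaulayLocalRing_quotient_iff_module I).1 hM
  have h3 := Lib.Depth.CM.ringKrullDim_quotient_eq hCM hp
  rw [Module.supportDim_quotient_eq_ringKrullDim, hdim] at h3
  have h4 := ringKrullDim_le_of_surjective
    (Ideal.Quotient.factor ((Ideal.span_singleton_le_iff_mem _).2 hxp))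
    (Ideal.Quotient.factor_surjective _)
  have h5 := ringKrullDim_quotient_span_singleton_succ_eq_ringKrullDim_of_mem_jacobson hreg
    (by rwa [IsLocalRing.ringJacobson_eq_maximalIdeal])
  have := Lib.Goren.Basic.isLocalRing_quotient_span hx
  obtain ⟨a, ha⟩ := Lib.Goren.LCI.exists_nat_dim A
  obtain ⟨b, hb⟩ := Lib.Goren.LCI.exists_nat_dim (A ⧸ Ideal.span {x})
  rw [h3, ha, hb] at h4
  rw [ha, hb] at h5
  have h6 : a ≤ b := by exact_mod_cast h4
  have h7 : b + 1 = a := by exact_mod_cast h5
  omega

omit hM in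
theorem inf_span_singleton_le {x : A} (hreg : IsSMulRegular (A ⧸ I) x) :
    I ⊓ Ideal.span {x} ≤ Ideal.span {x} * I := by
  rintro a ⟨haI, hax⟩
  obtain ⟨b, rfl⟩ := Ideal.mem_span_singleton'.1 hax
  have hb : b ∈ I := by
    rw [← Ideal.Quotient.eq_zero_iff_mem]
    apply hreg
    change x • Ideal.Quotient.mk I b = x • 0
    rw [smul_zero, ← Ideal.Quotient.eq_zero_iff_mem.2 haI]
    rw [Algebra.smul_def, Ideal.Quotient.algebraMap_eq, ← map_mul, mul_comm]
  exact Ideal.mem_span_singleton_mul.2 ⟨b, hb, mul_comm _ _⟩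

omit hM in
theorem ann_inf_span_singleton_le {x : A} (hreg : IsSMulRegular A x) :
    Submodule.annihilator I ⊓ Ideal.span {x} ≤ Ideal.span {x} * Submodule.annihilator I := by
  rintro a ⟨ha, hax⟩
  obtain ⟨b, rfl⟩ := Ideal.mem_span_singleton'.1 hax
  refine Ideal.mem_span_singleton_mul.2 ⟨b, ?_, mul_comm _ _⟩
  rw [Submodule.mem_annihilator]
  intro i hi
  apply hreg
  have := Submodule.mem_annihilator.1 ha i hi
  simp only [smul_eq_mul, mul_zero] at this ⊢
  linear_combination this

include hM in
theorem colon_span_singleton (hdim : ringKrullDim (A ⧸ I) = ringKrullDim A) {x : A}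
    (hreg : IsSMulRegular A x) :
    Submodule.colon (Ideal.span {x}) (I : Set A) = Submodule.annihilator I ⊔ Ideal.span {x} := by
  refine le_antisymm (fun a ha => ?_) (sup_le ?_ ?_)
  · have hmem : ∀ i : I, ∃ b, b * x = a * i := fun i =>
      Ideal.mem_span_singleton'.1 (Submodule.mem_colon.1 ha i i.2)
    choose b hb using hmem
    let φ : I →ₗ[A] A :=
      { toFun := b
        map_add' := fun i j => hreg (by
          simp only [smul_eq_mul, mul_add, mul_comm x, add_mul]
          rw [hb, hb, hb, Submodule.coe_add, mul_add])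
        map_smul' := fun r i => hreg (by
          simp only [smul_eq_mul, RingHom.id_apply, mul_comm x]
          rw [mul_assoc, hb, hb, Submodule.coe_smul, smul_eq_mul]
          ring) }
    obtain ⟨c, hc⟩ := extends_of_subsingleton_ext I (subsingleton_ext_one I hdim) φ
    refine Submodule.mem_sup.2 ⟨a - x * c, ?_, x * c, ?_, sub_add_cancel _ _⟩
    · rw [Submodule.mem_annihilator]
      intro i hi
      have h1 := hc ⟨i, hi⟩
      have h2 := hb ⟨i, hi⟩
      change b ⟨i, hi⟩ = _ at h1
      simp only [smul_eq_mul] at h1 h2 ⊢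
      linear_combination x * h1 - h2
    · exact Ideal.mem_span_singleton'.2 ⟨c, mul_comm _ _⟩
  · intro a ha
    refine Submodule.mem_colon.2 fun i hi => ?_
    rw [Submodule.mem_annihilator.1 ha i hi]
    exact zero_mem _
  · intro a ha
    exact Submodule.mem_colon.2 fun i _ => Ideal.mul_mem_right _ _ ha

omit hM in
/-- Lifting intersections from the quotient by one element. -/
theorem inf_sup_le {x : A} {K L : Ideal A}
    (h1 : K ⊓ Ideal.span {x} ≤ Ideal.span {x} * K)
    (h2 : K.map (Ideal.Quotient.mk (Ideal.span {x})) ⊓ L.map (Ideal.Quotient.mk (Ideal.span {x})) ≤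
      L.map (Ideal.Quotient.mk (Ideal.span {x})) * K.map (Ideal.Quotient.mk (Ideal.span {x}))) :
    K ⊓ (Ideal.span {x} ⊔ L) ≤ (Ideal.span {x} ⊔ L) * K := by
  intro a ha
  have haL : Ideal.Quotient.mk (Ideal.span {x}) a ∈ L.map (Ideal.Quotient.mk (Ideal.span {x})) := by
    have := Ideal.mem_map_of_mem (Ideal.Quotient.mk (Ideal.span {x})) ha.2
    rwa [Ideal.map_sup, Ideal.map_quotient_self, bot_sup_eq] at this
  have h3 := h2 ⟨Ideal.mem_map_of_mem _ ha.1, haL⟩
  rw [← Ideal.map_mul] at h3
  obtain ⟨b, hb, hab⟩ := (Ideal.mem_map_iff_of_surjective _ Ideal.Quotient.mk_surjective).1 h3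
  have hbK : b ∈ K := (Ideal.mul_le_right (I := L) (J := K)) hb
  have hsub : a - b ∈ K ⊓ Ideal.span {x} := ⟨K.sub_mem ha.1 hbK, Ideal.Quotient.eq.1 hab.symm⟩
  rw [Ideal.sup_mul, ← sub_add_cancel a b]
  exact Submodule.mem_sup.2 ⟨_, h1 hsub, b, hb, rfl⟩


theorem key : ∀ (n : ℕ) (A : Type u) [CommRing A] [IsGorensteinLocalRing A] (I : Ideal A)
    [IsCohenMacaulayLocalRing (A ⧸ I)] (xs : List A),
    xs.length = n → (∀ x ∈ xs, x ∈ maximalIdeal A) → IsWeaklyRegular A xs →
    ringKrullDim (A ⧸ I) = ringKrullDim A →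
    Submodule.colon (Ideal.ofList xs) (I : Set A) = Submodule.annihilator I ⊔ Ideal.ofList xs ∧
      Submodule.annihilator I ⊓ Ideal.ofList xs = Ideal.ofList xs * Submodule.annihilator I ∧
      I ⊓ Ideal.ofList xs = Ideal.ofList xs * I := by
  intro n
  induction n with
  | zero =>
    intro A _ _ I _ xs hl _ _ _
    obtain rfl := List.length_eq_zero_iff.1 hl
    refine ⟨?_, by simp, by simp⟩
    ext a
    simp [Submodule.mem_colon, Submodule.mem_annihilator]
  | succ n ih =>
    intro A _ _ I _ l hl hmem hreg hdim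
    obtain _ | ⟨x, xs⟩ := l
    · simp at hl
    simp only [List.length_cons, Nat.add_right_cancel_iff] at hl
    have hx : x ∈ maximalIdeal A := hmem x (by simp)
    obtain ⟨hxr, hrest⟩ := (isWeaklyRegular_cons_iff A x xs).1 hreg
    have hxI : IsSMulRegular (A ⧸ I) x := isSMulRegular_quotient I hdim hx hxr
    let X : Ideal A := Ideal.span {x}
    let q := A ⧸ X
    let π : A →+* q := Ideal.Quotient.mk X
    have := Lib.Goren.Basic.isLocalRing_quotient_span hx
    have hG : IsGorensteinLocalRing q :=
      (Lib.Goren.Basic.isGorensteinLocalRing_quotient_iff hx hxr).1 inferInstance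
    have hxI' : IsSMulRegular (A ⧸ I) (Ideal.Quotient.mk I x) := fun a b hab => by
      apply hxI
      simpa [Algebra.smul_def, Ideal.Quotient.algebraMap_eq] using hab
    have hxm : Ideal.Quotient.mk I x ∈ maximalIdeal (A ⧸ I) := by
      have : IsLocalHom (Ideal.Quotient.mk I) :=
        IsLocalHom.of_surjective _ Ideal.Quotient.mk_surjective
      exact map_nonunit _ x hx
    have := Lib.Goren.Basic.isLocalRing_quotient_span hxm
    have hCM := (Lib.Depth.CM.isCohenMacaulayLocalRing_quotient_span_singleton_iff hxm hxI').2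
      inferInstance
    let e : ((A ⧸ I) ⧸ Ideal.span {Ideal.Quotient.mk I x}) ≃+* (q ⧸ I.map π) :=
      ((Ideal.quotEquivOfEq (by rw [Ideal.map_span, Set.image_singleton])).trans
        (DoubleQuot.quotQuotEquivQuotSup I X)).trans
        ((Ideal.quotEquivOfEq (sup_comm _ _)).trans (DoubleQuot.quotQuotEquivQuotSup X I).symm)
    have hCM' : IsCohenMacaulayLocalRing (q ⧸ I.map π) :=
      Lib.Excellent.Transport.isCohenMacaulayLocalRing_of_ringEquiv e
    have hdim' : ringKrullDim (q ⧸ I.map π) = ringKrullDim q := by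
      have h5 := ringKrullDim_quotient_span_singleton_succ_eq_ringKrullDim_of_mem_jacobson hxr
        (by rwa [IsLocalRing.ringJacobson_eq_maximalIdeal])
      have h6 := ringKrullDim_quotient_span_singleton_succ_eq_ringKrullDim_of_mem_jacobson hxI'
        (by rwa [IsLocalRing.ringJacobson_eq_maximalIdeal])
      rw [hdim] at h6
      rw [← ringKrullDim_eq_of_ringEquiv e]
      obtain ⟨a, ha⟩ := Lib.Goren.LCI.exists_nat_dim A
      obtain ⟨b, hb⟩ := Lib.Goren.LCI.exists_nat_dim q
      obtain ⟨c, hc⟩ := Lib.Goren.LCI.exists_nat_dim ((A ⧸ I) ⧸ Ideal.span {Ideal.Quotient.mk I x})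
      rw [ha, hc] at h6
      rw [ha, show ringKrullDim (A ⧸ Ideal.span {x}) = b from hb] at h5
      rw [hc, hb]
      have h7 : b + 1 = a := by exact_mod_cast h5
      have h8 : c + 1 = a := by exact_mod_cast h6
      have : c = b := by omega
      rw [this]
    have hmem' : ∀ y ∈ xs.map π, y ∈ maximalIdeal q := by
      intro y hy
      obtain ⟨z, hz, rfl⟩ := List.mem_map.1 hy
      have : IsLocalHom π := IsLocalHom.of_surjective _ Ideal.Quotient.mk_surjective
      exact map_nonunit _ z (hmem z (List.mem_cons_of_mem _ hz))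
    have hreg' : IsWeaklyRegular q (xs.map π) := by
      have hX : (x • (⊤ : Submodule A A)) = X := Lib.LCFin.Gorenstein.quotSMulTop_eq x
      have h1 : IsWeaklyRegular q xs :=
        ((Submodule.quotEquivOfEq _ _ hX).isWeaklyRegular_congr xs).1 hrest
      exact (isWeaklyRegular_map_algebraMap_iff q q xs).2 h1
    obtain ⟨k1, k2, k3⟩ := ih q (I.map π) (xs.map π) (by simp [hl]) hmem' hreg' hdim'
    rw [← Ideal.map_ofList] at k1 k2 k3
    have hann : Submodule.annihilator (I.map π) = (Submodule.annihilator I).map π := by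
      refine le_antisymm (fun a ha => ?_) ?_
      · obtain ⟨a, rfl⟩ := Ideal.Quotient.mk_surjective a
        have : a ∈ Submodule.colon X (I : Set A) := Submodule.mem_colon.2 fun i hi => by
          rw [← Ideal.Quotient.eq_zero_iff_mem, smul_eq_mul, map_mul]
          exact Submodule.mem_annihilator.1 ha _ (Ideal.mem_map_of_mem _ hi)
        rw [colon_span_singleton I hdim hxr] at this
        have := Ideal.mem_map_of_mem π this
        rwa [Ideal.map_sup, Ideal.map_quotient_self, sup_bot_eq] at this
      · rw [Ideal.map_le_iff_le_comap]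
        intro a ha
        rw [Ideal.mem_comap, Submodule.mem_annihilator]
        intro y hy
        obtain ⟨i, hi, rfl⟩ :=
          (Ideal.mem_map_iff_of_surjective _ Ideal.Quotient.mk_surjective).1 hy
        rw [smul_eq_mul, ← map_mul, ← smul_eq_mul a i, Submodule.mem_annihilator.1 ha i hi, map_zero]
    rw [Ideal.ofList_cons]
    refine ⟨?_, le_antisymm ?_ ?_, le_antisymm ?_ ?_⟩
    · refine le_antisymm (fun a ha => ?_) (fun a ha => Submodule.mem_colon.2 fun i hi => ?_)
      · have h1 : π a ∈ Submodule.colon ((Ideal.ofList xs).map π) (I.map π : Set q) := by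
          refine Submodule.mem_colon.2 fun y hy => ?_
          obtain ⟨i, hi, rfl⟩ :=
            (Ideal.mem_map_iff_of_surjective _ Ideal.Quotient.mk_surjective).1 hy
          have := Ideal.mem_map_of_mem π (Submodule.mem_colon.1 ha i hi)
          rw [Ideal.map_sup, Ideal.map_quotient_self, bot_sup_eq, smul_eq_mul, map_mul] at this
          exact this
        rw [k1, hann, ← Ideal.map_sup] at h1
        have : a ∈ ((Submodule.annihilator I ⊔ Ideal.ofList xs).map π).comap π := h1
        rw [Ideal.comap_map_of_surjective _ Ideal.Quotient.mk_surjective, ← RingHom.ker_eq_comap_bot,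
          Ideal.mk_ker] at this
        rwa [sup_assoc, sup_comm (Ideal.ofList xs)] at this
      · obtain ⟨b, hb, c, hc, rfl⟩ := Submodule.mem_sup.1 ha
        rw [add_smul, Submodule.mem_annihilator.1 hb i hi, zero_add]
        exact Ideal.mul_mem_right _ _ hc
    · exact inf_sup_le (ann_inf_span_singleton_le I hxr) (by rw [← hann]; exact k2.le)
    · exact le_inf Ideal.mul_le_right Ideal.mul_le_left
    · exact inf_sup_le (inf_span_singleton_le I hxI) k3.le
    · exact le_inf Ideal.mul_le_right Ideal.mul_le_left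

/-- A cyclic module over a flat local algebra is flat if the relations are `Tor`-independent. -/
theorem flat_quotient_of_inf_eq {R A : Type u} [CommRing R] [IsNoetherianRing R] [IsLocalRing R]
    [CommRing A] [IsNoetherianRing A] [IsLocalRing A] [Algebra R A] [IsLocalHom (algebraMap R A)]
    [Module.Flat R A] (K : Ideal A)
    (h : K ⊓ (maximalIdeal R).map (algebraMap R A) = (maximalIdeal R).map (algebraMap R A) * K) :
    Module.Flat R (A ⧸ K) := by
  let m : Ideal R := maximalIdeal R
  let π : A →ₗ[R] A ⧸ K := (Submodule.mkQ K).restrictScalars R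
  have hπ : Function.Surjective π := Submodule.mkQ_surjective K
  let μ : A ⊗[R] m →ₗ[R] A := (TensorProduct.rid R A).toLinearMap ∘ₗ m.subtype.lTensor A
  have hμ : Function.Injective μ :=
    (TensorProduct.rid R A).injective.comp
      (Module.Flat.lTensor_preserves_injective_linearMap _ (Submodule.injective_subtype _))
  have hμt : ∀ (a : A) (r : m), μ (a ⊗ₜ r) = algebraMap R A r * a := fun a r => by
    simp [μ, Algebra.smul_def]
  let N : Submodule R (A ⊗[R] m) := LinearMap.ker (π.rTensor m)
  have himage : ∀ a ∈ m.map (algebraMap R A) * K, ∃ z ∈ N, μ z = a := by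
    intro a ha
    induction ha using Submodule.mul_induction_on' with
    | mem_mul_mem b hb c hc =>
      rw [Ideal.map] at hb
      induction hb using Submodule.span_induction generalizing c with
      | mem b hb =>
        obtain ⟨r, hr, rfl⟩ := hb
        refine ⟨c ⊗ₜ ⟨r, hr⟩, ?_, hμt _ _⟩
        rw [LinearMap.mem_ker, LinearMap.rTensor_tmul]
        rw [show π c = 0 from (Submodule.Quotient.mk_eq_zero K).2 hc, TensorProduct.zero_tmul]
      | zero => exact ⟨0, zero_mem _, by simp⟩
      | add b b' _ _ hb hb' =>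
        obtain ⟨z, hz, h1⟩ := hb c hc
        obtain ⟨z', hz', h2⟩ := hb' c hc
        exact ⟨z + z', add_mem hz hz', by rw [map_add, h1, h2, add_mul]⟩
      | smul s b _ hb =>
        obtain ⟨z, hz, h1⟩ := hb (s * c) (K.mul_mem_left s hc)
        exact ⟨z, hz, by rw [h1, smul_eq_mul]; ring⟩
    | add a _ b _ ha hb =>
      obtain ⟨z, hz, h1⟩ := ha
      obtain ⟨z', hz', h2⟩ := hb
      exact ⟨z + z', add_mem hz hz', by rw [map_add, h1, h2]⟩
  have hinj : Function.Injective (m.subtype.lTensor (A ⧸ K)) := by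
    rw [injective_iff_map_eq_zero]
    intro t ht
    obtain ⟨y, rfl⟩ := LinearMap.rTensor_surjective m hπ t
    have hy : π (μ y) = 0 := by
      have hcomm : (TensorProduct.rid R (A ⧸ K)).toLinearMap ∘ₗ m.subtype.lTensor (A ⧸ K) ∘ₗ
          π.rTensor m = π ∘ₗ μ :=
        TensorProduct.ext' fun a r => by
          simp only [LinearMap.comp_apply, LinearMap.rTensor_tmul, LinearMap.lTensor_tmul,
            LinearEquiv.coe_coe, TensorProduct.rid_tmul, μ, Submodule.coe_subtype, map_smul]
      have := LinearMap.congr_fun hcomm y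
      simp only [LinearMap.comp_apply] at this
      rw [← this, ht, map_zero]
    have hmem : μ y ∈ K ⊓ m.map (algebraMap R A) := by
      refine ⟨(Submodule.Quotient.mk_eq_zero K).1 hy, ?_⟩
      clear hy ht
      induction y using TensorProduct.induction_on with
      | zero => simp
      | tmul a r => rw [hμt]; exact Ideal.mul_mem_right _ _ (Ideal.mem_map_of_mem _ r.2)
      | add y y' hy hy' =>
        rw [map_add]
        exact add_mem hy hy'
    rw [h] at hmem
    obtain ⟨z, hz, hzy⟩ := himage _ hmem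
    rw [← hμ hzy]
    exact hz
  let := Ideal.Quotient.field m
  exact Lib.LocalFlat.Criterion.flat_of_injective_of_flat_quotient A m
    (Lib.LocalFlat.Criterion.map_le_jacobson_bot_of_isLocalHom (maximalIdeal.isMaximal R).ne_top)
    hinj

end Groth.Agent.H48.GorLink
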