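import Mathlib.NumberTheory.RamificationInertia.Galois
import Mathlib.RingTheory.Invariant.Galois
import Mathlib.RingTheory.IntegralDomain
import Mathlib.RingTheory.RootsOfUnity.Basic
import Mathlib.RingTheory.Filtration
import Mathlib.Dynamics.Newton
import Mathlib.Data.Nat.Factorization.Basic
import Mathlib.GroupTheory.PGroup
import Groth.Agent.H48.Hens

/-!
# Tame and wild inertia in a Galois extension of Dedekind domains with separable residue field
-/

open scoped Pointwise
open Polynomial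

namespace Groth.Agent.H48.Inertia

set_option linter.unusedSectionVars false

universe u v w

variable {A : Type u} {B : Type v} {G : Type w} [CommRing A] [CommRing B] [Algebra A B]
  [IsDedekindDomain B]
  [Group G] [MulSemiringAction G B] [SMulCommClass G A B]
  (m : Ideal B) [m.IsMaximal]

theorem smul_mem_pow {σ : G} (hσ : σ • m = m) {n : ℕ} {x : B} (hx : x ∈ m ^ n) :
    σ • x ∈ m ^ n := by
  have h : σ • (m ^ n) = (σ • m) ^ n := by
    simp only [Ideal.pointwise_smul_def, Ideal.map_pow]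
  rw [← hσ, ← h]
  exact Ideal.smul_mem_pointwise_smul σ x _ hx

theorem smul_eq_of_mem_inertia {σ : G} (hσ : σ ∈ m.inertia G) : σ • m = m :=
  Ideal.inertia_le_stabilizer m hσ

theorem mk_smul_eq {σ : G} (hσ : σ ∈ m.inertia G) (x : B) :
    Ideal.Quotient.mk m (σ • x) = Ideal.Quotient.mk m x :=
  Ideal.Quotient.eq.2 (hσ x)

variable {m} {π : B}

theorem sup_sq_eq (hπ : π ∈ m) (hπ2 : π ∉ m ^ 2) (hm : m ≠ ⊥) :
    m ^ 2 ⊔ Ideal.span {π} = m := by
  have := Ideal.span_singleton_eq_span_singleton (x := π) (y := π)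
  have h1 : m ^ 2 ⊔ Ideal.span {π} ≤ m := sup_le (Ideal.pow_le_self two_ne_zero) ((Ideal.span_singleton_le_iff_mem _).2 hπ)
  have h2 : m ∣ (m ^ 2 ⊔ Ideal.span {π}) := Ideal.dvd_iff_le.2 h1
  have h3 : (m ^ 2 ⊔ Ideal.span {π}) ∣ m ^ 2 := Ideal.dvd_iff_le.2 le_sup_left
  have hp : Prime m := Ideal.prime_of_isPrime hm inferInstance
  obtain ⟨i, hi, he⟩ := (dvd_prime_pow hp 2).1 h3
  rw [associated_iff_eq] at he
  rw [he] at h2 ⊢
  interval_cases i
  · simp only [pow_zero, Ideal.one_eq_top] at h2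
    exact absurd (top_le_iff.1 (Ideal.le_of_dvd h2)) (Ideal.IsMaximal.ne_top inferInstance)
  · exact pow_one m
  · exact absurd (he ▸ Ideal.mem_sup_right (Ideal.mem_span_singleton_self π)) hπ2

theorem exists_coef (hπ : π ∈ m) (hπ2 : π ∉ m ^ 2) (hm : m ≠ ⊥) {x : B} (hx : x ∈ m) :
    ∃ u : B, x - u * π ∈ m ^ 2 := by
  rw [← sup_sq_eq hπ hπ2 hm] at hx
  obtain ⟨t, ht, s, hs, rfl⟩ := Submodule.mem_sup.1 hx
  obtain ⟨u, rfl⟩ := Ideal.mem_span_singleton'.1 hs
  exact ⟨u, by simpa using ht⟩

theorem coef_mem (hπ : π ∈ m) (hπ2 : π ∉ m ^ 2) {u : B} (h : u * π ∈ m ^ 2) : u ∈ m := by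
  by_contra hu
  obtain ⟨v, w, hw, hvw⟩ := Ideal.IsMaximal.exists_inv (inferInstance : m.IsMaximal) hu
  apply hπ2
  have : π = v * (u * π) + w * π := by linear_combination -π * hvw
  rw [this, sq]
  refine add_mem ?_ (Ideal.mul_mem_mul hw hπ)
  rw [← sq]
  exact Ideal.mul_mem_left _ _ h

/-- With separable residue extension, inertia elements fixing a uniformizer mod `m²` act trivially
mod `m²`. -/
theorem smul_sub_mem_sq [Algebra.IsSeparable (A ⧸ m.comap (algebraMap A B)) (B ⧸ m)]
    (hπ : π ∈ m) (hπ2 : π ∉ m ^ 2) (hm : m ≠ ⊥) {σ : G} (hσ : σ ∈ m.inertia G)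
    (h : σ • π - π ∈ m ^ 2) (x : B) : σ • x - x ∈ m ^ 2 := by
  have hfix := smul_eq_of_mem_inertia m hσ
  have hm' : ∀ y ∈ m, σ • y - y ∈ m ^ 2 := by
    intro y hy
    obtain ⟨u, hu⟩ := exists_coef hπ hπ2 hm hy
    have : σ • y - y = (σ • (y - u * π) - (y - u * π)) + (σ • u * (σ • π - π) + (σ • u - u) * π) := by
      rw [smul_sub, smul_mul']; ring
    rw [this]
    refine add_mem (sub_mem (smul_mem_pow m hfix hu) hu) (add_mem (Ideal.mul_mem_left _ _ h) ?_)
    rw [sq]
    exact Ideal.mul_mem_mul (hσ u) hπ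
  set p := m.comap (algebraMap A B)
  obtain ⟨f₀, hf₀⟩ : ∃ f₀ : (A ⧸ p)[X], f₀.Separable ∧ aeval (Ideal.Quotient.mk m x) f₀ = 0 :=
    ⟨_, Algebra.IsSeparable.isSeparable (A ⧸ p) (Ideal.Quotient.mk m x), minpoly.aeval _ _⟩
  obtain ⟨f, rfl⟩ := Polynomial.map_surjective _ Ideal.Quotient.mk_surjective f₀
  have hev : ∀ g : A[X], aeval (Ideal.Quotient.mk m x) (g.map (Ideal.Quotient.mk p)) =
      Ideal.Quotient.mk m ((g.map (algebraMap A B)).eval x) := by
    intro g
    rw [aeval_def, eval₂_map, eval_map, Polynomial.hom_eval₂]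
    rfl
  have hf : (f.map (algebraMap A B)).eval x ∈ m := by
    rw [← Ideal.Quotient.eq_zero_iff_mem, ← hev]; exact hf₀.2
  have hf' : (f.map (algebraMap A B)).derivative.eval x ∉ m := by
    intro hmem
    rw [derivative_map, ← Ideal.Quotient.eq_zero_iff_mem, ← hev, ← derivative_map] at hmem
    have := hf₀.1
    obtain ⟨a, b, hab⟩ := this
    have h1 := congrArg (aeval (Ideal.Quotient.mk m x)) hab
    rw [map_add, map_mul, map_mul, hf₀.2, hmem] at h1
    simp at h1
  set F := f.map (algebraMap A B)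
  obtain ⟨c, hc⟩ := Hens.exists_eval_sub_eval F x (σ • x)
  have hσF : F.eval (σ • x) = σ • F.eval x := by
    rw [eval_map_algebraMap, eval_map_algebraMap]
    exact Polynomial.aeval_algHom_apply (MulSemiringAction.toAlgHom A B σ) x f
  rw [hσF] at hc
  have h2 : (σ • x - x) * (derivative F).eval x ∈ m ^ 2 := by
    have := sub_mem (hm' _ hf) (show (σ • x - x) * ((σ • x - x) * c) ∈ m ^ 2 by
      rw [sq]; exact Ideal.mul_mem_mul (hσ x) (Ideal.mul_mem_right _ _ (hσ x)))
    rw [hc] at this
    convert this using 1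
    ring
  obtain ⟨v, w, hw, hvw⟩ := Ideal.IsMaximal.exists_inv (inferInstance : m.IsMaximal) hf'
  have : σ • x - x = v * ((σ • x - x) * (derivative F).eval x) + (σ • x - x) * w := by
    linear_combination -(σ • x - x) * hvw
  rw [this]
  refine add_mem (Ideal.mul_mem_left _ _ h2) ?_
  rw [sq]; exact Ideal.mul_mem_mul (hσ x) hw

/-- An element acting trivially mod `m²` of order prime to the residue characteristic is trivial. -/
theorem eq_one_of_pow_eq_one [FaithfulSMul G B] {σ : G}
    (hσ : ∀ x : B, σ • x - x ∈ m ^ 2) {l : ℕ} (hl : σ ^ l = 1) (hlm : (l : B) ∉ m) : σ = 1 := by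
  have hinert : σ ∈ m.inertia G := fun x => Ideal.pow_le_self two_ne_zero (hσ x)
  have hfix := smul_eq_of_mem_inertia m hinert
  have key : ∀ n, ∀ x : B, σ • x - x ∈ m ^ (n + 2) := by
    intro n
    induction n with
    | zero => exact hσ
    | succ n ih =>
      have hδ : ∀ y ∈ m ^ (n + 2), σ • y - y ∈ m ^ (n + 3) := by
        intro y hy
        rw [show n + 2 = (n + 1) + 1 from rfl, pow_succ] at hy
        refine Submodule.mul_induction_on hy ?_ ?_
        · intro a ha b hb
          have : σ • (a * b) - a * b = (σ • a - a) * (σ • b) + a * (σ • b - b) := by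
            rw [smul_mul']; ring
          rw [this]
          refine add_mem ?_ (Ideal.pow_le_pow_right (show n + 3 ≤ n + 1 + (n + 2) by omega) ?_)
          · rw [show n + 3 = (n + 2) + 1 from rfl, pow_succ]
            refine Ideal.mul_mem_mul (ih a) ?_
            exact (hfix.le : σ • m ≤ m) (Ideal.smul_mem_pointwise_smul σ b m hb)
          · rw [pow_add]; exact Ideal.mul_mem_mul ha (ih b)
        · intro a b ha hb
          have : σ • (a + b) - (a + b) = (σ • a - a) + (σ • b - b) := by rw [smul_add]; ring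
          rw [this]; exact add_mem ha hb
      intro x
      have hj : ∀ j : ℕ, (σ ^ j) • x - x - j * (σ • x - x) ∈ m ^ (n + 3) := by
        intro j
        induction j with
        | zero => simp
        | succ j hj =>
          have hh := smul_mem_pow m hfix hj
          rw [smul_sub, smul_sub, smul_mul', smul_smul, ← pow_succ'] at hh
          have hnat : σ • (j : B) = (j : B) := map_natCast (MulSemiringAction.toRingHom G B σ) j
          rw [hnat] at hh
          have h1 := hδ _ (ih x)
          rw [smul_sub] at h1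
          have h2 := add_mem hh (Ideal.mul_mem_left (m ^ (n + 3)) (j : B) h1)
          have heq : (σ ^ (j + 1)) • x - x - ((j + 1 : ℕ) : B) * (σ • x - x) =
              (σ ^ (j + 1)) • x - σ • x - (j : B) * (σ • σ • x - σ • x) +
                (j : B) * (σ • σ • x - σ • x - (σ • x - x)) := by
            push_cast
            ring
          rw [heq]
          simp only [smul_sub] at h2
          exact h2
      have h0 := hj l
      rw [hl, one_smul, sub_self, zero_sub, neg_mem_iff] at h0
      exact (Ideal.IsPrime.mul_mem_pow m (n := n + 3) h0).resolve_left hlm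
  refine eq_of_smul_eq_smul (α := B) fun x => ?_
  rw [one_smul, ← sub_eq_zero, ← Ideal.mem_bot,
    ← Ideal.iInf_pow_eq_bot_of_isDomain m (Ideal.IsMaximal.ne_top inferInstance), Submodule.mem_iInf]
  intro i
  exact Ideal.pow_le_pow_right (Nat.le_add_right i 2) (key i x)

end Groth.Agent.H48.Inertia

namespace Groth.Agent.H48.Inertia

open scoped Pointwise

universe u' v' w'

variable {A : Type u'} {B : Type v'} {G : Type w'} [CommRing A] [CommRing B] [Algebra A B]
  [IsDedekindDomain B] [Group G] [MulSemiringAction G B] [SMulCommClass G A B]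
  {m : Ideal B} [m.IsMaximal] {π : B}

section character

variable (hπ : π ∈ m) (hπ2 : π ∉ m ^ 2) (hm : m ≠ ⊥)

/-- The leading coefficient character of inertia. -/
noncomputable def coef (σ : m.inertia G) : B :=
  (exists_coef hπ hπ2 hm (x := (σ : G) • π)
    (by simpa using m.add_mem (σ.2 π) hπ)).choose

theorem coef_spec (σ : m.inertia G) : (σ : G) • π - coef hπ hπ2 hm σ * π ∈ m ^ 2 :=
  (exists_coef hπ hπ2 hm (x := (σ : G) • π)
    (by simpa using m.add_mem (σ.2 π) hπ)).choose_spec

theorem mk_coef_eq {σ : m.inertia G} {u : B} (h : (σ : G) • π - u * π ∈ m ^ 2) :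
    Ideal.Quotient.mk m (coef hπ hπ2 hm σ) = Ideal.Quotient.mk m u := by
  refine Ideal.Quotient.eq.2 (coef_mem hπ hπ2 ?_)
  have := sub_mem h (coef_spec hπ hπ2 hm σ)
  have e : (coef hπ hπ2 hm σ - u) * π =
      ((σ : G) • π - u * π) - ((σ : G) • π - coef hπ hπ2 hm σ * π) := by ring
  rw [e]; exact this

/-- `σ ↦ σ π / π mod m` on inertia. -/
noncomputable def character : m.inertia G →* B ⧸ m where
  toFun σ := Ideal.Quotient.mk m (coef hπ hπ2 hm σ)
  map_one' := (mk_coef_eq hπ hπ2 hm (u := 1) (by simp)).trans (map_one _)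
  map_mul' σ τ := by
    rw [← map_mul]
    apply mk_coef_eq
    set a := coef hπ hπ2 hm σ
    set b := coef hπ hπ2 hm τ
    have h1 : (σ : G) • ((τ : G) • π - b * π) ∈ m ^ 2 :=
      smul_mem_pow m (smul_eq_of_mem_inertia m σ.2) (coef_spec hπ hπ2 hm τ)
    rw [smul_sub, smul_mul', smul_smul] at h1
    have h2 : ((σ : G) • b - b) * ((σ : G) • π) ∈ m ^ 2 := by
      rw [sq]; exact Ideal.mul_mem_mul (σ.2 b) (by simpa using m.add_mem (σ.2 π) hπ)
    have h3 := Ideal.mul_mem_left (m ^ 2) b (coef_spec hπ hπ2 hm σ)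
    have e : ((σ * τ : m.inertia G) : G) • π - a * b * π =
        (((σ : G) * (τ : G)) • π - (σ : G) • b * (σ : G) • π) + ((σ : G) • b - b) * ((σ : G) • π)
          + b * ((σ : G) • π - a * π) := by
      rw [Subgroup.coe_mul]; ring
    rw [e]
    exact add_mem (add_mem h1 h2) h3

theorem character_eq_one_iff (σ : m.inertia G) :
    character hπ hπ2 hm σ = 1 ↔ (σ : G) • π - π ∈ m ^ 2 := by
  constructor
  · intro h
    have h1 : coef hπ hπ2 hm σ - 1 ∈ m := Ideal.Quotient.eq.1 (h.trans (map_one _).symm)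
    have h2 := add_mem (coef_spec hπ hπ2 hm σ)
      (show (coef hπ hπ2 hm σ - 1) * π ∈ m ^ 2 by rw [sq]; exact Ideal.mul_mem_mul h1 hπ)
    convert h2 using 1
    ring
  · intro h
    exact (mk_coef_eq hπ hπ2 hm (u := 1) (by rwa [one_mul])).trans (map_one _)

end character

theorem exists_uniformizer (hm : m ≠ ⊥) : ∃ π : B, π ∈ m ∧ π ∉ m ^ 2 := by
  refine SetLike.exists_of_lt (lt_of_le_of_ne (Ideal.pow_le_self two_ne_zero) ?_)
  have := Ideal.pow_right_strictAnti m hm (Ideal.IsMaximal.ne_top inferInstance) one_lt_two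
  simp only [pow_one] at this
  exact this.ne

end Groth.Agent.H48.Inertia
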