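import Groth.Agent.Lib.Henselian.Pointed
import Mathlib.RingTheory.Etale.Basic

/-! `Lim A Ω` is formally étale over `A`. -/

universe u

open Groth.Agent.Lib.Henselian.Pointed

namespace Groth.Agent.H48.LimEtale

variable {A Ω : Type u} [CommRing A] [CommRing Ω] [Algebra A Ω]

theorem formallyEtale_lim : Algebra.FormallyEtale A (Lim A Ω) := by
  refine Algebra.FormallyEtale.iff_comp_bijective.mpr fun D _ _ J hJ => ⟨fun f g hfg => ?_, fun h => ?_⟩
  · refine AlgHom.ext fun x => ?_
    obtain ⟨i, y, rfl⟩ := Lim.exists_of x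
    exact AlgHom.congr_fun ((Algebra.FormallyEtale.comp_bijective A i.Loc J hJ).1
      (a₁ := f.comp (Lim.of i)) (a₂ := g.comp (Lim.of i))
      (AlgHom.ext fun z => AlgHom.congr_fun hfg (Lim.of i z))) y
  · choose l hl using fun i : Pt A Ω =>
      (Algebra.FormallyEtale.comp_bijective A i.Loc J hJ).2 (h.comp (Lim.of i))
    have hc : ∀ i j (hij : i ≤ j) (x : i.Loc), l j (Pt.trans hij x) = l i x := fun i j hij x => by
      refine AlgHom.congr_fun ((Algebra.FormallyEtale.comp_bijective A i.Loc J hJ).1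
        (a₁ := (l j).comp (Pt.trans hij)) (a₂ := l i) (AlgHom.ext fun z => ?_)) x
      refine (AlgHom.congr_fun (hl j) (Pt.trans hij z)).trans ?_
      rw [AlgHom.comp_apply, Lim.of_trans]
      exact (AlgHom.congr_fun (hl i) z).symm
    refine ⟨DirectLimit.Algebra.lift (fun i : Pt A Ω => i.Loc) (fun _ _ h => Pt.trans h) D l hc,
      AlgHom.ext fun x => ?_⟩
    obtain ⟨i, y, rfl⟩ := Lim.exists_of x
    exact AlgHom.congr_fun (hl i) y

end Groth.Agent.H48.LimEtale
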