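import Mathlib
import Groth.Prelude.Def_EtMil

/-!
# Modules over Milnor squares: basic lemmas
-/

universe u

open TensorProduct

namespace Groth.Agent.H48.Mil

section general

variable {R : Type u} [CommRing R] {S : Type u} [CommRing S] [Algebra R S]
variable {L : Type u} [AddCommGroup L] [Module R L]

/-- If `R → S` is surjective, every element of `S ⊗ L` is a `1 ⊗ l`. -/
theorem exists_one_tmul (hS : Function.Surjective (algebraMap R S)) (x : S ⊗[R] L) :
    ∃ l : L, (1 : S) ⊗ₜ[R] l = x :=
  TensorProduct.mk_surjective R L S hS x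

theorem one_tmul_algebraMap (r : R) (l : L) :
    ((1 : S) ⊗ₜ[R] (r • l) : S ⊗[R] L) = algebraMap R S r ⊗ₜ[R] l := by
  rw [← TensorProduct.smul_tmul, Algebra.smul_def, mul_one]

/-- If `R → S` is surjective with kernel `K`, then `1 ⊗ l = 0` iff `l ∈ K L`. -/
theorem one_tmul_eq_zero_iff (hS : Function.Surjective (algebraMap R S)) (l : L) :
    ((1 : S) ⊗ₜ[R] l : S ⊗[R] L) = 0 ↔
      l ∈ RingHom.ker (algebraMap R S) • (⊤ : Submodule R L) := by
  have hex : Function.Exact (Submodule.subtype (RingHom.ker (algebraMap R S) : Submodule R R))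
      (Algebra.linearMap R S) := LinearMap.exact_iff.mpr (by ext x; simp)
  have h := rTensor_exact L hex hS
  constructor
  · intro h0
    obtain ⟨w, hw⟩ := (h ((1 : R) ⊗ₜ[R] l)).mp (by simpa using h0)
    have : l = TensorProduct.lid R L
        ((Submodule.subtype (RingHom.ker (algebraMap R S) : Submodule R R)).rTensor L w) := by
      rw [hw]; simp
    rw [this]
    clear this hw
    induction w using TensorProduct.induction_on with
    | zero => simp
    | tmul a m => simpa using Submodule.smul_mem_smul a.2 Submodule.mem_top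
    | add x y hx hy => simpa only [map_add] using Submodule.add_mem _ hx hy
  · intro hl
    refine Submodule.smul_induction_on hl (fun r hr m _ => ?_) fun x y hx hy => ?_
    · rw [one_tmul_algebraMap, RingHom.mem_ker.mp hr, TensorProduct.zero_tmul]
    · rw [TensorProduct.tmul_add, hx, hy, add_zero]

/-- Injective maps of `S`-modules stay injective after `⊗_R L` if `S ⊗_R L` is flat over `S`. -/
theorem rTensor_injective_of_linear [Module.Flat S (S ⊗[R] L)] {M₁ M₂ : Type u}
    [AddCommGroup M₁] [Module R M₁] [Module S M₁] [IsScalarTower R S M₁]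
    [AddCommGroup M₂] [Module R M₂] [Module S M₂] [IsScalarTower R S M₂]
    (f : M₁ →ₗ[S] M₂) (hf : Function.Injective f) :
    Function.Injective ((f.restrictScalars R).rTensor L) := by
  let e₁ := AlgebraTensorModule.cancelBaseChange R S S M₁ L
  let e₂ := AlgebraTensorModule.cancelBaseChange R S S M₂ L
  have key : ∀ x, (f.restrictScalars R).rTensor L (e₁ x) =
      e₂ (f.rTensor (S ⊗[R] L) x) := by
    intro x
    induction x using TensorProduct.induction_on with
    | zero => simp
    | tmul m y =>
      induction y using TensorProduct.induction_on with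
      | zero => simp
      | tmul a l => simp [e₁, e₂]
      | add y z hy hz => simp only [TensorProduct.tmul_add, map_add] at hy hz ⊢; rw [hy, hz]
    | add x y hx hy => simp only [map_add, hx, hy]
  intro x y hxy
  obtain ⟨x, rfl⟩ := e₁.surjective x
  obtain ⟨y, rfl⟩ := e₁.surjective y
  rw [key, key] at hxy
  rw [Module.Flat.rTensor_preserves_injective_linearMap f hf (e₂.injective hxy)]

/-- A module killed by the kernel of the surjection `R → S` is its own base change. -/
theorem mk_one_bijective (hS : Function.Surjective (algebraMap R S))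
    (hL : ∀ r : R, algebraMap R S r = 0 → ∀ l : L, r • l = 0) :
    Function.Bijective (TensorProduct.mk R S L 1) := by
  refine ⟨(injective_iff_map_eq_zero _).mpr fun l hl => ?_, exists_one_tmul hS⟩
  refine Submodule.smul_induction_on ((one_tmul_eq_zero_iff hS l).mp hl)
    (fun r hr m _ => hL r (RingHom.mem_ker.mp hr) m) fun x y hx hy => ?_
  rw [hx, hy, add_zero]

/-- Injective maps between modules killed by the kernel of `R → S` stay injective after `⊗_R L`
if `S ⊗_R L` is flat over `S`. -/
theorem rTensor_injective_of_killed (hS : Function.Surjective (algebraMap R S))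
    [Module.Flat S (S ⊗[R] L)] {M₁ M₂ : Type u}
    [AddCommGroup M₁] [Module R M₁] [AddCommGroup M₂] [Module R M₂]
    (h₁ : ∀ r : R, algebraMap R S r = 0 → ∀ m : M₁, r • m = 0)
    (h₂ : ∀ r : R, algebraMap R S r = 0 → ∀ m : M₂, r • m = 0)
    (f : M₁ →ₗ[R] M₂) (hf : Function.Injective f) :
    Function.Injective (f.rTensor L) := by
  let e₁ := LinearEquiv.ofBijective (TensorProduct.mk R S M₁ 1) (mk_one_bijective hS h₁)
  let e₂ := LinearEquiv.ofBijective (TensorProduct.mk R S M₂ 1) (mk_one_bijective hS h₂)
  have hcomm : ((f.baseChange S).restrictScalars R).comp e₁.toLinearMap =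
      e₂.toLinearMap.comp f := by
    ext m; simp [e₁, e₂]
  have hfS : Function.Injective (f.baseChange S) := by
    intro x y hxy
    obtain ⟨x, rfl⟩ := e₁.surjective x
    obtain ⟨y, rfl⟩ := e₁.surjective y
    have hx := LinearMap.congr_fun hcomm x
    have hy := LinearMap.congr_fun hcomm y
    simp only [LinearMap.comp_apply, LinearMap.restrictScalars_apply, LinearEquiv.coe_coe] at hx hy
    rw [hx, hy] at hxy
    rw [hf (e₂.injective hxy)]
  have hinj := rTensor_injective_of_linear (R := R) (L := L) (f.baseChange S) hfS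
  intro x y hxy
  have h₁' := congrArg (fun g => g.rTensor L x) hcomm
  have h₂' := congrArg (fun g => g.rTensor L y) hcomm
  simp only [LinearMap.rTensor_comp, LinearMap.comp_apply] at h₁' h₂'
  refine (e₁.rTensor L).injective (hinj ?_)
  exact h₁'.trans ((congrArg _ hxy).trans h₂'.symm)

end general

variable {B' B A' A : Type u} [CommRing B'] [CommRing B] [CommRing A'] [CommRing A]
  [Algebra B' B] [Algebra B' A'] [Algebra B A] [Algebra A' A] [Algebra B' A]
  [IsScalarTower B' B A] [IsScalarTower B' A' A]

section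
variable (hsq : EtMil.IsFibreSquare B' B A' A)
include hsq

theorem surjective_left : Function.Surjective (algebraMap B' B) := fun b => by
  obtain ⟨a, ha⟩ := hsq.1 (algebraMap B A b)
  obtain ⟨c, ⟨hc, -⟩, -⟩ := hsq.2 b a ha.symm
  exact ⟨c, hc⟩

theorem ext_square {x y : B'} (h₁ : algebraMap B' B x = algebraMap B' B y)
    (h₂ : algebraMap B' A' x = algebraMap B' A' y) : x = y := by
  obtain ⟨c, -, hu⟩ := hsq.2 (algebraMap B' B x) (algebraMap B' A' x)
    (by rw [← IsScalarTower.algebraMap_apply, ← IsScalarTower.algebraMap_apply])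
  rw [hu x ⟨rfl, rfl⟩, hu y ⟨h₁.symm, h₂.symm⟩]

theorem exists_of_mem_ker {a : A'} (ha : algebraMap A' A a = 0) :
    ∃ j : B', algebraMap B' B j = 0 ∧ algebraMap B' A' j = a := by
  obtain ⟨j, hj, -⟩ := hsq.2 0 a (by rw [map_zero, ha])
  exact ⟨j, hj⟩

theorem exists_mu (j : B') (hj : algebraMap B' B j = 0) :
    ∃ μ : A' →ₗ[B'] B', μ 1 = j ∧ ∀ a, algebraMap B' B (μ a) = 0 ∧
      algebraMap B' A' (μ a) = algebraMap B' A' j * a := by
  have h0 : ∀ a : A', algebraMap A' A (algebraMap B' A' j * a) = 0 := fun a => by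
    rw [map_mul, ← IsScalarTower.algebraMap_apply, IsScalarTower.algebraMap_apply B' B A, hj,
      map_zero, zero_mul]
  choose f hf₁ hf₂ using fun a => exists_of_mem_ker hsq (h0 a)
  refine ⟨{ toFun := f, map_add' := ?_, map_smul' := ?_ }, ?_, fun a => ⟨hf₁ a, hf₂ a⟩⟩
  · intro a b
    exact ext_square hsq (by simp [hf₁]) (by simp [hf₂, mul_add])
  · intro c a
    exact ext_square hsq (by simp [hf₁])
      (by simp [hf₂, Algebra.smul_def]; ring)
  · exact ext_square hsq (by simp [hf₁, hj]) (by simp [hf₂])

variable {L : Type u} [AddCommGroup L] [Module B' L]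

theorem ker_smul_eq_zero {l : L} (h : ((1 : A') ⊗ₜ[B'] l : A' ⊗[B'] L) = 0) (j : B')
    (hj : algebraMap B' B j = 0) : j • l = 0 := by
  obtain ⟨μ, hμ, -⟩ := exists_mu hsq j hj
  have := congrArg (fun z => TensorProduct.lid B' L (μ.rTensor L z)) h
  simpa [hμ] using this

theorem eq_zero_of_kernels (h : RingHom.ker (algebraMap B' B) • (⊤ : Submodule B' L) = ⊤)
    (h' : ∀ l : L, ((1 : A') ⊗ₜ[B'] l : A' ⊗[B'] L) = 0) (l : L) : l = 0 := by
  refine Submodule.smul_induction_on (h.ge (Submodule.mem_top (x := l)))
    (fun r hr m _ => ker_smul_eq_zero hsq (h' m) r (RingHom.mem_ker.mp hr)) fun x y hx hy => ?_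
  rw [hx, hy, add_zero]

variable (L) in
theorem subsingleton_of_baseChange [Subsingleton (B ⊗[B'] L)] [Subsingleton (A' ⊗[B'] L)] :
    Subsingleton L := by
  refine subsingleton_of_forall_eq 0 fun l => eq_zero_of_kernels hsq
    (eq_top_iff.mpr fun m _ =>
      (one_tmul_eq_zero_iff (surjective_left hsq) m).mp (Subsingleton.elim _ _))
    (fun m => Subsingleton.elim _ _) l

variable (L) in
theorem finite_of_baseChange [Module.Finite B (B ⊗[B'] L)] [Module.Finite A' (A' ⊗[B'] L)] :
    Module.Finite B' L := by
  classical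
  have hspan : ∀ (S : Type u) [CommRing S] [Algebra B' S] [Module.Finite S (S ⊗[B'] L)],
      ∃ T : Finset L, Submodule.span S ((fun l => (1 : S) ⊗ₜ[B'] l) '' (T : Set L)) = ⊤ := by
    intro S _ _ _
    have htop : Submodule.span S (Set.range fun l : L => (1 : S) ⊗ₜ[B'] l) = ⊤ := by
      rw [eq_top_iff]
      rintro z -
      induction z using TensorProduct.induction_on with
      | zero => simp
      | tmul a l =>
        have : a ⊗ₜ[B'] l = a • ((1 : S) ⊗ₜ[B'] l) := by simp [TensorProduct.smul_tmul']
        rw [this]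
        exact Submodule.smul_mem _ _ (Submodule.subset_span ⟨l, rfl⟩)
      | add x y hx hy => exact Submodule.add_mem _ hx hy
    obtain ⟨T, hT, hT'⟩ := (Submodule.fg_span_iff_fg_span_finset_subset _).mp
      (htop ▸ Module.Finite.fg_top)
    choose g hg using fun t : (T : Set (S ⊗[B'] L)) => hT t.2
    refine ⟨Finset.univ.image g, eq_top_iff.mpr (htop.ge.trans (hT'.le.trans
      (Submodule.span_mono fun t ht => ?_)))⟩
    exact ⟨g ⟨t, ht⟩, by simp, hg ⟨t, ht⟩⟩
  obtain ⟨T₁, hT₁⟩ := hspan B
  obtain ⟨T₂, hT₂⟩ := hspan A'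
  let N : Submodule B' L := Submodule.span B' ((T₁ ∪ T₂ : Finset L) : Set L)
  have hsub : ∀ (S : Type u) [CommRing S] [Algebra B' S] (T : Finset L),
      (T : Set L) ⊆ N → Submodule.span S ((fun l => (1 : S) ⊗ₜ[B'] l) '' (T : Set L)) = ⊤ →
      Subsingleton (S ⊗[B'] (L ⧸ N)) := by
    intro S _ _ T hTN hT
    refine subsingleton_of_forall_eq 0 fun z => ?_
    obtain ⟨w, rfl⟩ := LinearMap.baseChange_surjective (A := S) N.mkQ_surjective z
    have : Submodule.span S ((fun l => (1 : S) ⊗ₜ[B'] l) '' (T : Set L)) ≤
        LinearMap.ker (N.mkQ.baseChange S) := by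
      rw [Submodule.span_le]
      rintro _ ⟨l, hl, rfl⟩
      simp [(Submodule.Quotient.mk_eq_zero N).mpr (hTN hl)]
    exact this (hT.ge (Submodule.mem_top (x := w)))
  have h₁ := hsub B T₁ (fun t ht => Submodule.subset_span (by simp [Finset.mem_coe.mp ht])) hT₁
  have h₂ := hsub A' T₂ (fun t ht => Submodule.subset_span (by simp [Finset.mem_coe.mp ht])) hT₂
  have := subsingleton_of_baseChange hsq (L ⧸ N)
  refine ⟨T₁ ∪ T₂, eq_top_iff.mpr fun l _ => ?_⟩
  exact (Submodule.Quotient.mk_eq_zero N).mp (Subsingleton.elim _ _)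

variable (L) in
theorem exists_of_baseChange_eq (x : B ⊗[B'] L) (y : A' ⊗[B'] L)
    (hxy : (IsScalarTower.toAlgHom B' B A).toLinearMap.rTensor L x =
      (IsScalarTower.toAlgHom B' A' A).toLinearMap.rTensor L y) :
    ∃ l : L, (1 : B) ⊗ₜ[B'] l = x ∧ (1 : A') ⊗ₜ[B'] l = y := by
  obtain ⟨l, rfl⟩ := exists_one_tmul (surjective_left hsq) x
  let g := (IsScalarTower.toAlgHom B' A' A).toLinearMap
  have h0 : g.rTensor L (y - (1 : A') ⊗ₜ[B'] l) = 0 := by
    rw [map_sub, ← hxy]; simp [g]
  obtain ⟨w, hw⟩ := (rTensor_exact L g.exact_subtype_ker_map hsq.1 _).mp h0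
  have : ∃ d : L, (1 : B) ⊗ₜ[B'] d = (0 : B ⊗[B'] L) ∧
      (1 : A') ⊗ₜ[B'] d = (LinearMap.ker g).subtype.rTensor L w := by
    clear hw h0 hxy
    induction w using TensorProduct.induction_on with
    | zero => exact ⟨0, by simp⟩
    | tmul a m =>
      obtain ⟨j, hj, hja⟩ := exists_of_mem_ker hsq (a := (a : A')) a.2
      exact ⟨j • m, by rw [one_tmul_algebraMap, hj, TensorProduct.zero_tmul],
        by rw [one_tmul_algebraMap, hja]; simp⟩
    | add u v hu hv =>
      obtain ⟨d, hd₁, hd₂⟩ := hu
      obtain ⟨e, he₁, he₂⟩ := hv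
      exact ⟨d + e, by rw [TensorProduct.tmul_add, hd₁, he₁, add_zero],
        by rw [TensorProduct.tmul_add, hd₂, he₂, map_add]⟩
  obtain ⟨d, hd₁, hd₂⟩ := this
  exact ⟨l + d, by rw [TensorProduct.tmul_add, hd₁, add_zero],
    by rw [TensorProduct.tmul_add, hd₂, hw]; abel⟩

theorem ker_mul_span_le (N : Submodule B' A') {x : A'}
    (hx : x ∈ RingHom.ker (algebraMap A' A) * Ideal.span (N : Set A')) : x ∈ N := by
  have key : ∀ n ∈ Ideal.span (N : Set A'), ∀ i ∈ RingHom.ker (algebraMap A' A), i * n ∈ N := by
    intro n hn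
    induction hn using Submodule.span_induction with
    | mem n hn =>
      intro i hi
      obtain ⟨j, -, rfl⟩ := exists_of_mem_ker hsq (RingHom.mem_ker.mp hi)
      rw [← Algebra.smul_def]
      exact N.smul_mem j hn
    | zero => intro i _; simp
    | add a b _ _ ha hb => intro i hi; rw [mul_add]; exact N.add_mem (ha i hi) (hb i hi)
    | smul c n _ ih =>
      intro i hi
      rw [smul_eq_mul, ← mul_assoc]
      exact ih (i * c) (Ideal.mul_mem_right c _ hi)
  exact Submodule.mul_induction_on (M := (RingHom.ker (algebraMap A' A) : Submodule A' A'))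
    hx (fun i hi n hn => key n hn i hi) fun a b ha hb => N.add_mem ha hb

variable (L) in
theorem flat_of_baseChange [Module.Flat B (B ⊗[B'] L)] [Module.Flat A' (A' ⊗[B'] L)] :
    Module.Flat B' L := by
  have hB := surjective_left hsq
  -- submodules of `A'` inside the kernel of `A' → A`
  have claim : ∀ N : Submodule B' A', (∀ n ∈ N, algebraMap A' A n = 0) →
      Function.Injective (N.subtype.rTensor L) := by
    intro N hN
    let N' : Ideal A' := Ideal.span (N : Set A')
    let P : Ideal A' := RingHom.ker (algebraMap A' A) * N'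
    have hN' : N' ≤ RingHom.ker (algebraMap A' A) := Ideal.span_le.mpr hN
    have hP : P.restrictScalars B' ≤ N := fun x hx => ker_mul_span_le hsq N hx
    have hNN' : N ≤ N'.restrictScalars B' := fun n hn => Ideal.subset_span hn
    -- the three inclusions
    let f : P.restrictScalars B' →ₗ[B'] N := Submodule.inclusion hP
    let g : N →ₗ[B'] N'.restrictScalars B' := Submodule.inclusion hNN'
    have hi₁ : Function.Injective
        ((P.restrictScalars B').subtype.rTensor L) :=
      rTensor_injective_of_linear (R := B') (L := L) P.subtype Subtype.val_injective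
    have hi₂ : Function.Injective
        ((N'.restrictScalars B').subtype.rTensor L) :=
      rTensor_injective_of_linear (R := B') (L := L) N'.subtype Subtype.val_injective
    let gbar : (N ⧸ LinearMap.range f) →ₗ[B']
        (N'.restrictScalars B' ⧸ LinearMap.range (g.comp f)) :=
      Submodule.mapQ _ _ g (by rw [← Submodule.map_le_iff_le_comap, LinearMap.range_comp])
    have hgbar : Function.Injective gbar := by
      rw [injective_iff_map_eq_zero]
      intro z hz
      obtain ⟨z, rfl⟩ := Submodule.mkQ_surjective _ z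
      rw [Submodule.mkQ_apply, Submodule.mapQ_apply, Submodule.Quotient.mk_eq_zero] at hz
      rw [Submodule.mkQ_apply, Submodule.Quotient.mk_eq_zero]
      obtain ⟨p, hp⟩ := hz
      exact ⟨p, Submodule.inclusion_injective hNN' hp⟩
    have hk : ∀ (r : B'), algebraMap B' B r = 0 → ∀ n : N'.restrictScalars B',
        r • n ∈ LinearMap.range (g.comp f) := by
      intro r hr n
      have : algebraMap B' A' r * (n : A') ∈ P := Ideal.mul_mem_mul (by
        rw [RingHom.mem_ker, ← IsScalarTower.algebraMap_apply,
          IsScalarTower.algebraMap_apply B' B A, hr, map_zero]) n.2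
      exact ⟨⟨_, this⟩, Subtype.ext (Algebra.smul_def r (n : A')).symm⟩
    have hgL : Function.Injective (gbar.rTensor L) := by
      refine rTensor_injective_of_killed hB (fun r hr m => hgbar ?_) (fun r hr m => ?_) gbar hgbar
      · obtain ⟨m, rfl⟩ := Submodule.mkQ_surjective _ m
        rw [map_smul, map_zero, Submodule.mkQ_apply, Submodule.mapQ_apply,
          ← Submodule.Quotient.mk_smul, Submodule.Quotient.mk_eq_zero]
        exact hk r hr _
      · obtain ⟨m, rfl⟩ := Submodule.mkQ_surjective _ m
        rw [Submodule.mkQ_apply, ← Submodule.Quotient.mk_smul, Submodule.Quotient.mk_eq_zero]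
        exact hk r hr _
    rw [injective_iff_map_eq_zero]
    intro x hx
    have hgx : g.rTensor L x = 0 := hi₂ (by
      rw [map_zero, ← LinearMap.comp_apply, ← LinearMap.rTensor_comp]; exact hx)
    have hqx : (LinearMap.range f).mkQ.rTensor L x = 0 := hgL (by
      rw [map_zero, ← LinearMap.comp_apply, ← LinearMap.rTensor_comp, Submodule.mapQ_mkQ,
        LinearMap.rTensor_comp, LinearMap.comp_apply, hgx, map_zero])
    obtain ⟨y, rfl⟩ := (rTensor_exact L (LinearMap.exact_map_mkQ_range f)
      (Submodule.mkQ_surjective _) x).mp hqx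
    have hy : y = 0 := hi₁ (by
      rw [map_zero]
      rw [← LinearMap.comp_apply, ← LinearMap.rTensor_comp] at hx
      exact hx)
    rw [hy, map_zero]
  rw [Module.Flat.iff_rTensor_injective']
  intro 𝔞
  let J : Ideal B' := RingHom.ker (algebraMap B' B)
  let p : 𝔞 →ₗ[B'] B := (Algebra.linearMap B' B).comp 𝔞.subtype
  let q : LinearMap.ker p →ₗ[B'] A' :=
    (Algebra.linearMap B' A').comp (𝔞.subtype.comp (LinearMap.ker p).subtype)
  rw [injective_iff_map_eq_zero]
  intro x hx
  have hpi : Function.Injective ((LinearMap.range p).subtype.rTensor L) :=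
    rTensor_injective_of_killed hB (fun r hr m => Subtype.ext (by simp [Algebra.smul_def, hr]))
      (fun r hr m => by simp [Algebra.smul_def, hr]) _ Subtype.val_injective
  have hpx : p.rangeRestrict.rTensor L x = 0 := hpi (by
    rw [map_zero, ← LinearMap.comp_apply, ← LinearMap.rTensor_comp, show (LinearMap.range p).subtype.comp p.rangeRestrict = p from LinearMap.ext fun _ => rfl,
      LinearMap.rTensor_comp, LinearMap.comp_apply, hx, map_zero])
  have hex : Function.Exact (LinearMap.ker p).subtype p.rangeRestrict :=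
    LinearMap.exact_iff.mpr (by rw [LinearMap.ker_rangeRestrict, Submodule.range_subtype])
  obtain ⟨y, rfl⟩ := (rTensor_exact L hex p.surjective_rangeRestrict x).mp hpx
  have hq : Function.Injective q := by
    intro a b hab
    refine Subtype.ext (Subtype.ext (ext_square hsq ?_ hab))
    exact (LinearMap.mem_ker.mp a.2).trans (LinearMap.mem_ker.mp b.2).symm
  let Q := LinearMap.range q
  have hQ : ∀ n ∈ Q, algebraMap A' A n = 0 := by
    rintro _ ⟨a, rfl⟩
    have h := LinearMap.mem_ker.mp a.2
    simp only [p, LinearMap.comp_apply, Algebra.linearMap_apply] at h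
    simp only [q, LinearMap.comp_apply, Algebra.linearMap_apply, Submodule.subtype_apply]
    rw [← IsScalarTower.algebraMap_apply, IsScalarTower.algebraMap_apply B' B A]
    simp only [Submodule.subtype_apply] at h
    rw [h, map_zero]
  have hqy : Q.subtype.rTensor L ((LinearEquiv.ofInjective q hq).toLinearMap.rTensor L y) = 0 := by
    rw [← LinearMap.comp_apply, ← LinearMap.rTensor_comp,
      show Q.subtype.comp (LinearEquiv.ofInjective q hq).toLinearMap = q from
        LinearMap.ext fun _ => rfl,
      LinearMap.rTensor_comp, LinearMap.comp_apply, LinearMap.rTensor_comp, LinearMap.comp_apply,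
      hx, map_zero]
  have : (LinearEquiv.ofInjective q hq).toLinearMap.rTensor L y = 0 :=
    claim Q hQ (hqy.trans (map_zero (Q.subtype.rTensor L)).symm)
  have hy : y = 0 :=
    ((LinearEquiv.ofInjective q hq).rTensor L).injective
      (this.trans (map_zero ((LinearEquiv.ofInjective q hq).rTensor L)).symm)
  rw [hy, map_zero]

end

end Groth.Agent.H48.Mil
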