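import Groth.Agent.H48.Mil

/-!
# Glued modules over Milnor squares
-/

universe u

open TensorProduct

namespace Groth.Agent.H48.Mil

variable {B' B A' A : Type u} [CommRing B'] [CommRing B] [CommRing A'] [CommRing A]
  [Algebra B' B] [Algebra B' A'] [Algebra B A] [Algebra A' A] [Algebra B' A]
  [IsScalarTower B' B A] [IsScalarTower B' A' A]
variable {N M' : Type u} [AddCommGroup N] [Module B N] [Module B' N] [IsScalarTower B' B N]
  [AddCommGroup M'] [Module A' M'] [Module B' M'] [IsScalarTower B' A' M']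

theorem mem_glue {φ : A ⊗[B] N ≃ₗ[A] A ⊗[A'] M'} {x : N × M'} :
    x ∈ EtMil.glue B' φ ↔ φ ((1 : A) ⊗ₜ[B] x.1) = (1 : A) ⊗ₜ[A'] x.2 := Iff.rfl

/-- `(0, i • k)` is glued when `i ↦ 0` in `A`. -/
theorem zero_smul_mem_glue (φ : A ⊗[B] N ≃ₗ[A] A ⊗[A'] M') {i : A'} (hi : algebraMap A' A i = 0)
    (k : M') : ((0, i • k) : N × M') ∈ EtMil.glue B' φ := by
  rw [mem_glue, TensorProduct.tmul_zero, map_zero, one_tmul_algebraMap, hi,
    TensorProduct.zero_tmul]

section
variable (hsurj : Function.Surjective (algebraMap A' A)) (φ : A ⊗[B] N ≃ₗ[A] A ⊗[A'] M')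
include hsurj

theorem span_glueSnd_eq_top_of_surjective :
    Submodule.span A' (Set.range (EtMil.glueSnd B' φ)) = ⊤ := by
  rw [eq_top_iff]
  rintro m -
  set S := Submodule.span A' (Set.range (EtMil.glueSnd B' φ))
  have hz : ∀ z : A ⊗[B] N, ∃ m₀ ∈ S, φ z = (1 : A) ⊗ₜ[A'] m₀ := by
    intro z
    induction z using TensorProduct.induction_on with
    | zero => exact ⟨0, S.zero_mem, by simp⟩
    | tmul a n =>
      obtain ⟨a, rfl⟩ := hsurj a
      obtain ⟨m₁, hm₁⟩ := exists_one_tmul hsurj (φ ((1 : A) ⊗ₜ[B] n))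
      refine ⟨a • m₁, S.smul_mem a (Submodule.subset_span ⟨⟨(n, m₁), hm₁.symm⟩, rfl⟩), ?_⟩
      rw [show algebraMap A' A a ⊗ₜ[B] n = algebraMap A' A a • ((1 : A) ⊗ₜ[B] n) by
        rw [TensorProduct.smul_tmul', smul_eq_mul, mul_one], map_smul, ← hm₁,
        TensorProduct.smul_tmul', smul_eq_mul, mul_one, one_tmul_algebraMap]
    | add x y hx hy =>
      obtain ⟨a, ha, ha'⟩ := hx
      obtain ⟨b, hb, hb'⟩ := hy
      exact ⟨a + b, S.add_mem ha hb, by rw [map_add, ha', hb', TensorProduct.tmul_add]⟩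
  obtain ⟨m₀, hm₀, h₀⟩ := hz (φ.symm ((1 : A) ⊗ₜ[A'] m))
  rw [φ.apply_symm_apply] at h₀
  have h₁ : m - m₀ ∈ RingHom.ker (algebraMap A' A) • (⊤ : Submodule A' M') :=
    (one_tmul_eq_zero_iff hsurj _).mp (by rw [TensorProduct.tmul_sub, h₀, sub_self])
  have h₂ : m - m₀ ∈ S := Submodule.smul_induction_on h₁
    (fun i hi k _ => Submodule.subset_span
      ⟨⟨(0, i • k), zero_smul_mem_glue φ (RingHom.mem_ker.mp hi) k⟩, rfl⟩)
    fun x y hx hy => S.add_mem hx hy
  simpa using S.add_mem h₂ hm₀

theorem glueFst_surjective_of_surjective : Function.Surjective (EtMil.glueFst B' φ) := fun n => by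
  obtain ⟨m, hm⟩ := exists_one_tmul hsurj (φ ((1 : A) ⊗ₜ[B] n))
  exact ⟨⟨(n, m), hm.symm⟩, rfl⟩

end

section
variable (hsq : EtMil.IsFibreSquare B' B A' A) (φ : A ⊗[B] N ≃ₗ[A] A ⊗[A'] M')
include hsq

theorem span_glueSnd_eq_top :
    Submodule.span A' (Set.range (EtMil.glueSnd B' φ)) = ⊤ :=
  span_glueSnd_eq_top_of_surjective hsq.1 φ

theorem glueFst_surjective : Function.Surjective (EtMil.glueFst B' φ) :=
  glueFst_surjective_of_surjective hsq.1 φ

theorem mem_ker_smul_of_fst_eq_zero (z : EtMil.glue B' φ) (hz : (z : N × M').1 = 0) :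
    z ∈ RingHom.ker (algebraMap B' B) • (⊤ : Submodule B' (EtMil.glue B' φ)) := by
  set D := RingHom.ker (algebraMap B' B) • (⊤ : Submodule B' (EtMil.glue B' φ))
  have h₀ : ((1 : A) ⊗ₜ[A'] (z : N × M').2 : A ⊗[A'] M') = 0 := by
    rw [← mem_glue.mp z.2, hz, TensorProduct.tmul_zero, map_zero]
  have key : ∀ k ∈ Submodule.span A' (Set.range (EtMil.glueSnd B' φ)),
      ∀ i : A', algebraMap A' A i = 0 → ∃ d ∈ D, (d : N × M') = (0, i • k) := by
    intro k hk
    induction hk using Submodule.span_induction with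
    | mem k hk =>
      obtain ⟨w, rfl⟩ := hk
      intro i hi
      obtain ⟨j, hj, rfl⟩ := exists_of_mem_ker hsq hi
      refine ⟨j • w, Submodule.smul_mem_smul (RingHom.mem_ker.mpr hj) Submodule.mem_top, ?_⟩
      refine Prod.ext ?_ ?_
      · change j • (w : N × M').1 = 0
        rw [← IsScalarTower.algebraMap_smul B j (w : N × M').1, hj, zero_smul]
      · change j • (w : N × M').2 = algebraMap B' A' j • (w : N × M').2
        rw [IsScalarTower.algebraMap_smul]
    | zero => intro i _; exact ⟨0, D.zero_mem, by simp; rfl⟩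
    | add a b _ _ ha hb =>
      intro i hi
      obtain ⟨d, hd, hd'⟩ := ha i hi
      obtain ⟨e, he, he'⟩ := hb i hi
      exact ⟨d + e, D.add_mem hd he, by rw [Submodule.coe_add, hd', he', smul_add]; simp⟩
    | smul c k _ ih =>
      intro i hi
      obtain ⟨d, hd, hd'⟩ := ih (i * c) (by rw [map_mul, hi, zero_mul])
      exact ⟨d, hd, by rw [hd', mul_smul]⟩
  have : ∃ d ∈ D, (d : N × M') = (0, (z : N × M').2) := by
    refine Submodule.smul_induction_on ((one_tmul_eq_zero_iff hsq.1 _).mp h₀)
      (fun i hi k _ => key k ((span_glueSnd_eq_top hsq φ).ge Submodule.mem_top) i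
        (RingHom.mem_ker.mp hi)) ?_
    rintro a b ⟨d, hd, hd'⟩ ⟨e, he, he'⟩
    exact ⟨d + e, D.add_mem hd he, by rw [Submodule.coe_add, hd', he']; simp⟩
  obtain ⟨d, hd, hd'⟩ := this
  have : d = z := Subtype.ext (by rw [hd', ← hz])
  rwa [← this]

theorem bijective_glueFst :
    Function.Bijective (LinearMap.liftBaseChange B (EtMil.glueFst B' φ)) := by
  refine ⟨(injective_iff_map_eq_zero _).mpr fun x hx => ?_, fun n => ?_⟩
  · obtain ⟨z, rfl⟩ := exists_one_tmul (surjective_left hsq) x
    rw [LinearMap.liftBaseChange_one_tmul] at hx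
    exact (one_tmul_eq_zero_iff (surjective_left hsq) z).mpr
      (mem_ker_smul_of_fst_eq_zero hsq φ z hx)
  · obtain ⟨z, rfl⟩ := glueFst_surjective hsq φ n
    exact ⟨(1 : B) ⊗ₜ z, LinearMap.liftBaseChange_one_tmul ..⟩

theorem bijective_glueSnd :
    Function.Bijective (LinearMap.liftBaseChange A' (EtMil.glueSnd B' φ)) := by
  refine ⟨(injective_iff_map_eq_zero _).mpr fun x hx => ?_, fun m => ?_⟩
  · let G := EtMil.glue B' φ
    let e : B ⊗[B'] G ≃ₗ[B] N := LinearEquiv.ofBijective _ (bijective_glueFst hsq φ)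
    let Ψ : A ⊗[B'] G ≃ₗ[A] A ⊗[B] N :=
      (AlgebraTensorModule.cancelBaseChange B' B A A G).symm ≪≫ₗ
        AlgebraTensorModule.congr (LinearEquiv.refl A A) e
    let g := (IsScalarTower.toAlgHom B' A' A).toLinearMap
    have key : ∀ y : A' ⊗[B'] G, φ (Ψ (g.rTensor G y)) =
        (1 : A) ⊗ₜ[A'] LinearMap.liftBaseChange A' (EtMil.glueSnd B' φ) y := by
      intro y
      induction y using TensorProduct.induction_on with
      | zero => simp
      | tmul a z =>
        have hΨ : Ψ (algebraMap A' A a ⊗ₜ[B'] z) =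
            algebraMap A' A a ⊗ₜ[B] (z : N × M').1 := by
          simp [Ψ, e, EtMil.glueFst]

        rw [LinearMap.rTensor_tmul]
        change φ (Ψ (algebraMap A' A a ⊗ₜ[B'] z)) = _
        rw [hΨ, show algebraMap A' A a ⊗ₜ[B] (z : N × M').1 =
          algebraMap A' A a • ((1 : A) ⊗ₜ[B] (z : N × M').1) by
          rw [TensorProduct.smul_tmul', smul_eq_mul, mul_one], map_smul, mem_glue.mp z.2,
          TensorProduct.smul_tmul', smul_eq_mul, mul_one, LinearMap.liftBaseChange_tmul,
          one_tmul_algebraMap]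
        rfl
      | add a b ha hb => simp only [map_add, TensorProduct.tmul_add, ha, hb]
    have h0 : g.rTensor G x = 0 := by
      apply Ψ.injective
      apply φ.injective
      rw [key, hx, TensorProduct.tmul_zero, map_zero, map_zero]
    obtain ⟨d, hd₁, hd₂⟩ := exists_of_baseChange_eq hsq G (0 : B ⊗[B'] G) x
      (by rw [map_zero]; exact h0.symm)
    have h₁ : (d : N × M').1 = 0 := by
      have := congrArg (LinearMap.liftBaseChange B (EtMil.glueFst B' φ)) hd₁
      rwa [LinearMap.liftBaseChange_one_tmul, map_zero] at this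
    have h₂ : (d : N × M').2 = 0 := by
      rw [← hd₂, LinearMap.liftBaseChange_one_tmul] at hx
      exact hx
    rw [← hd₂, show d = 0 from Subtype.ext (Prod.ext h₁ h₂), TensorProduct.tmul_zero]
  · have : m ∈ LinearMap.range (LinearMap.liftBaseChange A' (EtMil.glueSnd B' φ)) := by
      refine Submodule.span_le.mpr ?_ ((span_glueSnd_eq_top hsq φ).ge Submodule.mem_top)
      rintro _ ⟨z, rfl⟩
      exact ⟨(1 : A') ⊗ₜ z, LinearMap.liftBaseChange_one_tmul ..⟩
    exact this

theorem flat_glue [Module.Flat B N] [Module.Flat A' M'] :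
    Module.Flat B' (EtMil.glue B' φ) := by
  have := Module.Flat.of_linearEquiv (LinearEquiv.ofBijective _ (bijective_glueFst hsq φ))
  have := Module.Flat.of_linearEquiv (LinearEquiv.ofBijective _ (bijective_glueSnd hsq φ))
  exact flat_of_baseChange hsq _

theorem finite_glue [Module.Finite B N] [Module.Finite A' M'] :
    Module.Finite B' (EtMil.glue B' φ) := by
  have := Module.Finite.equiv (LinearEquiv.ofBijective _ (bijective_glueFst hsq φ)).symm
  have := Module.Finite.equiv (LinearEquiv.ofBijective _ (bijective_glueSnd hsq φ)).symm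
  exact finite_of_baseChange hsq _

end

theorem finitePresentation_of_baseChange (hsq : EtMil.IsFibreSquare B' B A' A)
    (L : Type u) [AddCommGroup L] [Module B' L]
    [Module.Flat B (B ⊗[B'] L)] [Module.FinitePresentation B (B ⊗[B'] L)]
    [Module.Flat A' (A' ⊗[B'] L)] [Module.FinitePresentation A' (A' ⊗[B'] L)] :
    Module.FinitePresentation B' L := by
  have := flat_of_baseChange hsq L
  have := finite_of_baseChange hsq L
  obtain ⟨n, π, hπ⟩ := Module.Finite.exists_fin' B' L
  have key : ∀ (S : Type u) [CommRing S] [Algebra B' S] [Module.FinitePresentation S (S ⊗[B'] L)],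
      Module.Finite S (S ⊗[B'] LinearMap.ker π) := by
    intro S _ _ _
    have hinj : Function.Injective ((LinearMap.ker π).subtype.baseChange S) := by
      rw [LinearMap.baseChange_eq_ltensor]
      exact LinearMap.lTensor_injective_of_exact_of_flat π hπ _ (LinearMap.ker π).subtype_injective
        (LinearMap.exact_subtype_ker_map π) S
    have hsurj : Function.Surjective (π.baseChange S) := LinearMap.baseChange_surjective (A := S) hπ
    have hker : LinearMap.ker (π.baseChange S) =
        LinearMap.range ((LinearMap.ker π).subtype.baseChange S) := by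
      refine SetLike.ext fun x => ?_
      simp only [LinearMap.mem_ker, LinearMap.mem_range, LinearMap.baseChange_eq_ltensor]
      exact lTensor_exact S (LinearMap.exact_subtype_ker_map π) hπ x
    have : Module.Finite S (LinearMap.range ((LinearMap.ker π).subtype.baseChange S)) :=
      Module.Finite.iff_fg.mpr (hker ▸ Module.FinitePresentation.fg_ker _ hsurj)
    exact Module.Finite.equiv (LinearEquiv.ofInjective _ hinj).symm
  have := key B
  have := key A'
  exact Module.finitePresentation_of_surjective π hπ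
    (Module.Finite.iff_fg.mp (finite_of_baseChange hsq _))

end Groth.Agent.H48.Mil
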