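import Groth.Agent.H48.MilGlue

/-!
# Finite presentation of glued modules in the relative situation
-/

universe u

open TensorProduct

namespace Groth.Agent.H48.Mil

/-- A module is finite if its base changes to two algebras detecting zero modules are finite. -/
theorem finite_of_detect {R : Type u} [CommRing R] (S₁ S₂ : Type u) [CommRing S₁] [CommRing S₂]
    [Algebra R S₁] [Algebra R S₂]
    (hdet : ∀ (Q : Type u) [AddCommGroup Q] [Module R Q],
      Subsingleton (S₁ ⊗[R] Q) → Subsingleton (S₂ ⊗[R] Q) → Subsingleton Q)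
    (L : Type u) [AddCommGroup L] [Module R L]
    [Module.Finite S₁ (S₁ ⊗[R] L)] [Module.Finite S₂ (S₂ ⊗[R] L)] : Module.Finite R L := by
  classical
  have hspan : ∀ (S : Type u) [CommRing S] [Algebra R S] [Module.Finite S (S ⊗[R] L)],
      ∃ T : Finset L, Submodule.span S ((fun l => (1 : S) ⊗ₜ[R] l) '' (T : Set L)) = ⊤ := by
    intro S _ _ _
    have htop : Submodule.span S (Set.range fun l : L => (1 : S) ⊗ₜ[R] l) = ⊤ := by
      rw [eq_top_iff]
      rintro z -
      induction z using TensorProduct.induction_on with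
      | zero => simp
      | tmul a l =>
        have : a ⊗ₜ[R] l = a • ((1 : S) ⊗ₜ[R] l) := by simp [TensorProduct.smul_tmul']
        rw [this]
        exact Submodule.smul_mem _ _ (Submodule.subset_span ⟨l, rfl⟩)
      | add x y hx hy => exact Submodule.add_mem _ hx hy
    obtain ⟨T, hT, hT'⟩ := (Submodule.fg_span_iff_fg_span_finset_subset _).mp
      (htop ▸ Module.Finite.fg_top)
    choose g hg using fun t : (T : Set (S ⊗[R] L)) => hT t.2
    refine ⟨Finset.univ.image g, eq_top_iff.mpr (htop.ge.trans (hT'.le.trans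
      (Submodule.span_mono fun t ht => ?_)))⟩
    exact ⟨g ⟨t, ht⟩, by simp, hg ⟨t, ht⟩⟩
  obtain ⟨T₁, hT₁⟩ := hspan S₁
  obtain ⟨T₂, hT₂⟩ := hspan S₂
  let N : Submodule R L := Submodule.span R ((T₁ ∪ T₂ : Finset L) : Set L)
  have hsub : ∀ (S : Type u) [CommRing S] [Algebra R S] (T : Finset L),
      (T : Set L) ⊆ N → Submodule.span S ((fun l => (1 : S) ⊗ₜ[R] l) '' (T : Set L)) = ⊤ →
      Subsingleton (S ⊗[R] (L ⧸ N)) := by
    intro S _ _ T hTN hT
    refine subsingleton_of_forall_eq 0 fun z => ?_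
    obtain ⟨w, rfl⟩ := LinearMap.baseChange_surjective (A := S) N.mkQ_surjective z
    have : Submodule.span S ((fun l => (1 : S) ⊗ₜ[R] l) '' (T : Set L)) ≤
        LinearMap.ker (N.mkQ.baseChange S) := by
      rw [Submodule.span_le]
      rintro _ ⟨l, hl, rfl⟩
      simp [(Submodule.Quotient.mk_eq_zero N).mpr (hTN hl)]
    exact this (hT.ge (Submodule.mem_top (x := w)))
  have h₁ := hsub S₁ T₁ (fun t ht => Submodule.subset_span (by simp [Finset.mem_coe.mp ht])) hT₁
  have h₂ := hsub S₂ T₂ (fun t ht => Submodule.subset_span (by simp [Finset.mem_coe.mp ht])) hT₂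
  have := hdet (L ⧸ N) h₁ h₂
  refine ⟨T₁ ∪ T₂, eq_top_iff.mpr fun l _ => ?_⟩
  exact (Submodule.Quotient.mk_eq_zero N).mp (Subsingleton.elim _ _)

end Groth.Agent.H48.Mil
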