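import Groth.Agent.H48.RamBound

set_option autoImplicit false
set_option linter.style.haveILetI false
universe u
open IsLocalRing EtRam

namespace Groth.Agent.H48.FSExt

/-- Powers of a uniformizer below the ramification index form an orthogonal family. -/
theorem orth {B L M : Type u} [CommRing B] [IsDomain B] [IsDiscreteValuationRing B] [Field L]
    [Field M] [Algebra B L] [IsFractionRing B L] [Algebra L M] (W : ValuationSubring M)
    [IsDiscreteValuationRing W] (hW : Dominates B ((algebraMap L M).comp (algebraMap B L)) W)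
    (τ : W) (hτ : Irreducible τ) {e : ℕ} (ϖ : B) (hϖ : Irreducible ϖ) (u : Wˣ)
    (hu : (RingHom.codRestrict _ W hW.1) ϖ = u * τ ^ e) (g : Fin e → L)
    (hg : ∑ i, algebraMap L M (g i) * ((τ : W) : M) ^ (i : ℕ) ∈ W) :
    ∀ i, ∃ b : B, algebraMap B L b = g i := by
  classical
  let j : B →+* W := RingHom.codRestrict _ W hW.1
  have hloc : IsLocalHom j := DomVal.isLocalHom_of_dominates hW
  -- divisibility by `ϖ` is coefficientwise
  have key : ∀ b : Fin e → B, j ϖ ∣ ∑ i, j (b i) * τ ^ (i : ℕ) → ∀ i, ϖ ∣ b i := by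
    intro b hb
    by_contra hne
    push Not at hne
    let S := Finset.univ.filter fun i => ¬ ϖ ∣ b i
    have hS : S.Nonempty := by obtain ⟨i, hi⟩ := hne; exact ⟨i, by simp [S, hi]⟩
    obtain ⟨i₀, hi₀, hmin⟩ := S.exists_min_image (fun i => (i : ℕ)) hS
    have hd : τ ^ ((i₀ : ℕ) + 1) ∣ ∑ i ∈ Finset.univ.erase i₀, j (b i) * τ ^ (i : ℕ) := by
      refine Finset.dvd_sum fun i hi => ?_
      by_cases h : ϖ ∣ b i
      · refine dvd_mul_of_dvd_left ((pow_dvd_pow τ (show (i₀ : ℕ) + 1 ≤ e from i₀.isLt)).trans ?_) _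
        exact (Dvd.intro_left _ hu.symm).trans (map_dvd j h)
      · refine dvd_mul_of_dvd_right (pow_dvd_pow τ ?_) _
        have := hmin i (by simp [S, h])
        exact lt_of_le_of_ne this fun he => Finset.ne_of_mem_erase hi (Fin.ext he.symm)
    have hall : τ ^ ((i₀ : ℕ) + 1) ∣ ∑ i, j (b i) * τ ^ (i : ℕ) :=
      (pow_dvd_pow τ (show (i₀ : ℕ) + 1 ≤ e from i₀.isLt)).trans ((Dvd.intro_left _ hu.symm).trans hb)
    rw [← Finset.add_sum_erase _ _ (Finset.mem_univ i₀), dvd_add_left hd, pow_succ, mul_comm (j (b i₀)),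
      mul_dvd_mul_iff_left (pow_ne_zero _ hτ.ne_zero)] at hall
    have hunit : IsUnit (b i₀) := by
      by_contra hnu
      refine (Finset.mem_filter.1 hi₀).2 ?_
      rw [← Ideal.mem_span_singleton, ← hϖ.maximalIdeal_eq]
      exact hnu
    exact hτ.not_isUnit (isUnit_of_dvd_unit hall (hunit.map j))
  obtain ⟨d, hd⟩ := IsLocalization.exist_integer_multiples_of_finite (nonZeroDivisors B) g
  choose b hb using hd
  obtain ⟨N, v, hv⟩ := IsDiscreteValuationRing.eq_unit_mul_pow_irreducible (nonZeroDivisors.coe_ne_zero d) hϖ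
  suffices h : ∀ (N : ℕ) (b : Fin e → B), (∀ i, algebraMap B L (b i) = algebraMap B L (ϖ ^ N) * g i) →
      ∀ i, ∃ c : B, algebraMap B L c = g i by
    refine h N (fun i => ↑v⁻¹ * b i) fun i => ?_
    rw [map_mul, hb i, Algebra.smul_def, hv, ← mul_assoc, ← map_mul, ← mul_assoc, Units.inv_mul, one_mul]
  intro N
  induction N with
  | zero => exact fun b hb i => ⟨b i, by rw [hb i, pow_zero, map_one, one_mul]⟩
  | succ N ih =>
    intro b hb
    have hsum : j ϖ ∣ ∑ i, j (b i) * τ ^ (i : ℕ) := by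
      refine ⟨j (ϖ ^ N) * ⟨_, hg⟩, Subtype.ext ?_⟩
      push_cast
      show ∑ i, algebraMap L M (algebraMap B L (b i)) * ((τ : W) : M) ^ (i : ℕ) =
        algebraMap L M (algebraMap B L ϖ) * (algebraMap L M (algebraMap B L (ϖ ^ N)) *
          ∑ i, algebraMap L M (g i) * ((τ : W) : M) ^ (i : ℕ))
      rw [Finset.mul_sum, Finset.mul_sum]
      refine Finset.sum_congr rfl fun i _ => ?_
      rw [hb i, pow_succ, map_mul, map_mul, map_mul]; ring
    choose c hc using key b hsum
    refine ih c fun i => mul_left_cancel₀ ((map_ne_zero_iff _ (IsFractionRing.injective B L)).2 hϖ.ne_zero) ?_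
    rw [← map_mul, ← hc i, hb i, pow_succ', map_mul, mul_assoc]

end Groth.Agent.H48.FSExt
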