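import Groth.Agent.Lib.Henselian.LocalRing
import Mathlib.FieldTheory.IsAlgClosed.AlgebraicClosure
import Mathlib.FieldTheory.KummerPolynomial
import Mathlib.RingTheory.DiscreteValuationRing.Basic
import Mathlib.RingTheory.Filtration
import Mathlib.RingTheory.Localization.FractionRing
import Mathlib.LinearAlgebra.FreeModule.PID
import Mathlib.Algebra.CharP.Lemmas

/-!
Extensions of a discrete valuation ring with perfect residue field.
-/

universe u

open Polynomial

namespace Groth.Agent.H48.PerfDVR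

theorem frob_indep {k : Type*} [Field k] {p : ℕ} [Fact p.Prime] [CharP k p] {a : k}
    (ha : ∀ b : k, b ^ p ≠ a) (c : Fin p → k) (h : ∑ i, c i ^ p * a ^ (i : ℕ) = 0) : c = 0 := by
  classical
  let g : k[X] := X ^ p - C a
  have hg : Irreducible g := X_pow_sub_C_irreducible_of_prime (Fact.out : p.Prime) ha
  have := Fact.mk hg
  let F := AdjoinRoot g
  have : CharP F p := charP_of_injective_algebraMap (algebraMap k F).injective p
  have hroot : (AdjoinRoot.root g) ^ p = algebraMap k F a := by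
    have h0 := AdjoinRoot.eval₂_root g
    simp only [g, eval₂_sub, eval₂_X_pow, eval₂_C, sub_eq_zero] at h0
    exact h0
  let G : k[X] := ∑ i : Fin p, C (c i) * X ^ (i : ℕ)
  have hG : AdjoinRoot.mk g G = 0 := by
    have h1 : (AdjoinRoot.mk g G) ^ p = algebraMap k F (∑ i, c i ^ p * a ^ (i : ℕ)) := by
      simp only [G, map_sum, map_mul, map_pow, AdjoinRoot.mk_C, AdjoinRoot.mk_X]
      rw [sum_pow_char p]
      refine Finset.sum_congr rfl fun i _ => ?_
      rw [mul_pow, ← pow_mul, mul_comm (i : ℕ), pow_mul, hroot]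
      rfl
    rw [h, map_zero] at h1
    exact (pow_eq_zero_iff (Fact.out : p.Prime).ne_zero).1 h1
  have hdeg : G.degree < g.degree := by
    rw [degree_X_pow_sub_C (Fact.out : p.Prime).pos]
    exact degree_sum_fin_lt _
  have hG0 : G = 0 := eq_zero_of_dvd_of_degree_lt (AdjoinRoot.mk_eq_zero.1 hG) hdeg
  funext i
  have h2 := congrArg (fun q : k[X] => q.coeff i) hG0
  simp only [G, finsetSum_coeff, coeff_C_mul_X_pow, coeff_zero] at h2
  rw [Finset.sum_eq_single i (fun j _ hj => if_neg fun h => hj (Fin.ext h.symm))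
    (fun h => absurd (Finset.mem_univ i) h), if_pos rfl] at h2
  exact h2

theorem frob_sum {A : Type*} [CommRing A] {p : ℕ} [hp : Fact p.Prime] {ϖ : A}
    (hϖ : ¬ IsUnit ϖ) (hpϖ : ϖ ∣ (p : A)) {ι : Type*} (t : Finset ι) (f : ι → A) :
    ϖ ∣ (∑ i ∈ t, f i) ^ p - ∑ i ∈ t, f i ^ p := by
  rw [← Ideal.mem_span_singleton, ← Ideal.Quotient.eq]
  have : Nontrivial (A ⧸ Ideal.span {ϖ}) := Ideal.Quotient.nontrivial_iff.2 fun h =>
    hϖ (Ideal.span_singleton_eq_top.1 h)
  have : CharP (A ⧸ Ideal.span {ϖ}) p := (CharP.charP_iff_prime_eq_zero hp.out).2 (by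
    rw [← map_natCast (Ideal.Quotient.mk (Ideal.span {ϖ})), Ideal.Quotient.eq_zero_iff_mem,
      Ideal.mem_span_singleton]
    exact hpϖ)
  simp only [map_pow, map_sum]
  exact sum_pow_char p t _

variable {R Ω : Type u} [CommRing R] [Field Ω] [Algebra R Ω] (ϖ : R) (p : ℕ)

/-- A finite extension with the same uniformizer and purely inseparable residue extension. -/
structure Good (S : Subalgebra R Ω) : Prop where
  finite : Module.Finite R S
  dich : ∀ w : S, algebraMap R S ϖ ∣ w ∨ IsUnit w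
  notUnit : ¬ IsUnit (algebraMap R S ϖ)
  rank : ∃ m : ℕ, Module.finrank R S = p ^ m
  insep : ∀ w : S, ∃ (m : ℕ) (z : R), algebraMap R S ϖ ∣ algebraMap R S z - w ^ (p ^ m)

variable {ϖ p}

set_option maxHeartbeats 2000000 in
theorem exists_step [IsDomain R] [IsDiscreteValuationRing R] [FaithfulSMul R Ω]
    [hp : Fact p.Prime] (hϖ : IsLocalRing.maximalIdeal R = Ideal.span {ϖ}) (hpϖ : ϖ ∣ (p : R))
    {S : Subalgebra R Ω} (hS : Good ϖ p S) (y : S) (hy : ∀ s : S, ¬ algebraMap R S ϖ ∣ s ^ p - y)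
    (θ : Ω) (hθ : θ ^ p = (y : Ω)) :
    ∃ S' : Subalgebra R Ω, S' = (Algebra.adjoin S {θ}).restrictScalars R ∧ S ≤ S' ∧ θ ∈ S' ∧
      Good ϖ p S' := by
  classical
  set S' : Subalgebra R Ω := (Algebra.adjoin S {θ}).restrictScalars R with hS'def
  have := hS.finite
  have : Module.IsTorsionFree R Ω := inferInstance
  have : Module.Free R S := Module.free_of_finite_type_torsion_free'
  have hle : S ≤ S' := fun x hx => (Algebra.adjoin S {θ}).algebraMap_mem ⟨x, hx⟩
  have hθmem : θ ∈ S' := Algebra.subset_adjoin rfl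
  let L : (Fin p → S) →ₗ[R] Ω := ∑ i : Fin p,
    (LinearMap.mulRight R (θ ^ (i : ℕ))) ∘ₗ S.val.toLinearMap ∘ₗ LinearMap.proj i
  have hL : ∀ s, L s = ∑ i, (s i : Ω) * θ ^ (i : ℕ) := fun s => by simp [L]
  have hLmem : ∀ s, L s ∈ S' := fun s => by
    rw [hL]
    exact sum_mem fun i _ => mul_mem (hle (s i).2) (pow_mem hθmem _)
  have hLsurj : ∀ x ∈ S', ∃ s, L s = x := by
    intro x hx
    change x ∈ Algebra.adjoin S {θ} at hx
    rw [Algebra.adjoin_singleton_eq_range_aeval] at hx
    obtain ⟨q, rfl⟩ := hx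
    let g : S[X] := X ^ p - C y
    have hg : g.Monic := monic_X_pow_sub_C y hp.out.ne_zero
    have hgθ : aeval θ g = 0 := by simp [g, hθ]
    have hdeg : (q %ₘ g).natDegree < p := by
      have := natDegree_modByMonic_lt q hg (fun h => by
        have := congrArg natDegree h
        simp [g, natDegree_X_pow_sub_C, hp.out.ne_zero] at this)
      simpa [g, natDegree_X_pow_sub_C] using this
    refine ⟨fun i => (q %ₘ g).coeff i, ?_⟩
    change L _ = aeval θ q
    have hq : aeval θ q = aeval θ (q %ₘ g) := by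
      conv_lhs => rw [← modByMonic_add_div q g, map_add, map_mul, hgθ, zero_mul, add_zero]
    rw [hq, hL, aeval_eq_sum_range' hdeg, Finset.sum_range]
    refine Finset.sum_congr rfl fun i _ => ?_
    rw [Algebra.smul_def]
    rfl
  let incl : S →ₐ[R] S' := Subalgebra.inclusion hle
  let L' : (Fin p → S) →ₗ[R] S' := L.codRestrict (Subalgebra.toSubmodule S') hLmem
  have hL' : ∀ s, L' s = ∑ i, incl (s i) * (⟨θ, hθmem⟩ : S') ^ (i : ℕ) := fun s => by
    apply Subtype.ext
    rw [AddSubmonoidClass.coe_finsetSum]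
    exact hL s
  have hL'surj : Function.Surjective L' := fun x => by
    obtain ⟨s, hs⟩ := hLsurj x x.2
    exact ⟨s, Subtype.ext hs⟩
  have hfin : Module.Finite R S' := Module.Finite.of_surjective L' hL'surj
  have hint : Algebra.IsIntegral R S' := Algebra.IsIntegral.of_finite R S'
  have hinj : Function.Injective (algebraMap R S') := fun a b hab =>
    FaithfulSMul.algebraMap_injective R Ω (congrArg Subtype.val hab)
  have hnu : ¬ IsUnit (algebraMap R S' ϖ) := fun h => by
    have : ϖ ∈ IsLocalRing.maximalIdeal R := hϖ ▸ Ideal.mem_span_singleton_self ϖ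
    have hl : IsLocalHom (algebraMap R S') :=
      hint.1 |> fun h' => RingHom.IsIntegral.isLocalHom (f := algebraMap R S') h' hinj
    exact this (hl.map_nonunit _ h)
  have hjac : ∀ P : Ideal S', P.IsMaximal → algebraMap R S' ϖ ∈ P := fun P hP => by
    have h1 : (P.comap (algebraMap R S')).IsMaximal :=
      Ideal.isMaximal_comap_of_isIntegral_of_isMaximal P
    have h2 := IsLocalRing.eq_maximalIdeal h1
    have : ϖ ∈ P.comap (algebraMap R S') := by
      rw [h2, hϖ]; exact Ideal.mem_span_singleton_self ϖ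
    exact this
  have hpS' : algebraMap R S' ϖ ∣ (p : S') := by
    rw [← map_natCast (algebraMap R S')]
    exact map_dvd _ hpϖ
  have hpS : algebraMap R S ϖ ∣ (p : S) := by
    rw [← map_natCast (algebraMap R S)]
    exact map_dvd _ hpϖ
  -- the residue field of `S`
  have hmax : (Ideal.span {algebraMap R S ϖ}).IsMaximal := by
    refine Ideal.isMaximal_iff.2 ⟨fun h => hS.notUnit (isUnit_of_dvd_one
      (Ideal.mem_span_singleton.1 h)), fun J x hJ hx hxJ => ?_⟩
    rcases hS.dich x with h | h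
    · exact absurd (Ideal.mem_span_singleton.2 h) hx
    · rw [Ideal.eq_top_of_isUnit_mem J hxJ h]; exact Submodule.mem_top
  let kS := S ⧸ Ideal.span {algebraMap R S ϖ}
  let := Ideal.Quotient.field (Ideal.span {algebraMap R S ϖ})
  have : CharP kS p := (CharP.charP_iff_prime_eq_zero hp.out).2 (by
    rw [← map_natCast (Ideal.Quotient.mk (Ideal.span {algebraMap R S ϖ})),
      Ideal.Quotient.eq_zero_iff_mem, Ideal.mem_span_singleton]
    exact hpS)
  have hybar : ∀ b : kS, b ^ p ≠ Ideal.Quotient.mk _ y := fun b hb => by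
    obtain ⟨b, rfl⟩ := Ideal.Quotient.mk_surjective b
    rw [← map_pow, Ideal.Quotient.eq, Ideal.mem_span_singleton] at hb
    exact hy b hb
  let e : (Fin p → S) → S := fun s => ∑ i, s i ^ p * y ^ (i : ℕ)
  have hyθ : (⟨θ, hθmem⟩ : S') ^ p = incl y := Subtype.ext (by simp [hθ, incl])
  have hpow : ∀ s, algebraMap R S' ϖ ∣ L' s ^ p - incl (e s) := fun s => by
    have h := frob_sum hnu hpS' Finset.univ fun i => incl (s i) * (⟨θ, hθmem⟩ : S') ^ (i : ℕ)
    rw [hL']
    have he : incl (e s) = ∑ i, (incl (s i) * (⟨θ, hθmem⟩ : S') ^ (i : ℕ)) ^ p := by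
      rw [map_sum]
      refine Finset.sum_congr rfl fun i _ => ?_
      rw [map_mul, map_pow, map_pow, mul_pow, ← pow_mul, mul_comm (i : ℕ), pow_mul, hyθ]
    rw [he]
    exact h
  have hkey : ∀ s, (∀ i, algebraMap R S ϖ ∣ s i) ∨ (IsUnit (L' s)) := fun s => by
    by_cases hall : ∀ i, algebraMap R S ϖ ∣ s i
    · exact Or.inl hall
    refine Or.inr ?_
    have heu : IsUnit (e s) := by
      refine (hS.dich (e s)).resolve_left fun hd => hall fun i => ?_
      have h0 : (fun i => Ideal.Quotient.mk (Ideal.span {algebraMap R S ϖ}) (s i)) = 0 := by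
        refine frob_indep hybar _ ?_
        simp only [← map_pow, ← map_mul, ← map_sum]
        exact Ideal.Quotient.eq_zero_iff_mem.2 (Ideal.mem_span_singleton.2 hd)
      exact Ideal.mem_span_singleton.1 (Ideal.Quotient.eq_zero_iff_mem.1 (congrFun h0 i))
    have he' : IsUnit (incl (e s)) := heu.map incl
    by_contra hnw
    obtain ⟨P, hP, hwP⟩ := exists_max_ideal_of_mem_nonunits hnw
    refine hP.ne_top (Ideal.eq_top_of_isUnit_mem _ ?_ he')
    have h1 : L' s ^ p - incl (e s) ∈ P := by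
      obtain ⟨v, hv⟩ := hpow s
      rw [hv]
      exact P.mul_mem_right _ (hjac P hP)
    have h2 : L' s ^ p ∈ P := Ideal.pow_mem_of_mem P hwP p hp.out.pos
    exact (Submodule.sub_mem_iff_right P h2).1 h1
  have hdvd : ∀ s, (∀ i, algebraMap R S ϖ ∣ s i) → algebraMap R S' ϖ ∣ L' s := fun s hs => by
    rw [hL']
    refine Finset.dvd_sum fun i _ => Dvd.dvd.mul_right ?_ _
    have := map_dvd incl (hs i)
    rwa [AlgHom.commutes] at this
  have hL'inj : Function.Injective L' := by
    rw [injective_iff_map_eq_zero]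
    intro s hs
    have hn : ∀ (n : ℕ) (s : Fin p → S), L' s = 0 → ∀ i, algebraMap R S ϖ ^ n ∣ s i := by
      intro n
      induction n with
      | zero => simp
      | succ n ih =>
        intro s hs i
        have h1 : ∀ i, algebraMap R S ϖ ∣ s i := (hkey s).resolve_right fun h => by
          rw [hs] at h; exact not_isUnit_zero h
        choose t ht using h1
        have hst : s = ϖ • t := funext fun j => by rw [Pi.smul_apply, Algebra.smul_def, ← ht j]
        have ht0 : L' t = 0 := by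
          rw [hst, map_smul] at hs
          have : ((ϖ • L' t : S') : Ω) = 0 := by rw [hs]; rfl
          rw [Subalgebra.coe_smul, Algebra.smul_def, mul_eq_zero] at this
          rcases this with h | h
          · exact absurd (by rw [show ϖ = 0 from (FaithfulSMul.algebraMap_injective R Ω)
              (h.trans (map_zero _).symm)]) (IsDiscreteValuationRing.not_a_field R ∘ fun h0 : ϖ = 0 => by
                rw [hϖ, h0, Ideal.span_singleton_zero])
          · exact Subtype.ext h
        rw [ht i, pow_succ']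
        exact mul_dvd_mul_left _ (ih t ht0 i)
    have : IsNoetherianRing S := IsNoetherianRing.of_finite R S
    funext i
    have h1 : s i ∈ ⨅ n : ℕ, (Ideal.span {algebraMap R S ϖ}) ^ n := by
      rw [Submodule.mem_iInf]
      intro n
      rw [Ideal.span_singleton_pow, Ideal.mem_span_singleton]
      exact hn n s hs i
    rwa [Ideal.iInf_pow_eq_bot_of_isDomain _ hmax.ne_top, Ideal.mem_bot] at h1
  obtain ⟨m, hm⟩ := hS.rank
  refine ⟨S', rfl, hle, hθmem, hfin, fun w => ?_, hnu, ⟨m + 1, ?_⟩, fun w => ?_⟩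
  · obtain ⟨s, rfl⟩ := hL'surj w
    exact (hkey s).imp (hdvd s) id
  · rw [← (LinearEquiv.ofBijective L' ⟨hL'inj, hL'surj⟩).finrank_eq, Module.finrank_pi_fintype]
    simp [hm, pow_succ, mul_comm]
  · obtain ⟨s, rfl⟩ := hL'surj w
    obtain ⟨n, z, hz⟩ := hS.insep (e s)
    refine ⟨n + 1, z, ?_⟩
    have h1 := map_dvd incl hz
    rw [AlgHom.commutes, map_sub, AlgHom.commutes, map_pow] at h1
    have h2 := (hpow s).trans (sub_dvd_pow_sub_pow (L' s ^ p) (incl (e s)) (p ^ n))
    rw [pow_succ', pow_mul]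
    have h3 := dvd_sub h1 h2
    convert h3 using 1; ring

/-- A union of good extensions. -/
def GoodUnion (ϖ : R) (p : ℕ) (T : Subalgebra R Ω) : Prop :=
  ∀ t : Finset Ω, (t : Set Ω) ⊆ T → ∃ S : Subalgebra R Ω, Good ϖ p S ∧ (t : Set Ω) ⊆ S ∧ S ≤ T

theorem exists_le_of_two {T : Subalgebra R Ω} (hT : GoodUnion ϖ p T) {A B : Subalgebra R Ω}
    (hA : Good ϖ p A) (hB : Good ϖ p B) (hAT : A ≤ T) (hBT : B ≤ T) (y : Ω) (hy : y ∈ T) :
    ∃ C, Good ϖ p C ∧ C ≤ T ∧ A ≤ C ∧ B ≤ C ∧ y ∈ C := by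
  classical
  obtain ⟨a, ha⟩ := Module.Finite.iff_fg.1 (show Module.Finite R (Subalgebra.toSubmodule A) from hA.finite)
  obtain ⟨b, hb⟩ := Module.Finite.iff_fg.1 (show Module.Finite R (Subalgebra.toSubmodule B) from hB.finite)
  have haA : (a : Set Ω) ⊆ A := fun x hx =>
    show x ∈ Subalgebra.toSubmodule A from ha ▸ Submodule.subset_span hx
  have hbB : (b : Set Ω) ⊆ B := fun x hx =>
    show x ∈ Subalgebra.toSubmodule B from hb ▸ Submodule.subset_span hx
  obtain ⟨C, hC, hsub, hCT⟩ := hT (a ∪ b ∪ {y}) (by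
    simp only [Finset.coe_union, Finset.coe_singleton, Set.union_subset_iff, Set.singleton_subset_iff]
    exact ⟨⟨haA.trans hAT, hbB.trans hBT⟩, hy⟩)
  simp only [Finset.coe_union, Finset.coe_singleton, Set.union_subset_iff,
    Set.singleton_subset_iff] at hsub
  refine ⟨C, hC, hCT, fun x hx => ?_, fun x hx => ?_, hsub.2⟩
  · exact (Submodule.span_le (p := Subalgebra.toSubmodule C)).2 hsub.1.1
      (ha.symm ▸ (show x ∈ Subalgebra.toSubmodule A from hx))
  · exact (Submodule.span_le (p := Subalgebra.toSubmodule C)).2 hsub.1.2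
      (hb.symm ▸ (show x ∈ Subalgebra.toSubmodule B from hx))

theorem good_bot [IsDomain R] [IsDiscreteValuationRing R] [FaithfulSMul R Ω]
    (hϖ : IsLocalRing.maximalIdeal R = Ideal.span {ϖ}) : Good ϖ p (⊥ : Subalgebra R Ω) := by
  let e : (⊥ : Subalgebra R Ω) ≃ₐ[R] R :=
    Algebra.botEquivOfInjective (FaithfulSMul.algebraMap_injective R Ω)
  have he : ∀ r, e (algebraMap R _ r) = r := fun r => e.commutes r
  refine ⟨Module.Finite.equiv e.symm.toLinearEquiv, fun w => ?_, fun h => ?_, ⟨0, ?_⟩,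
    fun w => ⟨0, e w, ?_⟩⟩
  · by_cases hw : IsUnit (e w)
    · exact Or.inr (by simpa using hw.map e.symm)
    · refine Or.inl ?_
      have hm : e w ∈ IsLocalRing.maximalIdeal R := hw
      rw [hϖ, Ideal.mem_span_singleton] at hm
      have h2 := map_dvd e.symm hm
      rwa [e.symm_apply_apply, show e.symm ϖ = algebraMap R _ ϖ from e.symm.commutes ϖ] at h2
  · have h2 := h.map e
    rw [he] at h2
    have : ϖ ∈ IsLocalRing.maximalIdeal R := hϖ ▸ Ideal.mem_span_singleton_self ϖ
    exact this h2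
  · rw [pow_zero, e.toLinearEquiv.finrank_eq, Module.finrank_self]
  · rw [pow_zero, pow_one, show algebraMap R _ (e w) = w from e.injective (he _), sub_self]
    exact dvd_zero _

theorem exists_goodUnion_perfect [IsDomain R] [IsDiscreteValuationRing R] [FaithfulSMul R Ω]
    [IsAlgClosed Ω] [hp : Fact p.Prime] (hϖ : IsLocalRing.maximalIdeal R = Ideal.span {ϖ})
    (hpϖ : ϖ ∣ (p : R)) :
    ∃ T : Subalgebra R Ω, GoodUnion ϖ p T ∧
      ∀ y : T, ∃ z : T, algebraMap R T ϖ ∣ z ^ p - y := by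
  classical
  obtain ⟨T, hT⟩ : ∃ T, Maximal (fun T : Subalgebra R Ω => GoodUnion ϖ p T) T := by
    refine zorn_le₀ {T : Subalgebra R Ω | GoodUnion ϖ p T} fun c hc hchain => ?_
    rcases c.eq_empty_or_nonempty with rfl | hne
    · exact ⟨⊥, fun t ht => ⟨⊥, good_bot hϖ, ht, le_rfl⟩, by simp⟩
    refine ⟨sSup c, fun t ht => ?_, fun T hT => le_sSup hT⟩
    haveI : Nonempty c := hne.to_subtype
    have hdir : Directed (· ≤ ·) (Subtype.val : c → Subalgebra R Ω) :=
      directedOn_iff_directed.1 hchain.directedOn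
    rw [sSup_eq_iSup', Subalgebra.coe_iSup_of_directed hdir] at ht
    obtain ⟨⟨T, hTc⟩, hsub⟩ :=
      Directed.exists_mem_subset_of_finset_subset_biUnion (f := fun i : c => ((i : Subalgebra R Ω) : Set Ω)) hdir ht
    obtain ⟨S, hS, htS, hST⟩ := hc hTc t hsub
    exact ⟨S, hS, htS, hST.trans (le_sSup hTc)⟩
  refine ⟨T, hT.1, fun y => ?_⟩
  by_contra hno
  push Not at hno
  obtain ⟨θ, hθ⟩ := IsAlgClosed.exists_pow_nat_eq (y : Ω) hp.out.pos
  let ι := {S : Subalgebra R Ω // Good ϖ p S ∧ S ≤ T ∧ (y : Ω) ∈ S}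
  have : Nonempty ι := by
    obtain ⟨S, hS, hsub, hST⟩ := hT.1 {(y : Ω)} (by simp)
    exact ⟨⟨S, hS, hST, by simpa using hsub⟩⟩
  let F : ι → Subalgebra R Ω := fun S => (Algebra.adjoin S.1 {θ}).restrictScalars R
  have hF : ∀ S : ι, Good ϖ p (F S) ∧ θ ∈ F S ∧ S.1 ≤ F S := fun S => by
    have hy : ∀ s : S.1, ¬ algebraMap R S.1 ϖ ∣ s ^ p - ⟨y, S.2.2.2⟩ := fun s hs => by
      refine hno (Subalgebra.inclusion S.2.2.1 s) ?_
      have h := map_dvd (Subalgebra.inclusion S.2.2.1) hs
      rwa [AlgHom.commutes, map_sub, map_pow] at h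
    obtain ⟨S', rfl, h1, h2, h3⟩ := exists_step hϖ hpϖ S.2.1 ⟨y, S.2.2.2⟩ hy θ hθ
    exact ⟨h3, h2, h1⟩
  have hdir : Directed (· ≤ ·) F := fun A B => by
    obtain ⟨C, hC, hCT, hAC, hBC, hyC⟩ :=
      exists_le_of_two hT.1 A.2.1 B.2.1 A.2.2.1 B.2.2.1 y y.2
    refine ⟨⟨C, hC, hCT, hyC⟩, ?_, ?_⟩
    all_goals
      intro x hx
      change x ∈ Algebra.adjoin _ {θ} at hx
      induction hx using Algebra.adjoin_induction with
      | mem z hz => rw [Set.mem_singleton_iff.1 hz]; exact (hF ⟨C, hC, hCT, hyC⟩).2.1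
      | algebraMap r =>
        refine (hF ⟨C, hC, hCT, hyC⟩).2.2 ?_
        first
          | exact hAC r.2
          | exact hBC r.2
      | add _ _ _ _ h h' => exact add_mem h h'
      | mul _ _ _ _ h h' => exact mul_mem h h'
  let T' : Subalgebra R Ω := ⨆ S, F S
  have hTT' : T ≤ T' := fun x hx => by
    obtain ⟨S, hS, hsub, hST⟩ := hT.1 {x, (y : Ω)} (by
      simp only [Finset.coe_insert, Finset.coe_singleton]
      exact Set.insert_subset hx (Set.singleton_subset_iff.2 y.2))
    simp only [Finset.coe_insert, Finset.coe_singleton, Set.insert_subset_iff,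
      Set.singleton_subset_iff] at hsub
    exact le_iSup F ⟨S, hS, hST, hsub.2⟩ ((hF ⟨S, hS, hST, hsub.2⟩).2.2 hsub.1)
  have hT' : GoodUnion ϖ p T' := fun t ht => by
    rw [Subalgebra.coe_iSup_of_directed hdir] at ht
    obtain ⟨S, hsub⟩ := Directed.exists_mem_subset_of_finset_subset_biUnion
      (f := fun i => (F i : Set Ω)) hdir ht
    exact ⟨F S, (hF S).1, hsub, le_iSup F S⟩
  have hθT : θ ∈ T := hT.2 hT' hTT' (le_iSup F (Classical.arbitrary ι) (hF _).2.1)
  refine hno ⟨θ, hθT⟩ ?_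
  rw [show (⟨θ, hθT⟩ : T) ^ p = y from Subtype.ext hθ, sub_self]
  exact dvd_zero _

end Groth.Agent.H48.PerfDVR
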