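import Groth.Agent.Lib.SBAut.ProjAut
import Groth.Agent.Lib.ProjSpace.BaseChange
import Mathlib.FieldTheory.PurelyInseparable.Basic
import Mathlib.FieldTheory.IsAlgClosed.AlgebraicClosure
import Mathlib.AlgebraicGeometry.ResidueField

/-!
# Automorphisms of the projective line fixing a jet of order three (helper48)
-/

set_option autoImplicit false
set_option linter.style.haveILetI false
universe u

open CategoryTheory Limits AlgebraicGeometry Polynomial
open Groth.Agent.Lib.GrassRep Groth.Agent.Lib.SBAut Groth.Agent.Lib.SBAut.ProjAut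

namespace Groth.Agent.H48.ProjLineJet

theorem surjective_of_isClosedImmersion {R S : CommRingCat.{u}} (f : R ⟶ S) [IsClosedImmersion (Spec.map f)] :
    Function.Surjective f.hom := by
  have h : Function.Surjective (Spec.map f).appTop :=
    (Spec.map f).app_surjective ⊤ (isAffineOpen_top _)
  intro s
  obtain ⟨r, hr⟩ := h ((Scheme.ΓSpecIso S).inv s)
  refine ⟨(Scheme.ΓSpecIso R).hom r, ?_⟩
  have := ConcreteCategory.congr_hom (Scheme.ΓSpecIso_naturality f) r
  rw [ConcreteCategory.comp_apply, ConcreteCategory.comp_apply, hr] at this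
  rw [← this, ← ConcreteCategory.comp_apply, Iso.inv_hom_id]
  rfl

variable {K : Type u} [Field K]

abbrev A (K : Type u) [Field K] (n : ℕ) := AdjoinRoot ((X : K[X]) ^ n)

theorem isLocalRing_A : IsLocalRing (A K 3) := by
  have hroot : IsNilpotent (AdjoinRoot.root ((X : K[X]) ^ 3)) :=
    ⟨3, by rw [← AdjoinRoot.mk_X, ← map_pow, AdjoinRoot.mk_self]⟩
  have key : ∀ P : K[X], P.coeff 0 ≠ 0 → IsUnit (AdjoinRoot.mk ((X : K[X]) ^ 3) P) := fun P hP => by
    rw [← P.divX_mul_X_add, map_add, map_mul, AdjoinRoot.mk_X, AdjoinRoot.mk_C]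
    refine IsNilpotent.isUnit_add_right_of_commute ?_ ((Ne.isUnit hP).map _) (Commute.all _ _)
    exact (Commute.all _ _).isNilpotent_mul_left hroot
  haveI : Nontrivial (A K 3) := AdjoinRoot.nontrivial _ (by simp)
  refine IsLocalRing.of_isUnit_or_isUnit_one_sub_self fun a => ?_
  obtain ⟨P, rfl⟩ := AdjoinRoot.mk_surjective a
  by_cases hP : P.coeff 0 = 0
  · right
    rw [← map_one (AdjoinRoot.mk ((X : K[X]) ^ 3)), ← map_sub]
    exact key _ (by simp [hP])
  · exact Or.inl (key P hP)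

/-- A matrix fixing a non-degenerate jet of order three is scalar. -/
theorem matrix_scalar (M : Matrix (Fin 2) (Fin 2) K) (v : Fin 2 → A K 3) (i : Fin 2) (c : A K 3)
    (P : K[X]) (hi : v i = 1) (hj : ∀ j, j ≠ i → v j = AdjoinRoot.mk _ P) (hP : P.coeff 1 ≠ 0)
    (hv : act M (A K 3) v = c • v) : ∃ m : K, M = Matrix.scalar (Fin 2) m := by
  have e : ∀ j, algebraMap K (A K 3) (M j 0) * v 0 + algebraMap K (A K 3) (M j 1) * v 1 = c * v j := fun j => by
    have := congrFun hv j
    rw [act_apply, Fin.sum_univ_two] at this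
    exact this
  have main : ∀ (x y z : K), AdjoinRoot.mk ((X : K[X]) ^ 3) (C x + C y * P - C z * (P * P)) = 0 →
      x = 0 ∧ y = 0 ∧ z = 0 := fun x y z h => by
    rw [AdjoinRoot.mk_eq_zero, X_pow_dvd_iff] at h
    have h0 := h 0 (by omega)
    have h1 := h 1 (by omega)
    have h2 := h 2 (by omega)
    simp only [coeff_add, coeff_sub, coeff_C_mul, coeff_C, coeff_mul, Finset.Nat.sum_antidiagonal_eq_sum_range_succ_mk,
      Finset.sum_range_succ, Finset.sum_range_zero] at h0 h1 h2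
    norm_num at h0 h1 h2
    have hy : y = 2 * z * P.coeff 0 := by
      refine mul_right_cancel₀ hP ?_
      linear_combination h1
    have hz : z = 0 := by
      refine (mul_eq_zero.mp (?_ : z * (P.coeff 1 * P.coeff 1) = 0)).resolve_right (mul_ne_zero hP hP)
      rw [hy] at h2
      linear_combination -h2
    subst hz
    simp only [mul_zero, zero_mul] at hy
    subst hy
    exact ⟨by linear_combination h0, rfl, rfl⟩
  have a0 := e 0
  have a1 := e 1
  rw [AdjoinRoot.algebraMap_eq] at a0 a1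
  match i, hi, hj with
  | 0, hi, hj =>
    rw [hi, hj 1 (by decide)] at a0 a1
    obtain ⟨x, y, z⟩ := main (M 1 0) (M 1 1 - M 0 0) (M 0 1) (by
      simp only [map_add, map_sub, map_mul, AdjoinRoot.mk_C]
      linear_combination a1 - (AdjoinRoot.mk ((X : K[X]) ^ 3) P) * a0)
    refine ⟨M 0 0, Matrix.ext fun p q => ?_⟩
    fin_cases p <;> fin_cases q <;> simp [x, z, sub_eq_zero.mp y]
  | 1, hi, hj =>
    rw [hi, hj 0 (by decide)] at a0 a1
    obtain ⟨x, y, z⟩ := main (M 0 1) (M 0 0 - M 1 1) (M 1 0) (by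
      simp only [map_add, map_sub, map_mul, AdjoinRoot.mk_C]
      linear_combination a0 - (AdjoinRoot.mk ((X : K[X]) ^ 3) P) * a1)
    refine ⟨M 1 1, Matrix.ext fun p q => ?_⟩
    fin_cases p <;> fin_cases q <;> simp [x, z, sub_eq_zero.mp y]

noncomputable def red : A K 3 →ₐ[K] A K 2 :=
  AdjoinRoot.liftAlgHom _ (Algebra.ofId K _) (AdjoinRoot.root _)
    (by
      show eval₂ (algebraMap K (A K 2)) _ ((X : K[X]) ^ 3) = 0
      rw [eval₂_X_pow, show (3 : ℕ) = 2 + 1 from rfl, pow_succ, ← AdjoinRoot.mk_X, ← map_pow, AdjoinRoot.mk_self, zero_mul])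

noncomputable def aug : A K 2 →ₐ[K] K :=
  AdjoinRoot.liftAlgHom _ (Algebra.ofId K _) 0 (by simp)

noncomputable def e2 : A K 2 →ₐ[K] A K 2 := (Algebra.ofId K _).comp aug

theorem red_mk (P : K[X]) : red (AdjoinRoot.mk ((X : K[X]) ^ 3) P) = AdjoinRoot.mk ((X : K[X]) ^ 2) P := by
  induction P using Polynomial.induction_on' with
  | add p q hp hq => simp only [map_add, hp, hq]
  | monomial n a => simp [red, ← C_mul_X_pow_eq_monomial]

/-- An automorphism fixing a jet whose reduction is not constant is the identity. -/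
theorem eq_id_of_fix (e : Aut (Gn K 1)) (p : pt K (A K 3) ⟶ Gn K 1) (hp : p ≫ e.hom = p)
    (hne : Sp (red.comp (AlgHom.id K (A K 3))) ≫ p.left ≠ Sp e2 ≫ Sp (red (K := K)) ≫ p.left) :
    e = 1 := by
  obtain ⟨g, rfl⟩ := toAut_surjective (K := K) (n := 1) e
  haveI := isLocalRing_A (K := K)
  obtain ⟨v₀, i, hu, hL⟩ := exists_eq_span (Nat.succ_pos 1) (linePts K 1 (A K 3) p).2
  obtain ⟨b, hb⟩ := hu.exists_left_inv
  let v : Fin 2 → A K 3 := b • v₀
  have hvi : v i = 1 := hb
  have hLv : (linePts K 1 (A K 3) p).1 = Submodule.span (A K 3) {v} := by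
    rw [hL]
    exact (Submodule.span_singleton_smul_eq (IsUnit.of_mul_eq_one (v₀ i) hb) v₀).symm
  obtain ⟨j₀, hj₀, hall⟩ : ∃ j₀ : Fin 2, j₀ ≠ i ∧ ∀ j, j ≠ i → j = j₀ :=
    (by decide : ∀ i : Fin 2, ∃ j₀ : Fin 2, j₀ ≠ i ∧ ∀ j, j ≠ i → j = j₀) i
  obtain ⟨P, hP⟩ := AdjoinRoot.mk_surjective (v j₀)
  have hfix := congrArg (fun q => (linePts K 1 (A K 3) q).1) hp
  change (linePts K 1 (A K 3) (p ≫ homOf g)).1 = (linePts K 1 (A K 3) p).1 at hfix
  rw [comp_homOf, linePts_actPts, hLv] at hfix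
  obtain ⟨c, hc⟩ := Submodule.mem_span_singleton.mp
    (hfix ▸ Submodule.mem_map_of_mem (Submodule.mem_span_singleton_self v) :
      act (g : Matrix (Fin 2) (Fin 2) K) (A K 3) v ∈ Submodule.span (A K 3) {v})
  by_cases h1 : P.coeff 1 = 0
  · exfalso
    refine hne ?_
    let p₂ : pt K (A K 2) ⟶ Gn K 1 := Over.homMk (Sp red ≫ p.left) (by
      rw [Category.assoc, Over.w p]; exact Sp_str red)
    let p₂' : pt K (A K 2) ⟶ Gn K 1 := Over.homMk (Sp e2 ≫ p₂.left) (by
      rw [Category.assoc, Over.w p₂]; exact Sp_str e2)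
    suffices p₂ = p₂' by
      rw [AlgHom.comp_id]
      exact congrArg CommaMorphism.left this
    refine (linePts K 1 (A K 2)).injective (Subtype.ext ?_)
    rw [linePts_nat e2 p₂ p₂' rfl, linePts_nat red p p₂ rfl, hLv]
    rw [bc_span_singleton, bc_span_singleton]
    congr 2
    funext j
    show red (v j) = e2 (red (v j))
    by_cases hj : j = i
    · rw [hj, hvi, map_one, map_one]
    · rw [hall j hj, ← hP, red_mk]
      have hC : AdjoinRoot.mk ((X : K[X]) ^ 2) P = algebraMap K _ (P.coeff 0) := by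
        rw [AdjoinRoot.algebraMap_eq, ← AdjoinRoot.mk_C, AdjoinRoot.mk_eq_mk, X_pow_dvd_iff]
        intro d hd
        interval_cases d <;> simp [h1]
      rw [hC, AlgHom.commutes]
  · obtain ⟨m, hm⟩ := matrix_scalar _ v i c P hvi (fun j hj => by rw [hall j hj, hP]) h1 hc.symm
    rw [← MonoidHom.mem_ker, toAut_ker]
    have hm0 : m ≠ 0 := fun h0 => g.ne_zero (by rw [hm, h0, map_zero])
    exact ⟨Units.mk0 m hm0, Units.ext hm.symm⟩

section Point

variable {k : Type u} [Field k] [Algebra k K] [IsAlgClosed K]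

/-- A point of the residue field with values in truncated polynomials. -/
theorem exists_jet_hom (κ : Type u) [Field κ] [Algebra k κ] [IsPurelyInseparable k κ]
    (hdeg : 3 ≤ Module.finrank k κ) (π : MvPolynomial (Fin 1) k →ₐ[k] κ) (hπ : Function.Surjective π) :
    ∃ h : κ →ₐ[k] A K 3, ∃ x : κ, e2 (red (h x)) ≠ red (h x) := by
  classical
  let α := π (MvPolynomial.X 0)
  haveI : FiniteDimensional k κ := Module.finite_of_finrank_pos (by omega)
  obtain ⟨q, hq⟩ := ExpChar.exists k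
  haveI := hq
  obtain ⟨n, y, hy⟩ := IsPurelyInseparable.minpoly_eq_X_pow_sub_C k q α
  let ψ : AdjoinRoot (minpoly k α) →ₐ[k] κ := AdjoinRoot.liftAlgHom _ (Algebra.ofId k κ) α (minpoly.aeval k α)
  haveI : Fact (Irreducible (minpoly k α)) := ⟨minpoly.irreducible (Algebra.IsIntegral.isIntegral α)⟩
  have hψ : Function.Bijective ψ := by
    refine ⟨ψ.toRingHom.injective, fun x => ?_⟩
    obtain ⟨P, rfl⟩ := hπ x
    refine AlgHom.mem_range (φ := ψ) |>.mp ?_
    induction P using MvPolynomial.induction_on with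
    | C r => rw [← MvPolynomial.algebraMap_eq, AlgHom.commutes]; exact Subalgebra.algebraMap_mem _ r
    | add p q hp hq => rw [map_add]; exact add_mem hp hq
    | mul_X p i hp =>
      rw [map_mul, Subsingleton.elim i 0]
      exact mul_mem hp ⟨AdjoinRoot.root _, AdjoinRoot.liftAlgHom_root _ _ _ _⟩
  have hN : 3 ≤ q ^ n := by
    have e := (AlgEquiv.ofBijective ψ hψ).toLinearEquiv.finrank_eq
    rw [(AdjoinRoot.powerBasis (minpoly.ne_zero (Algebra.IsIntegral.isIntegral α))).finrank] at e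
    rw [AdjoinRoot.powerBasis_dim, hy, natDegree_X_pow_sub_C] at e
    omega
  have hq0 : 0 < q ^ n := by omega
  obtain ⟨a, ha⟩ := IsAlgClosed.exists_pow_nat_eq (algebraMap k K y) hq0
  haveI : Nontrivial (A K 3) := AdjoinRoot.nontrivial _ (by simp)
  haveI : ExpChar K q := expChar_of_injective_algebraMap (algebraMap k K).injective q
  haveI : ExpChar (A K 3) q := expChar_of_injective_algebraMap (algebraMap K (A K 3)).injective q
  let t : A K 3 := algebraMap K (A K 3) a + AdjoinRoot.root _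
  have ht : aeval t (minpoly k α) = 0 := by
    rw [hy, map_sub, aeval_X_pow, aeval_C, IsScalarTower.algebraMap_apply k K (A K 3), ← ha]
    simp only [t, add_pow_expChar_pow, map_pow]
    rw [add_sub_cancel_left, ← AdjoinRoot.mk_X, ← map_pow, AdjoinRoot.mk_eq_zero]
    exact pow_dvd_pow _ hN
  let h : κ →ₐ[k] A K 3 :=
    (AdjoinRoot.liftAlgHom _ (Algebra.ofId k _) t ht).comp (AlgEquiv.ofBijective ψ hψ).symm.toAlgHom
  refine ⟨h, α, ?_⟩
  have hα : h α = t := by
    have e : (AlgEquiv.ofBijective ψ hψ).symm α = AdjoinRoot.root _ :=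
      (AlgEquiv.ofBijective ψ hψ).injective ((AlgEquiv.apply_symm_apply _ _).trans
        (AdjoinRoot.liftAlgHom_root (minpoly k α) (Algebra.ofId k κ) α (minpoly.aeval k α)).symm)
    show AdjoinRoot.liftAlgHom _ _ t ht ((AlgEquiv.ofBijective ψ hψ).symm α) = t
    rw [e]
    exact AdjoinRoot.liftAlgHom_root ..
  rw [hα]
  intro hh
  have ht' : t = AdjoinRoot.mk _ (C a + X) := by rw [map_add, AdjoinRoot.mk_C, AdjoinRoot.mk_X]; rfl
  rw [ht', red_mk] at hh
  have he : e2 (AdjoinRoot.mk ((X : K[X]) ^ 2) (C a + X)) = AdjoinRoot.mk ((X : K[X]) ^ 2) (C a) := by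
    simp [e2, aug, AdjoinRoot.algebraMap_eq]
  rw [he, AdjoinRoot.mk_eq_mk, sub_add_cancel_left, dvd_neg, X_pow_dvd_iff] at hh
  exact one_ne_zero ((coeff_X_one).symm.trans (hh 1 one_lt_two))

end Point

end Groth.Agent.H48.ProjLineJet
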