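import Groth.Agent.H34.HOne
import Groth.Agent.Lib.Cyc.Dev.SchemeEquiv
import Groth.Agent.Lib.ProjCoh.Coherent
import Groth.Agent.Lib.ProjKoszul.Reg2
import Groth.Agent.Lib.Perfect.Coherent
import Groth.Agent.Lib.ProjSpace.Dim
import Groth.Agent.Lib.KunnethAD.Main
import Groth.Agent.Lib.IntTheory.BaseChange
import Groth.Agent.Lib.Snapper.Twist
import Groth.Agent.Lib.Snapper.Chi
import Groth.Agent.Lib.Ample.External
import Groth.Agent.Lib.DepthTwist.Embed

/-!
# Asymptotic vanishing above the index, boxes, and restriction to the diagonal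
-/

set_option autoImplicit false
set_option linter.style.haveILetI false
universe u

open CategoryTheory CategoryTheory.Limits AlgebraicGeometry
open Groth.Agent.Lib
open Groth.Agent.Lib.TensorMod.Basic (comm assoc tensorIso leftUnit rightUnit tensorBy)
open Groth.Agent.Lib.TensorMod.Invertible (isInvertible_tensorPow isInvertible_tensorMod)

namespace Groth.Agent.H48.QAmpleBox

noncomputable section

variable {k : Type u} [Field k]

theorem pow_inv_pair {X : Scheme.{u}} {H H' : X.Modules}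
    (e : CohB1.tensorMod H H' ≅ Coh.structureModule X) (n : ℕ) :
    Nonempty (CohB1.tensorMod (CohB1.tensorPow H n) (CohB1.tensorPow H' n) ≅ Coh.structureModule X) :=
  ⟨(Ample.Pow.powTensor H H' n).symm ≪≫ Ample.Pow.powIso e n ≪≫ Ample.Pow.powUnit X n⟩

/-- Cohomology of a finite sum. -/
theorem subsingleton_sigma {X : Scheme.{u}} (c : ℕ) (T : X.Modules) (q : ℕ)
    (h : Subsingleton (Coh.HH X T q)) : Subsingleton (Coh.HH X (∐ fun _ : Fin c => T) q) := by
  haveI : HasFiniteBiproducts X.Modules := HasFiniteBiproducts.of_hasFiniteCoproducts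
  refine H34.HOne.ext_of_iso.{u} _ q ((H34.HOne.ab X).mapIso (biproduct.isoCoproduct fun _ : Fin c => T)) ?_
  refine H34.HOne.ext_of_sum.{u} _ q Finset.univ
    (fun i => (H34.HOne.ab X).map (biproduct.π (fun _ : Fin c => T) i))
    (fun i => (H34.HOne.ab X).map (biproduct.ι (fun _ : Fin c => T) i)) ?_ fun _ => h
  simp only [← Functor.map_comp, ← Functor.map_sum, biproduct.total]
  exact ((H34.HOne.ab X).map_id _).symm

/-- Vanishing above `e` for the negative powers of an ample module propagates to all coherent modules. -/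
theorem eventually_vanish {P : Scheme.{u}} [P.Over (Spec (CommRingCat.of k))]
    [IsProper (P ↘ Spec (CommRingCat.of k))] {H H' N : P.Modules} (hH : CohB1.IsAmple H)
    (eH : CohB1.tensorMod H H' ≅ Coh.structureModule P) (hN : PicF.IsInvertible N) (e : ℕ)
    (h : ∀ t j : ℕ, e < j → ∃ n₀, ∀ n, n₀ ≤ n →
      Subsingleton (Coh.HH P (CohB1.tensorMod (CohB1.tensorPow H' t) (CohB1.tensorPow N n)) j)) :
    ∀ F : P.Modules, Coh.IsCoh F → ∀ j, e < j → ∃ n₀, ∀ n, n₀ ≤ n →
      Subsingleton (Coh.HH P (CohB1.tensorMod (CohB1.tensorPow N n) F) j) := by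
  haveI := Curves.GlobalSections.isNoetherian_of_proper k P
  obtain ⟨d, hd⟩ : ∃ d : ℕ, topologicalKrullDim P ≤ d := by
    obtain ⟨N, r, ι, -, hι, -, -⟩ := DepthTwist.Embed.exists_embedding (k := k) hH
    haveI := hι
    exact ⟨r, ι.isClosedEmbedding.isInducing.topologicalKrullDim_le.trans
      (ProjSpace.Dim.topologicalKrullDim_projSpace_of_field r k).le⟩
  suffices ∀ r : ℕ, ∀ F : P.Modules, Coh.IsCoh F → ∀ j, e < j → d + 1 ≤ j + r → ∃ n₀, ∀ n, n₀ ≤ n →
      Subsingleton (Coh.HH P (CohB1.tensorMod (CohB1.tensorPow N n) F) j) from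
    fun F hF j hj => this (d + 1) F hF j hj (by omega)
  intro r
  induction r with
  | zero => exact fun F _ j _ hr => ⟨0, fun n _ => Snapper.Chi.subsingleton_HH_of_lt hd _ (by omega)⟩
  | succ r ih =>
    intro F hF j hj hr
    obtain ⟨m, hm⟩ := Ample.GG.eventually_genAt_twist hH F hF
    have hP := isInvertible_tensorPow hH.1 m
    have hc : Coh.IsCoh (CohB1.tensorMod F (CohB1.tensorPow H m)) := CurveBundle.Twist.isCoh hP hF
    obtain ⟨c, q, hq⟩ := ProjCoh.Gen.exists_epi_freeMod hc (hm m le_rfl)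
    obtain ⟨i⟩ := pow_inv_pair eH m
    have hD : PicF.IsInvertible (CohB1.tensorPow H' m) :=
      TensorMod.TensorInv.isInvertible_of_tensor_iso (comm _ _ ≪≫ i)
    haveI := TensorMod.LocFree.preservesFinCoproducts (tensorBy (CohB1.tensorPow H' m)) (Fin c)
    let eE : (tensorBy (CohB1.tensorPow H' m)).obj (FlatMod.freeMod P c) ≅
        ∐ fun _ : Fin c => CohB1.tensorPow H' m :=
      PreservesCoproduct.iso (tensorBy (CohB1.tensorPow H' m)) _ ≪≫ Sigma.mapIso fun _ => leftUnit _
    obtain ⟨π, hπ⟩ := @ProjCoh.Coherent.exists_epi_of_twist P (CohB1.tensorPow H m)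
      (CohB1.tensorPow H' m) _ F _ i q hq eE
    haveI := hπ
    have hE : Coh.IsCoh (∐ fun _ : Fin c => CohB1.tensorPow H' m) :=
      CohBasics.Closure.isCoh_of_iso eE (CurveBundle.Twist.isCoh hD (Perfect.Coherent.isCoh_freeMod P c))
    have hK : Coh.IsCoh (kernel π) := CohBasics.Closure.isCoh_kernel π hE hF.1
    obtain ⟨n₁, h₁⟩ := ih (kernel π) hK (j + 1) (by omega) (by omega)
    obtain ⟨n₂, h₂⟩ := h m j hj
    refine ⟨max n₁ n₂, fun n hn => ?_⟩
    have hNn := isInvertible_tensorPow hN n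
    let S : ShortComplex P.Modules := ShortComplex.mk (kernel.ι π) π (kernel.condition π)
    have hS : S.ShortExact :=
      { exact := ShortComplex.exact_of_f_is_kernel _ (kernelIsKernel π), epi_g := hπ }
    refine ProjKoszul.Reg2.sub₃ k (Snapper.Twist.twistSeq_shortExact hNn hS) ?_
      (h₁ n ((le_max_left _ _).trans hn))
    show Subsingleton (Coh.HH P (CohB1.tensorMod (CohB1.tensorPow N n)
      (∐ fun _ : Fin c => CohB1.tensorPow H' m)) j)
    haveI := TensorMod.LocFree.preservesFinCoproducts (tensorBy (CohB1.tensorPow N n)) (Fin c)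
    refine ProjKoszul.Chase.subsingleton_of_iso k
      (comm _ _ ≪≫ PreservesCoproduct.iso (tensorBy (CohB1.tensorPow N n))
        (fun _ : Fin c => CohB1.tensorPow H' m)).symm ?_
    exact subsingleton_sigma c _ j (h₂ n ((le_max_right _ _).trans hn))

/-- Middle four exchange. -/
def four {X : Scheme.{u}} (a b c d : X.Modules) :
    CohB1.tensorMod (CohB1.tensorMod a b) (CohB1.tensorMod c d) ≅
      CohB1.tensorMod (CohB1.tensorMod a c) (CohB1.tensorMod b d) :=
  assoc a b (CohB1.tensorMod c d) ≪≫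
    tensorIso (Iso.refl a) ((assoc b c d).symm ≪≫ tensorIso (comm b c) (Iso.refl d) ≪≫ assoc c b d) ≪≫
      (assoc a c (CohB1.tensorMod b d)).symm

/-- Pulling back along a section of a morphism and back. -/
def sectionIso {X P : Scheme.{u}} (Δ : X ⟶ P) (p : P ⟶ X) (h : Δ ≫ p = 𝟙 X) (L : X.Modules) :
    (Scheme.Modules.pullback Δ).obj ((Scheme.Modules.pullback p).obj L) ≅ L :=
  (Scheme.Modules.pullbackComp Δ p).app L ≪≫ (Scheme.Modules.pullbackCongr h).app L ≪≫
    (Scheme.Modules.pullbackId X).app L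

/-- `(L₁ ⊗ L₂)^n` has no cohomology above `i₁ + i₂` for `n ≫ 0`. -/
theorem tensor_vanish {X : Scheme.{u}} [X.Over (Spec (CommRingCat.of k))]
    [IsProper (X ↘ Spec (CommRingCat.of k))] {H H' L₁ L₂ : X.Modules} (hH : CohB1.IsAmple H)
    (eH : CohB1.tensorMod H H' ≅ Coh.structureModule X) (hL₁ : PicF.IsInvertible L₁)
    (hL₂ : PicF.IsInvertible L₂) (i₁ i₂ : ℕ)
    (h₁ : ∀ t j : ℕ, i₁ < j → ∃ n₀, ∀ n, n₀ ≤ n →
      Subsingleton (Coh.HH X (CohB1.tensorMod (CohB1.tensorPow H' t) (CohB1.tensorPow L₁ n)) j))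
    (h₂ : ∀ t j : ℕ, i₂ < j → ∃ n₀, ∀ n, n₀ ≤ n →
      Subsingleton (Coh.HH X (CohB1.tensorMod (CohB1.tensorPow H' t) (CohB1.tensorPow L₂ n)) j))
    (j : ℕ) (hj : i₁ + i₂ < j) :
    ∃ n₀, ∀ n, n₀ ≤ n → Subsingleton (Coh.HH X (CohB1.tensorPow (CohB1.tensorMod L₁ L₂) n) j) := by
  let f := X ↘ Spec (CommRingCat.of k)
  haveI := Curves.GlobalSections.isNoetherian_of_proper k X
  let p := pullback.fst f f
  let q := pullback.snd f f
  letI : (pullback f f).Over (Spec (CommRingCat.of k)) := ⟨p ≫ f⟩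
  haveI : IsProper ((pullback f f) ↘ Spec (CommRingCat.of k)) := inferInstanceAs (IsProper (p ≫ f))
  let N := CohB1.tensorMod ((Scheme.Modules.pullback p).obj L₁) ((Scheme.Modules.pullback q).obj L₂)
  let HP := CohB1.tensorMod ((Scheme.Modules.pullback p).obj H) ((Scheme.Modules.pullback q).obj H)
  let HP' := CohB1.tensorMod ((Scheme.Modules.pullback p).obj H') ((Scheme.Modules.pullback q).obj H')
  have hH'i : PicF.IsInvertible H' :=
    TensorMod.TensorInv.isInvertible_of_tensor_iso (comm _ _ ≪≫ eH)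
  have hN : PicF.IsInvertible N :=
    isInvertible_tensorMod (PicLoc.isInvertible_pullback p hL₁) (PicLoc.isInvertible_pullback q hL₂)
  have hHP : CohB1.IsAmple HP := by
    refine (Ample.RelAmple.isRelAmple_iff_isAmple (p ≫ f)).1 ?_
    refine Ample.External.isRelAmple_external p q (p ≫ f) (f₁ := f) (f₂ := f) rfl
      (pullback.condition (f := f) (g := f)).symm ?_
      ((Ample.RelAmple.isRelAmple_iff_isAmple f).2 hH) ((Ample.RelAmple.isRelAmple_iff_isAmple f).2 hH)
    have : ∀ w, pullback.lift p q w = 𝟙 (pullback f f) := fun w => by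
      apply pullback.hom_ext <;> simp [p, q]
    rw [this]
    infer_instance
  let eHP : CohB1.tensorMod HP HP' ≅ Coh.structureModule (pullback f f) :=
    four _ _ _ _ ≪≫ tensorIso
      ((TensorMod.Pullback.pullbackTensorIso p H H').symm ≪≫ (Scheme.Modules.pullback p).mapIso eH ≪≫
        PicLoc.pullbackStructureIso p)
      ((TensorMod.Pullback.pullbackTensorIso q H H').symm ≪≫ (Scheme.Modules.pullback q).mapIso eH ≪≫
        PicLoc.pullbackStructureIso q) ≪≫ leftUnit _
  have key : ∀ t d : ℕ, i₁ + i₂ < d → ∃ n₀, ∀ n, n₀ ≤ n →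
      Subsingleton (Coh.HH (pullback f f)
        (CohB1.tensorMod (CohB1.tensorPow HP' t) (CohB1.tensorPow N n)) d) := by
    intro t d hd
    choose a ha using fun j (hj : i₁ < j) => h₁ t j hj
    choose b hb using fun j (hj : i₂ < j) => h₂ t j hj
    refine ⟨(Finset.range (d + 1)).sup fun j =>
      (if hj : i₁ < j then a j hj else 0) + (if hj : i₂ < j then b j hj else 0), fun n hn => ?_⟩
    have hn' : ∀ j : ℕ, j ≤ d → (if hj : i₁ < j then a j hj else 0) + (if hj : i₂ < j then b j hj else 0) ≤ n :=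
      fun j hj => le_trans (Finset.le_sup (f := fun j =>
        (if hj : i₁ < j then a j hj else 0) + (if hj : i₂ < j then b j hj else 0))
        (Finset.mem_range.2 (by omega))) hn
    have hq : ∀ {L : X.Modules}, PicF.IsInvertible L →
        Coh.IsQCoh (CohB1.tensorMod (CohB1.tensorPow H' t) (CohB1.tensorPow L n)) := fun hL =>
      TensorMod.QCohInv.isQCoh_of_isInvertible
        (isInvertible_tensorMod (isInvertible_tensorPow hH'i t) (isInvertible_tensorPow hL n))
    haveI := hq (L := L₁) hL₁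
    haveI := hq (L := L₂) hL₂
    obtain ⟨E⟩ := KunnethAD.nonempty_kunneth_linear k X X
      (CohB1.tensorMod (CohB1.tensorPow H' t) (CohB1.tensorPow L₁ n))
      (CohB1.tensorMod (CohB1.tensorPow H' t) (CohB1.tensorPow L₂ n))
      (IntTheory.BaseChange.isFlatOver (k := k) _) (fun _ => inferInstance) d
    let e : CohB1.tensorMod (CohB1.tensorPow HP' t) (CohB1.tensorPow N n) ≅
        CohB1.tensorMod
          ((Scheme.Modules.pullback p).obj (CohB1.tensorMod (CohB1.tensorPow H' t) (CohB1.tensorPow L₁ n)))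
          ((Scheme.Modules.pullback q).obj (CohB1.tensorMod (CohB1.tensorPow H' t) (CohB1.tensorPow L₂ n))) :=
      tensorIso (Ample.Pow.powTensor _ _ t) (Ample.Pow.powTensor _ _ n) ≪≫ four _ _ _ _ ≪≫
        tensorIso
          (tensorIso (Ample.Pow.pullbackPow p H' t).symm (Ample.Pow.pullbackPow p L₁ n).symm ≪≫
            (TensorMod.Pullback.pullbackTensorIso p _ _).symm)
          (tensorIso (Ample.Pow.pullbackPow q H' t).symm (Ample.Pow.pullbackPow q L₂ n).symm ≪≫
            (TensorMod.Pullback.pullbackTensorIso q _ _).symm)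
    refine ProjKoszul.Chase.subsingleton_of_iso k e.symm ?_
    refine @Equiv.subsingleton _ _ E.toEquiv ?_
    refine @Equiv.subsingleton _ _ (DirectSum.linearEquivFunOnFintype k _ _).toEquiv ?_
    refine @Pi.instSubsingleton _ _ fun r => ?_
    have hr : r.1.1 + r.1.2 = d := Finset.HasAntidiagonal.mem_antidiagonal.1 r.2
    rcases lt_or_ge i₁ r.1.1 with h | h
    · have := hn' r.1.1 (by omega)
      rw [dif_pos h] at this
      haveI := ha r.1.1 h n (by omega)
      exact subsingleton_of_forall_eq 0 fun x => x.induction_on rfl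
        (fun u v => by rw [Subsingleton.elim u 0, TensorProduct.zero_tmul])
        (fun u v hu hv => by rw [hu, hv, add_zero])
    · have h' : i₂ < r.1.2 := by omega
      have := hn' r.1.2 (by omega)
      rw [dif_pos h'] at this
      haveI := hb _ h' n (by omega)
      exact subsingleton_of_forall_eq 0 fun x => x.induction_on rfl
        (fun u v => by rw [Subsingleton.elim v 0, TensorProduct.tmul_zero])
        (fun u v hu hv => by rw [hu, hv, add_zero])
  let Δ := pullback.diagonal f
  have hΔp : Δ ≫ p = 𝟙 X := pullback.diagonal_fst f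
  have hΔq : Δ ≫ q = 𝟙 X := pullback.diagonal_snd f
  obtain ⟨n₀, hn₀⟩ := eventually_vanish (k := k) hHP eHP hN (i₁ + i₂) key
    ((Coh.push Δ).obj (Coh.structureModule X))
    (Cyc.Dev.SchemeEquiv.isCoh_push Δ (Snapper.Twist.isCoh_structureModule X)) j hj
  refine ⟨n₀, fun n hn => ?_⟩
  have hNn := isInvertible_tensorPow hN n
  let e₁ : CohB1.tensorMod (CohB1.tensorPow N n) ((Coh.push Δ).obj (Coh.structureModule X)) ≅
      (Coh.push Δ).obj
        (CohB1.tensorMod ((Scheme.Modules.pullback Δ).obj (CohB1.tensorPow N n)) (Coh.structureModule X)) :=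
    (Modules.ProjFormula.projIso Δ (E := CohB1.tensorPow N n)
      (Modules.DualBasis.hasDBases_of_isFinLocFree (TensorMod.LocFree.of_rank
        (TensorMod.LocFree.of_isInvertible hNn)))).app (Coh.structureModule X)
  let e₂ : CohB1.tensorMod ((Scheme.Modules.pullback Δ).obj (CohB1.tensorPow N n)) (Coh.structureModule X) ≅
      CohB1.tensorPow (CohB1.tensorMod L₁ L₂) n :=
    rightUnit _ ≪≫ Ample.Pow.pullbackPow Δ N n ≪≫ Ample.Pow.powIso
      (TensorMod.Pullback.pullbackTensorIso Δ _ _ ≪≫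
        tensorIso (sectionIso Δ p hΔp L₁) (sectionIso Δ q hΔq L₂)) n
  have hq : (CohB1.tensorPow (CohB1.tensorMod L₁ L₂) n).IsQuasicoherent :=
    TensorMod.QCohInv.isQCoh_of_isInvertible (isInvertible_tensorPow (isInvertible_tensorMod hL₁ hL₂) n)
  refine @Equiv.subsingleton _ _ (ZarCoh.Linear.affineLinearEquiv (A := k) Δ
    (show Δ ≫ (p ≫ f) = f by rw [← Category.assoc, hΔp, Category.id_comp]) _ j).symm.toEquiv ?_
  exact ProjKoszul.Chase.subsingleton_of_iso k (e₁ ≪≫ (Coh.push Δ).mapIso e₂) (hn₀ n hn)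


end

end Groth.Agent.H48.QAmpleBox
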