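import Groth.Agent.H48.QAmpleBox
import Groth.Agent.S17508
import Groth.Agent.H52.HilbertRoots

/-!
# Negative twists of high powers of a line bundle on an abelian variety keep the index
-/

set_option autoImplicit false
set_option linter.style.haveILetI false
universe u

open CategoryTheory CategoryTheory.Limits AlgebraicGeometry
open Groth.Agent.Lib
open Groth.Agent.Lib.TensorMod.Basic (comm assoc tensorIso leftUnit rightUnit tensorBy)
open Groth.Agent.H48.QAmpleBox (four pow_inv_pair)

namespace Groth.Agent.H48.QAmpleTwist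

noncomputable section

variable {k : Type u} [Field k]

section AV

open MonoidalCategory CartesianMonoidalCategory MonObj

variable {A : Over (Spec (CommRingCat.of k))} [IsAlgClosed k] [GrpObj A] [IsProper A.hom]
  [GeometricallyIntegral A.hom] [Smooth A.hom]

/-- Negative twists of high powers keep the index. -/
theorem twist_vanish {g : ℕ} (hg : topologicalKrullDim A.left = g) {L H H' : A.left.Modules}
    (hL : PicF.IsInvertible L) {i : ℕ} (hc : H52.BaseToClosure.Conc L i) (hH : CohB1.IsAmple H)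
    (eH : CohB1.tensorMod H H' ≅ Coh.structureModule A.left) (t j : ℕ) (hj : i < j) :
    ∃ n₀, ∀ n, n₀ ≤ n →
      Subsingleton (Coh.HH A.left (CohB1.tensorMod (CohB1.tensorPow H' t) (CohB1.tensorPow L n)) j) := by
  letI : A.left.Over (Spec (CommRingCat.of k)) := ⟨A.hom⟩
  haveI : IsProper (A.left ↘ Spec (CommRingCat.of k)) := ‹IsProper A.hom›
  haveI : IsLocallyNoetherian A.left := LocallyOfFiniteType.isLocallyNoetherian A.hom
  let e := TensorMod.Invertible.tensorDualIso hL
  have hL' := TensorMod.Invertible.isInvertible_dual hL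
  obtain ⟨hig, hc'⟩ := S17508.result k A g hg L _ hL ⟨e⟩ i hc.1 hc.2
  obtain ⟨Φ, -, hΦ⟩ := H52.HilbertPoly.exists_poly_twist k hg hH.1
    (Ample.GG.isCoh_of_isInvertible hL')
  have D : H52.HilbertIndex.Data g (TensorMod.Dual.dual L) H Φ := ⟨hg, hL', hH, fun n => by
    rw [hΦ]
    exact congrArg _ ((H52.IsogenyEuler.isAdd_euler (k := k)).iso (comm _ _))⟩
  obtain ⟨⟨δ, hδ, hJ⟩, -⟩ := H52.HilbertRoots.J_zero D hc'
  obtain ⟨b, hb⟩ := exists_nat_gt ((t : ℝ) / δ)
  refine ⟨b + 1, fun n hn => ?_⟩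
  have hnb : (b : ℝ) + 1 ≤ n := by exact_mod_cast hn
  have hnpos : (0 : ℝ) < n := lt_of_lt_of_le (by positivity) hnb
  have hlt : |(t : ℝ) / n - 0| < δ := by
    rw [sub_zero, abs_of_nonneg (by positivity), div_lt_iff₀ hnpos]
    rw [div_lt_iff₀ hδ] at hb
    nlinarith
  have hM := hJ n t (by omega) hlt
  obtain ⟨u⟩ := pow_inv_pair eH t
  obtain ⟨v⟩ := pow_inv_pair (comm _ _ ≪≫ e) n
  have hu : CohB1.tensorMod (H52.TwoTwistBound.Tw (TensorMod.Dual.dual L) H n t)
      (CohB1.tensorMod (CohB1.tensorPow H' t) (CohB1.tensorPow L n)) ≅ Coh.structureModule A.left :=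
    tensorIso (comm _ _) (Iso.refl _) ≪≫ four _ _ _ _ ≪≫ tensorIso u v ≪≫ leftUnit _
  obtain ⟨-, hv, -⟩ := S17508.result k A g hg _ _
    (H52.TwoTwistBound.isInvertible_tw hL' hH.1 n t) ⟨hu⟩ (g - i) hM.1 hM.2
  exact hv j (by omega)

end AV

end

end Groth.Agent.H48.QAmpleTwist
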