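import Groth.Agent.H48.Abhy
import Groth.Agent.H48.EppInsep
import Groth.Agent.H48.EtUnram
import Mathlib.RingTheory.Etale.StandardEtale

/-!
Tame ramification at a fixed valuation subring of a big field: roots of uniformizers and of units.
-/

set_option autoImplicit false
set_option linter.style.haveILetI false
universe u
open IsLocalRing EtRam Polynomial
open scoped IntermediateField

namespace Groth.Agent.H48.Tame

variable {A K Ω : Type u} [CommRing A] [IsDomain A] [IsDiscreteValuationRing A] [Field K] [Algebra A K]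
  [IsFractionRing A K] [Field Ω] [Algebra K Ω] {W : ValuationSubring Ω}
  (hW : Dominates A ((algebraMap K Ω).comp (algebraMap A K)) W)

variable (A W) in
/-- Tameness over `A` of the trace of `W` on `E`. -/
def Tm (E : IntermediateField K Ω) : Prop :=
  Abhy.S W (bot_le : ⊥ ≤ E) ∧ (Abhy.e W (bot_le : ⊥ ≤ E) : ResidueField A) ≠ 0

include hW

theorem of_le {E F : IntermediateField K Ω} (h : E ≤ F) [FiniteDimensional K F] (hF : Tm A W F) : Tm A W E := by
  obtain ⟨hs, he⟩ := hF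
  refine ⟨((Abhy.S_iff hW bot_le h).1 hs).1, fun h0 => he ?_⟩
  rw [Abhy.e_mul hW bot_le h, Nat.cast_mul, h0, zero_mul]

theorem natCast_bot {n : ℕ} (hn : (n : ResidueField A) ≠ 0) :
    (n : ResidueField (Abhy.V W (⊥ : IntermediateField K Ω))) ≠ 0 :=
  letI : Algebra A (Abhy.V W (⊥ : IntermediateField K Ω)) := (Abhy.base hW ⊥).toAlgebra
  haveI : IsLocalHom (algebraMap A (Abhy.V W (⊥ : IntermediateField K Ω))) :=
    DomVal.isLocalHom_of_dominates (Abhy.dominates hW ⊥)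
  ((Abhy.base_iff hW (⊥ : IntermediateField K Ω)).2.2.2 n hn)

/-- The comparison of an abstract finite extension with its image. -/
theorem field_iff {F : Type u} [Field F] [Algebra K F] [FiniteDimensional K F] (ι : F →ₐ[K] Ω)
    (hV : Dominates A ((algebraMap K F).comp (algebraMap A K)) (W.comap ι.toRingHom)) :
    letI : Algebra A (W.comap ι.toRingHom) := (RingHom.codRestrict _ (W.comap ι.toRingHom) hV.1).toAlgebra
    ∀ [IsLocalHom (algebraMap A (W.comap ι.toRingHom))],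
    Ideal.ramificationIdx' (maximalIdeal A) (maximalIdeal (W.comap ι.toRingHom)) =
        Abhy.e W (bot_le : ⊥ ≤ ι.fieldRange) ∧
      (Algebra.IsSeparable (ResidueField A) (ResidueField (W.comap ι.toRingHom)) ↔
        Abhy.S W (bot_le : ⊥ ≤ ι.fieldRange)) := by
  intro _
  letI : Algebra A (W.comap ι.toRingHom) := (RingHom.codRestrict _ (W.comap ι.toRingHom) hV.1).toAlgebra
  haveI : FiniteDimensional K ι.fieldRange := ι.toLinearMap.finiteDimensional_range
  haveI := Abhy.isDVR hW ι.fieldRange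
  haveI : IsDiscreteValuationRing (W.comap ι.toRingHom) := FSExt.isDVR _ hV
  let ψ : W.comap ι.toRingHom →+* Abhy.V W ι.fieldRange :=
    RingHom.codRestrict (ι.rangeRestrict.toRingHom.comp (W.comap ι.toRingHom).subtype) (Abhy.V W ι.fieldRange)
      fun x => x.2
  letI : Algebra A (Abhy.V W ι.fieldRange) := (Abhy.base hW ι.fieldRange).toAlgebra
  haveI : IsLocalHom (algebraMap A (Abhy.V W ι.fieldRange)) :=
    DomVal.isLocalHom_of_dominates (Abhy.dominates hW _)
  letI : Algebra (W.comap ι.toRingHom) (Abhy.V W ι.fieldRange) := ψ.toAlgebra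
  haveI : IsScalarTower A (W.comap ι.toRingHom) (Abhy.V W ι.fieldRange) := IsScalarTower.of_algebraMap_eq fun a =>
    Subtype.ext (Subtype.ext (ι.commutes (algebraMap A K a)).symm)
  have hbi : Function.Bijective ψ := by
    refine ⟨fun x y h => Subtype.ext (ι.injective ?_), fun y => ?_⟩
    · exact congrArg (fun w : Abhy.V W ι.fieldRange => ((w : ι.fieldRange) : Ω)) h
    · obtain ⟨x, hx⟩ := (y : ι.fieldRange).2
      have hy : ((y : ι.fieldRange) : Ω) ∈ W := y.2
      exact ⟨⟨x, show ι x ∈ W from (show ι x = ((y : ι.fieldRange) : Ω) from hx) ▸ hy⟩, Subtype.ext (Subtype.ext hx)⟩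
  haveI : IsLocalHom (algebraMap (W.comap ι.toRingHom) (Abhy.V W ι.fieldRange)) :=
    ⟨fun x hx => by
      obtain ⟨y, hy⟩ := hx.exists_right_inv
      obtain ⟨x', rfl⟩ := hbi.2 y
      exact IsUnit.of_mul_eq_one x' (hbi.1 (by rw [map_mul, map_one]; exact hy))⟩
  have hwu : IsWeaklyUnramified (W.comap ι.toRingHom) (Abhy.V W ι.fieldRange) := by
    refine le_antisymm (Ideal.map_le_iff_le_comap.2 fun x hx => map_nonunit _ _ hx) fun w hw => ?_
    obtain ⟨x, rfl⟩ := hbi.2 w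
    exact Ideal.mem_map_of_mem _ fun hx => hw (hx.map (algebraMap (W.comap ι.toRingHom) (Abhy.V W ι.fieldRange)))
  obtain ⟨hbe, -, hbs, -⟩ := Abhy.base_iff hW ι.fieldRange
  have hAV : Function.Injective (algebraMap A (W.comap ι.toRingHom)) := fun a b h =>
    IsFractionRing.injective A K ((algebraMap K F).injective (congrArg Subtype.val h))
  have he := DomVal.ramificationIdx_mul hAV hbi.1
  rw [(DomVal.isWeaklyUnramified_iff hbi.1).1 hwu, mul_one, hbe] at he
  refine ⟨he.symm, ?_⟩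
  rw [← hbs]
  haveI : IsScalarTower (ResidueField A) (ResidueField (W.comap ι.toRingHom)) (ResidueField (Abhy.V W ι.fieldRange)) :=
    IsScalarTower.of_algebraMap_eq fun x => by
      obtain ⟨x, rfl⟩ := residue_surjective x
      exact congrArg _ (IsScalarTower.algebraMap_apply A (W.comap ι.toRingHom) (Abhy.V W ι.fieldRange) x)
  haveI : Algebra.IsSeparable (ResidueField (W.comap ι.toRingHom)) (ResidueField (Abhy.V W ι.fieldRange)) := by
    refine ⟨fun x => ?_⟩
    obtain ⟨x, rfl⟩ := residue_surjective x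
    obtain ⟨y, rfl⟩ := hbi.2 x
    exact isSeparable_algebraMap (residue (W.comap ι.toRingHom) y)
  exact ⟨fun _ => Algebra.IsSeparable.trans (ResidueField A) (ResidueField (W.comap ι.toRingHom)) _,
    fun _ => Algebra.isSeparable_tower_bot_of_isSeparable (ResidueField A) (ResidueField (W.comap ι.toRingHom))
      (ResidueField (Abhy.V W ι.fieldRange))⟩

theorem mem_of_pow {z : Ω} {n : ℕ} (hn : 0 < n) {a : A} (hz : z ^ n = algebraMap K Ω (algebraMap A K a)) : z ∈ W := by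
  refine (W.valuation_le_one_iff z).1 ((pow_le_one_iff hn.ne').1 ?_)
  rw [← map_pow, hz]
  exact (W.valuation_le_one_iff _).2 (hW.1 a)

/-- A root of a uniformizer of order invertible in the residue field. -/
theorem uniformizer_root {π : A} (hπ : Irreducible π) {n : ℕ} (hn : 0 < n) (z : Ω)
    (hz : z ^ n = algebraMap K Ω (algebraMap A K π)) :
    FiniteDimensional K K⟮z⟯ ∧ Abhy.e W (bot_le : ⊥ ≤ K⟮z⟯) = n ∧ Abhy.S W (bot_le : ⊥ ≤ K⟮z⟯) ∧
      ∃ r : Abhy.V W K⟮z⟯, ((r : K⟮z⟯) : Ω) = z ∧ Irreducible r := by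
  have hint : IsIntegral K z := IsIntegral.of_pow hn (by rw [hz]; exact isIntegral_algebraMap)
  haveI : FiniteDimensional K K⟮z⟯ := IntermediateField.adjoin.finiteDimensional hint
  have hle : Module.finrank K K⟮z⟯ ≤ n := by
    rw [IntermediateField.adjoin.finrank hint]
    refine (natDegree_le_of_dvd (minpoly.dvd K z (p := X ^ n - C (algebraMap A K π)) (by simp [hz]))
      (monic_X_pow_sub_C _ hn.ne').ne_zero).trans (natDegree_X_pow_sub_C).le
  haveI := Abhy.isDVR hW K⟮z⟯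
  letI : Algebra A (Abhy.V W K⟮z⟯) := (Abhy.base hW K⟮z⟯).toAlgebra
  haveI hloc : IsLocalHom (algebraMap A (Abhy.V W K⟮z⟯)) := DomVal.isLocalHom_of_dominates (Abhy.dominates hW _)
  have hinj : Function.Injective (algebraMap A (Abhy.V W K⟮z⟯)) := fun a b h =>
    IsFractionRing.injective A K ((algebraMap K _).injective (congrArg Subtype.val h))
  let r : Abhy.V W K⟮z⟯ := ⟨⟨z, IntermediateField.mem_adjoin_simple_self K z⟩, mem_of_pow hW hn hz⟩
  have hrn : r ^ n = algebraMap A (Abhy.V W K⟮z⟯) π := Subtype.ext (Subtype.ext (by push_cast; exact hz))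
  obtain ⟨τ, hτ⟩ := IsDiscreteValuationRing.exists_irreducible (Abhy.V W K⟮z⟯)
  obtain ⟨h0, v, hv⟩ := DVRExt.exists_unit_mul_pow hinj hπ hτ
  have hb := FSExt.ramificationIdx_le_finrank (B := A) (L := K) (Abhy.V W K⟮z⟯) (Abhy.dominates hW _)
  obtain ⟨hbe, -, hbs, -⟩ := Abhy.base_iff hW K⟮z⟯
  set e := Ideal.ramificationIdx' (maximalIdeal A) (maximalIdeal (Abhy.V W K⟮z⟯))
  have hb' : e ≤ Module.finrank K K⟮z⟯ := hb
  have hr0 : r ≠ 0 := fun h => (map_ne_zero_iff _ hinj).2 hπ.ne_zero (by rw [← hrn, h, zero_pow hn.ne'])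
  obtain ⟨m, w, hm⟩ := IsDiscreteValuationRing.eq_unit_mul_pow_irreducible hr0 hτ
  have hme : m * n = e := by
    refine IsDiscreteValuationRing.unit_mul_pow_congr_pow hτ hτ (w ^ n) v _ _ ?_
    rw [← hv, ← hrn, hm, mul_pow, ← pow_mul, Units.val_pow_eq_pow_val]
  have hm1 : m = 1 := by
    have hm0 : m ≠ 0 := fun h => h0 (by rw [← hme, h, zero_mul])
    by_contra h
    have : 2 * n ≤ m * n := Nat.mul_le_mul_right n (by omega)
    omega
  have hen : e = n := by rw [← hme, hm1, one_mul]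
  have hirr : Irreducible r := by rw [hm, hm1, pow_one]; exact (irreducible_units_mul w).2 hτ
  refine ⟨inferInstance, hbe.symm.trans hen, hbs.1 ⟨fun x => ?_⟩, r, rfl, hirr⟩
  obtain ⟨x, rfl⟩ := residue_surjective x
  obtain ⟨b, hb⟩ := EppInsep.res_surj (B := A) (L := K) hn hπ (le_antisymm hle (hen ▸ hb')) (Abhy.V W K⟮z⟯)
    (Abhy.dominates hW _) r hirr 1 (by rw [Units.val_one, one_mul, hrn]; rfl) x
  rw [← residue_eq_zero_iff, map_sub, sub_eq_zero] at hb
  rw [hb]
  exact isSeparable_algebraMap (residue A b)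

/-- A root of a unit of order invertible in the residue field. -/
theorem unit_root {n : ℕ} (hn : (n : ResidueField A) ≠ 0) (a : Aˣ) (v : Ω)
    (hv : v ^ n = algebraMap K Ω (algebraMap A K a)) :
    FiniteDimensional K K⟮v⟯ ∧ Abhy.e W (bot_le : ⊥ ≤ K⟮v⟯) = 1 ∧ Abhy.S W (bot_le : ⊥ ≤ K⟮v⟯) := by
  have hn0 : 0 < n := Nat.pos_of_ne_zero fun h => hn (by simp [h])
  have hnu : IsUnit (n : A) := residue_ne_zero_iff_isUnit _ |>.1 (by rwa [map_natCast])
  have hint : IsIntegral K v := IsIntegral.of_pow hn0 (by rw [hv]; exact isIntegral_algebraMap)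
  haveI : FiniteDimensional K K⟮v⟯ := IntermediateField.adjoin.finiteDimensional hint
  let P : StandardEtalePair A :=
    { f := X ^ n - C (a : A)
      monic_f := monic_X_pow_sub_C _ hn0.ne'
      g := 1
      cond := by
        obtain ⟨c, hc⟩ := hnu
        refine ⟨C ((↑a⁻¹ : A) * ↑c⁻¹) * X, -(C ((↑a⁻¹ : A) * ↑c⁻¹) * C (n : A)), 0, ?_⟩
        rw [pow_zero, derivative_sub, derivative_C, sub_zero, derivative_X_pow]
        have h1 : C ((↑a⁻¹ : A) * ↑c⁻¹) * C (n : A) * C (a : A) = (1 : A[X]) := by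
          rw [← map_mul, ← map_mul, ← hc, mul_assoc (↑a⁻¹ : A), Units.inv_mul, mul_one, Units.inv_mul, map_one]
        have h2 : X ^ (n - 1) * X = (X ^ n : A[X]) := by rw [← pow_succ, Nat.sub_add_cancel hn0]
        linear_combination (C ((↑a⁻¹ : A) * ↑c⁻¹) * C (n : A)) * h2 + h1 }
  haveI : Module.Finite A P.Ring := by
    haveI : Module.Finite A (AdjoinRoot P.f) := (AdjoinRoot.powerBasis' P.monic_f).finite
    refine Module.Finite.of_surjective ((P.equivAwayAdjoinRoot.symm.toAlgHom.comp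
      (IsScalarTower.toAlgHom A (AdjoinRoot P.f) (Localization.Away (AdjoinRoot.mk P.f P.g))))).toLinearMap ?_
    refine P.equivAwayAdjoinRoot.symm.surjective.comp fun x => ?_
    obtain ⟨⟨y, s, hs⟩, hys⟩ := IsLocalization.surj (Submonoid.powers (AdjoinRoot.mk P.f P.g)) x
    obtain ⟨k, rfl⟩ := hs
    refine ⟨y, ?_⟩
    simpa [P] using hys.symm
  letI : Algebra A Ω := ((algebraMap K Ω).comp (algebraMap A K)).toAlgebra
  letI : Algebra A K⟮v⟯ := ((algebraMap K K⟮v⟯).comp (algebraMap A K)).toAlgebra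
  let ψ : P.Ring →ₐ[A] K⟮v⟯ := P.lift ⟨v, IntermediateField.mem_adjoin_simple_self K v⟩ ⟨by
    apply Subtype.ext
    simp only [P, map_sub, map_pow, aeval_X, aeval_C]
    push_cast
    rw [hv]
    exact sub_eq_zero.2 rfl, by simp [P]⟩
  have hgen : Subfield.closure (Set.range ψ.toRingHom) = ⊤ := by
    refine eq_top_iff.2 fun x htop => ?_
    clear htop
    have hK : ∀ k : K, algebraMap K K⟮v⟯ k ∈ Subfield.closure (Set.range ψ.toRingHom) := fun k => by
      obtain ⟨b, c, -, rfl⟩ := IsFractionRing.div_surjective A k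
      rw [map_div₀]
      exact div_mem (Subfield.subset_closure ⟨algebraMap A P.Ring b, ψ.commutes b⟩)
        (Subfield.subset_closure ⟨algebraMap A P.Ring c, ψ.commutes c⟩)
    let T : IntermediateField K K⟮v⟯ := (Subfield.closure (Set.range ψ.toRingHom)).toIntermediateField hK
    have hvT : (⟨v, IntermediateField.mem_adjoin_simple_self K v⟩ : K⟮v⟯) ∈ T :=
      Subfield.subset_closure ⟨P.X, P.lift_X _ _⟩
    have : K⟮v⟯ ≤ T.map K⟮v⟯.val := IntermediateField.adjoin_le_iff.2 (Set.singleton_subset_iff.2 ⟨_, hvT, rfl⟩)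
    obtain ⟨y, hy, hyx⟩ := this x.2
    rw [← (show y = x from Subtype.ext hyx)]
    exact hy
  letI : Algebra A (Abhy.V W K⟮v⟯) := (Abhy.base hW K⟮v⟯).toAlgebra
  haveI hloc : IsLocalHom (algebraMap A (Abhy.V W K⟮v⟯)) := DomVal.isLocalHom_of_dominates (Abhy.dominates hW _)
  haveI := Abhy.isDVR hW K⟮v⟯
  obtain ⟨hwu, hsep⟩ := @EtUnram.unramified_of_generated A P.Ring K⟮v⟯ K _ _ _ _ _ _ _ _ _ _ _ _ _ ψ.toRingHom
    (fun b => ψ.commutes b) hgen (Abhy.V W K⟮v⟯) (Abhy.dominates hW _) hloc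
  obtain ⟨-, hbw, hbs, -⟩ := Abhy.base_iff hW K⟮v⟯
  exact ⟨inferInstance, hbw.1 hwu, hbs.1 hsep⟩

/-- Abhyankar over the ground ring: a tame extension becomes unramified over a root extension. -/
theorem over_root {π : A} (hπ : Irreducible π) {n : ℕ} (hn : (n : ResidueField A) ≠ 0) (z : Ω)
    (hz : z ^ n = algebraMap K Ω (algebraMap A K π)) (E : IntermediateField K Ω) [FiniteDimensional K E]
    (hE : Tm A W E) (hdvd : Abhy.e W (bot_le : ⊥ ≤ E) ∣ n) :
    FiniteDimensional K K⟮z⟯ ∧ Abhy.e W (le_sup_right : K⟮z⟯ ≤ E ⊔ K⟮z⟯) = 1 ∧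
      Abhy.S W (le_sup_right : K⟮z⟯ ≤ E ⊔ K⟮z⟯) ∧ Abhy.e W (bot_le : ⊥ ≤ E ⊔ K⟮z⟯) = n ∧
      Abhy.S W (bot_le : ⊥ ≤ E ⊔ K⟮z⟯) := by
  obtain ⟨hfin, hez, hsz, -⟩ := uniformizer_root hW hπ (Nat.pos_of_ne_zero fun h => hn (by simp [h])) z hz
  haveI := hfin
  obtain ⟨h1, h2⟩ := Abhy.abhyankar hW (bot_le : ⊥ ≤ E) (bot_le : ⊥ ≤ K⟮z⟯) hE.1 (natCast_bot hW hE.2)
    (by rw [hez]; exact hdvd)
  haveI : FiniteDimensional K (E ⊔ K⟮z⟯ : IntermediateField K Ω) := IntermediateField.finiteDimensional_sup _ _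
  refine ⟨hfin, h1, h2, ?_, (Abhy.S_iff hW bot_le le_sup_right).2 ⟨hsz, h2⟩⟩
  have h3 := Abhy.e_mul hW (bot_le : ⊥ ≤ K⟮z⟯) (le_sup_right : K⟮z⟯ ≤ E ⊔ K⟮z⟯)
  rw [h1, mul_one, hez] at h3
  exact h3

/-- Roots of order invertible in the residue field are tame. -/
theorem root [IsAlgClosed Ω] {n : ℕ} (hn : (n : ResidueField A) ≠ 0) {a : A} (ha : a ≠ 0) (z : Ω)
    (hz : z ^ n = algebraMap K Ω (algebraMap A K a)) : Tm A W K⟮z⟯ := by
  have hn0 : 0 < n := Nat.pos_of_ne_zero fun h => hn (by simp [h])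
  obtain ⟨τ, hτ⟩ := IsDiscreteValuationRing.exists_irreducible A
  obtain ⟨m, c, rfl⟩ := IsDiscreteValuationRing.eq_unit_mul_pow_irreducible ha hτ
  obtain ⟨t, ht⟩ := IsAlgClosed.exists_pow_nat_eq (algebraMap K Ω (algebraMap A K τ)) hn0
  have hτ0 : algebraMap K Ω (algebraMap A K τ) ≠ 0 :=
    (_root_.map_ne_zero _).2 ((map_ne_zero_iff _ (IsFractionRing.injective A K)).2 hτ.ne_zero)
  have ht0 : t ≠ 0 := fun h => hτ0 (by rw [← ht, h, zero_pow hn0.ne'])
  set v := z / t ^ m with hv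
  have hvn : v ^ n = algebraMap K Ω (algebraMap A K c) := by
    rw [hv, div_pow, hz, ← pow_mul, mul_comm m n, pow_mul, ht, map_mul, map_mul, map_pow, map_pow,
      mul_div_assoc, div_self (pow_ne_zero _ hτ0), mul_one]
  obtain ⟨hfv, hev, hsv⟩ := unit_root hW hn c v hvn
  haveI := hfv
  obtain ⟨hft, -, -, he, hs⟩ := over_root hW hτ hn t ht K⟮v⟯ ⟨hsv, by rw [hev, Nat.cast_one]; exact one_ne_zero⟩
    (by rw [hev]; exact one_dvd _)
  haveI := hft
  haveI : FiniteDimensional K (K⟮v⟯ ⊔ K⟮t⟯ : IntermediateField K Ω) := IntermediateField.finiteDimensional_sup _ _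
  refine of_le hW (IntermediateField.adjoin_le_iff.2 (Set.singleton_subset_iff.2 ?_) : K⟮z⟯ ≤ K⟮v⟯ ⊔ K⟮t⟯)
    ⟨hs, by rw [he]; exact hn⟩
  have : z = v * t ^ m := by rw [hv, div_mul_cancel₀ _ (pow_ne_zero _ ht0)]
  rw [this]
  exact mul_mem ((le_sup_left : K⟮v⟯ ≤ _) (IntermediateField.mem_adjoin_simple_self K v))
    (pow_mem ((le_sup_right : K⟮t⟯ ≤ K⟮v⟯ ⊔ K⟮t⟯) (IntermediateField.mem_adjoin_simple_self K t)) m)

omit hW in
theorem exists_order (A : Type u) [CommRing A] [IsLocalRing A] (N : ℕ) :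
    ∃ e₀ : ℕ, 0 < e₀ ∧ (e₀ : ResidueField A) ≠ 0 ∧ ∀ m, m ≤ N → (m : ResidueField A) ≠ 0 → m ∣ e₀ := by
  classical
  let s := (Finset.range (N + 1)).filter (fun m : ℕ => (m : ResidueField A) ≠ 0)
  have h : ((∏ m ∈ s, m : ℕ) : ResidueField A) ≠ 0 := by
    rw [Nat.cast_prod]
    exact Finset.prod_ne_zero_iff.2 fun m hm => (Finset.mem_filter.1 hm).2
  exact ⟨∏ m ∈ s, m, Nat.pos_of_ne_zero fun h0 => h (by simp [h0]), h,
    fun m hm hm0 => Finset.dvd_prod_of_mem (fun m => m) (Finset.mem_filter.2 ⟨Finset.mem_range.2 (by omega), hm0⟩)⟩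

end Groth.Agent.H48.Tame
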