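import Groth.Agent.H48.Orth

set_option autoImplicit false
set_option linter.style.haveILetI false
universe u
open IsLocalRing EtRam

namespace Groth.Agent.H48.FSExt

variable {A K L : Type u} [CommRing A] [IsDomain A] [IsDiscreteValuationRing A] [Field K] [Algebra A K]
  [IsFractionRing A K] [Field L] [Algebra K L]

/-- Powers of a uniformizer give coordinates. -/
theorem exists_coords {q : ℕ} (hq : 0 < q) {π : A} (hπ : Irreducible π) (hfr : Module.finrank K L = q)
    (V : ValuationSubring L) [IsDiscreteValuationRing V]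
    (hV : Dominates A ((algebraMap K L).comp (algebraMap A K)) V) (r : V) (u : Vˣ) (hr : Irreducible r)
    (hru : (RingHom.codRestrict _ V hV.1) π = u * r ^ q) (x : L) :
    ∃ g : Fin q → K, x = ∑ i, algebraMap K L (g i) * (r : L) ^ (i : ℕ) := by
  classical
  haveI : FiniteDimensional K L := Module.finite_of_finrank_pos (by rw [hfr]; exact hq)
  have hli : LinearIndependent K fun i : Fin q => (r : L) ^ (i : ℕ) := by
    rw [Fintype.linearIndependent_iff]
    intro g hg i
    by_contra hi
    have hN : ∀ N : ℕ, ∃ b : A, algebraMap A K b = g i / algebraMap A K π ^ N := by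
      intro N
      refine FSExt.orth V hV r hr π hπ u hru (fun i => g i / algebraMap A K π ^ N) ?_ i
      have : ∑ i, algebraMap K L (g i / algebraMap A K π ^ N) * (r : L) ^ (i : ℕ) =
          algebraMap K L (algebraMap A K π ^ N)⁻¹ * ∑ i, g i • (r : L) ^ (i : ℕ) := by
        rw [Finset.mul_sum]
        exact Finset.sum_congr rfl fun i _ => by rw [Algebra.smul_def, div_eq_inv_mul, map_mul, mul_assoc]
      rw [this, hg, mul_zero]; exact zero_mem V
    obtain ⟨b, hb⟩ := hN 0
    rw [pow_zero, div_one] at hb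
    have hb0 : b ≠ 0 := fun h => hi (by rw [← hb, h, map_zero])
    obtain ⟨k, v, hk⟩ := IsDiscreteValuationRing.eq_unit_mul_pow_irreducible hb0 hπ
    obtain ⟨c, hc⟩ := hN (k + 1)
    have hπK : algebraMap A K π ≠ 0 := (map_ne_zero_iff _ (IsFractionRing.injective A K)).2 hπ.ne_zero
    rw [eq_div_iff (pow_ne_zero _ hπK), ← hb, ← map_pow, ← map_mul, hk, pow_succ, ← mul_assoc,
      mul_right_comm] at hc
    have h := mul_right_cancel₀ (pow_ne_zero k hπ.ne_zero) (IsFractionRing.injective A K hc)
    exact hπ.not_isUnit (isUnit_of_dvd_unit (Dvd.intro_left c h) v.isUnit)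
  haveI : Nonempty (Fin q) := ⟨⟨0, hq⟩⟩
  have hspan := hli.span_eq_top_of_card_eq_finrank (by rw [Fintype.card_fin, hfr])
  obtain ⟨g, hg⟩ := (Submodule.mem_span_range_iff_exists_fun K).1 (hspan ▸ Submodule.mem_top (x := x))
  exact ⟨g, by rw [← hg]; exact Finset.sum_congr rfl fun i _ => Algebra.smul_def _ _⟩

/-- An element which is a uniformizer with full ramification in every place makes the extension totally ramified. -/
theorem isTotallyRamified_of_uniformizer {q : ℕ} (hq : 0 < q) {π : A} (hπ : Irreducible π)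
    (hfr : Module.finrank K L = q) (hex : ∃ V : ValuationSubring L, Dominates A ((algebraMap K L).comp (algebraMap A K)) V)
    (ρ : L) (key : ∀ (V : ValuationSubring L) (hV : Dominates A ((algebraMap K L).comp (algebraMap A K)) V),
      ∃ (r : V) (u : Vˣ), (r : L) = ρ ∧ Irreducible r ∧ RingHom.codRestrict _ V hV.1 π = u * r ^ q) :
    IsTotallyRamified A ((algebraMap K L).comp (algebraMap A K)) := by
  haveI : FiniteDimensional K L := Module.finite_of_finrank_pos (by rw [hfr]; exact hq)
  have coords : ∀ (V : ValuationSubring L) (hV : Dominates A ((algebraMap K L).comp (algebraMap A K)) V) (x : L),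
      x ∈ V → ∃ b : Fin q → A, x = ∑ i, algebraMap K L (algebraMap A K (b i)) * ρ ^ (i : ℕ) := by
    intro V hV x hx
    obtain ⟨r, u, hr, hirr, hru⟩ := key V hV
    haveI : IsDiscreteValuationRing V := FSExt.isDVR V hV
    obtain ⟨g, hg⟩ := exists_coords hq hπ hfr V hV r u hirr hru x
    choose b hb using FSExt.orth V hV r hirr π hπ u hru g (hg ▸ hx)
    exact ⟨b, by rw [hg, hr]; exact Finset.sum_congr rfl fun i _ => by rw [hb i]⟩
  have hsub : ∀ V V' : ValuationSubring L, Dominates A ((algebraMap K L).comp (algebraMap A K)) V →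
      Dominates A ((algebraMap K L).comp (algebraMap A K)) V' → V ≤ V' := fun V V' hV hV' x hx => by
    obtain ⟨b, rfl⟩ := coords V hV x hx
    obtain ⟨r', -, hr', -, -⟩ := key V' hV'
    exact sum_mem fun i _ => mul_mem (hV'.1 (b i)) (pow_mem (hr' ▸ r'.2) _)
  refine ⟨hex, fun V V' hV hV' => le_antisymm (hsub V V' hV hV') (hsub V' V hV' hV), fun V hV x => ?_⟩
  obtain ⟨x, rfl⟩ := residue_surjective x
  obtain ⟨b, hb⟩ := coords V hV x x.2
  obtain ⟨r, -, hr, hirr, -⟩ := key V hV
  refine ⟨b ⟨0, hq⟩, ?_⟩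
  have hx : x = ∑ i : Fin q, RingHom.codRestrict _ V hV.1 (b i) * r ^ (i : ℕ) := Subtype.ext (by
    rw [hb]; push_cast [hr]; rfl)
  rw [hx, map_sum, Finset.sum_eq_single (⟨0, hq⟩ : Fin q)]
  · simp
  · intro i _ hi
    rw [map_mul, (residue_eq_zero_iff _).2 (Ideal.pow_mem_of_mem _ hirr.not_isUnit _
      (Nat.pos_of_ne_zero fun h => hi (Fin.ext h))), mul_zero]
  · simp

end Groth.Agent.H48.FSExt
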