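import Mathlib

/-!
# Rings with flat ideals
-/

universe u

open TensorProduct

namespace Groth.Agent.H48.WeakDim

variable {A : Type u} [CommRing A]

/-- If all finitely generated ideals are flat then all ideals are. -/
theorem flat_ideal_of_fg (h : ∀ I : Ideal A, I.FG → Module.Flat A I) (J : Ideal A) :
    Module.Flat A J := by
  rw [Module.Flat.iff_rTensor_injective]
  intro I hI
  rw [injective_iff_map_eq_zero]
  intro x hx
  -- reduce to a finitely generated subideal of `J`
  obtain ⟨K, hK, hKJ, y, rfl⟩ : ∃ (K : Ideal A), K.FG ∧ ∃ (hKJ : K ≤ J),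
      ∃ y : I ⊗[A] K, (Submodule.inclusion hKJ).lTensor I y = x := by
    clear hx
    induction x using TensorProduct.induction_on with
    | zero => exact ⟨⊥, Submodule.fg_bot, bot_le, 0, map_zero _⟩
    | tmul a j =>
      exact ⟨Ideal.span {(j : A)}, Submodule.fg_span_singleton _,
        (Ideal.span_singleton_le_iff_mem J).2 j.2,
        a ⊗ₜ ⟨(j : A), Ideal.mem_span_singleton_self _⟩, rfl⟩
    | add x y hx hy =>
      obtain ⟨K, hK, hKJ, a, rfl⟩ := hx
      obtain ⟨L, hL, hLJ, b, rfl⟩ := hy
      refine ⟨K ⊔ L, Submodule.FG.sup hK hL, sup_le hKJ hLJ,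
        (Submodule.inclusion (le_sup_left : K ≤ K ⊔ L)).lTensor I a +
          (Submodule.inclusion (le_sup_right : L ≤ K ⊔ L)).lTensor I b, ?_⟩
      rw [map_add, ← LinearMap.lTensor_comp_apply, ← LinearMap.lTensor_comp_apply]
      rfl
  have := h K hK
  have h1 : I.subtype.rTensor K y = 0 := by
    apply Module.Flat.lTensor_preserves_injective_linearMap (M := A) (Submodule.inclusion hKJ)
      (Submodule.inclusion_injective hKJ)
    rw [map_zero, ← LinearMap.comp_apply, LinearMap.lTensor_comp_rTensor,
      ← LinearMap.rTensor_comp_lTensor, LinearMap.comp_apply, hx]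
  rw [Module.Flat.rTensor_preserves_injective_linearMap (M := K) I.subtype I.subtype_injective
    (h1.trans (map_zero _).symm), map_zero]

/-- If all ideals are flat, submodules of flat modules are flat. -/
theorem flat_submodule (hA : ∀ I : Ideal A, Module.Flat A I) {M : Type u} [AddCommGroup M]
    [Module A M] [Module.Flat A M] (C : Submodule A M) : Module.Flat A C := by
  refine Module.Flat.iff_rTensor_injective'.mpr fun I ↦ ?_
  have := hA I
  have h1 : Function.Injective (C.subtype.lTensor I) :=
    Module.Flat.lTensor_preserves_injective_linearMap _ C.injective_subtype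
  have h2 : Function.Injective (I.subtype.rTensor M) :=
    Module.Flat.rTensor_preserves_injective_linearMap _ I.injective_subtype
  have h3 : (I.subtype.rTensor M).comp (C.subtype.lTensor I) =
      (C.subtype.lTensor A).comp (I.subtype.rTensor C) := by
    rw [LinearMap.rTensor_comp_lTensor, LinearMap.lTensor_comp_rTensor]
  refine Function.Injective.of_comp (f := C.subtype.lTensor A) ?_
  rw [← LinearMap.coe_comp, ← h3, LinearMap.coe_comp]
  exact h2.comp h1

/-- Ideals in a product of valuation rings are flat. -/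
theorem flat_ideal_pi {J : Type u} (R : J → Type u) [∀ j, CommRing (R j)] [∀ j, IsDomain (R j)]
    [∀ j, ValuationRing (R j)] (I : Ideal (∀ j, R j)) : Module.Flat (∀ j, R j) I := by
  classical
  have hB : IsBezout (∀ j, R j) := IsBezout.iff_span_pair_isPrincipal.2 fun a b => by
    have h : ∀ j, ∃ g, Ideal.span {g} = Ideal.span ({a j, b j} : Set (R j)) := fun j =>
      ⟨_, IsBezout.span_gcd (a j) (b j)⟩
    choose g hg using h
    have hg₁ : ∀ j, g j ∈ Ideal.span ({a j, b j} : Set (R j)) := fun j =>
      hg j ▸ Ideal.mem_span_singleton_self _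
    simp only [Ideal.mem_span_pair] at hg₁
    choose u v huv using hg₁
    have hga : ∀ j, ∃ c, c * g j = a j := fun j => Ideal.mem_span_singleton'.1
      (hg j ▸ Ideal.subset_span (by simp))
    have hgb : ∀ j, ∃ c, c * g j = b j := fun j => Ideal.mem_span_singleton'.1
      (hg j ▸ Ideal.subset_span (by simp))
    choose ca hca using hga
    choose cb hcb using hgb
    refine ⟨g, le_antisymm (Ideal.span_le.2 fun x hx => ?_)
      ((Ideal.span_singleton_le_iff_mem _).2 (Ideal.mem_span_pair.2 ⟨u, v, funext huv⟩))⟩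
    rcases hx with rfl | rfl
    · exact Ideal.mem_span_singleton'.2 ⟨ca, funext hca⟩
    · exact Ideal.mem_span_singleton'.2 ⟨cb, funext hcb⟩
  refine flat_ideal_of_fg (fun K hK => ?_) I
  obtain ⟨a, rfl⟩ := (IsBezout.isPrincipal_of_FG K hK).principal
  let e : ∀ j, R j := fun j => if a j = 0 then 0 else 1
  have hea : e * a = a := funext fun j => by
    by_cases h : a j = 0 <;> simp [e, h]
  let r : (∀ j, R j) →ₗ[∀ j, R j] Submodule.span (∀ j, R j) {a} :=
    LinearMap.toSpanSingleton _ _ ⟨a, Submodule.mem_span_singleton_self a⟩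
  have hr : Function.Surjective r := fun ⟨x, hx⟩ => by
    obtain ⟨c, rfl⟩ := Submodule.mem_span_singleton.1 hx
    exact ⟨c, rfl⟩
  -- `a ↦ e` splits the surjection
  have hker : ∀ c, r c = 0 → c * e = 0 := fun c hc => funext fun j => by
    have h : c j * a j = 0 := congrFun (congrArg Subtype.val hc) j
    by_cases ha : a j = 0
    · simp [e, ha]
    · simp [e, ha, (mul_eq_zero.1 h).resolve_right ha]
  let s : (∀ j, R j) →ₗ[∀ j, R j] (∀ j, R j) := LinearMap.toSpanSingleton _ _ e
  have hsk : LinearMap.ker r ≤ LinearMap.ker s := fun c hc => by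
    simpa [s] using hker c (LinearMap.mem_ker.1 hc)
  let t : Submodule.span (∀ j, R j) {a} →ₗ[∀ j, R j] (∀ j, R j) :=
    (Submodule.liftQ _ s hsk).comp (r.quotKerEquivOfSurjective hr).symm.toLinearMap
  have ht : ∀ c, t (r c) = c * e := fun c => by
    have h : (r.quotKerEquivOfSurjective hr).symm (r c) = Submodule.Quotient.mk c := by
      rw [LinearEquiv.symm_apply_eq]; rfl
    simp only [t, LinearMap.comp_apply, LinearEquiv.coe_coe, h, Submodule.liftQ_apply]
    rfl
  refine Module.Flat.of_retract t r (LinearMap.ext fun x => ?_)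
  obtain ⟨c, rfl⟩ := hr x
  rw [LinearMap.comp_apply, ht, LinearMap.id_apply]
  refine Subtype.ext ?_
  show (c * e) * a = c * a
  rw [mul_assoc, hea]

theorem isLocalization_pi {J : Type u} (R : J → Type u) [∀ j, CommRing (R j)] [∀ j, IsDomain (R j)]
    (K : J → Type u) [∀ j, Field (K j)] [∀ j, Algebra (R j) (K j)]
    [∀ j, IsFractionRing (R j) (K j)] :
    IsLocalization (nonZeroDivisors (∀ j, R j)) (∀ j, K j) := by
  classical
  have hmem : ∀ s : (∀ j, R j), s ∈ nonZeroDivisors (∀ j, R j) ↔ ∀ j, s j ≠ 0 := by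
    intro s
    refine ⟨fun hs j h => ?_, fun hs => mem_nonZeroDivisors_iff_right.2 fun x hx => funext fun j =>
      (mul_eq_zero.1 (congrFun hx j)).resolve_right (hs j)⟩
    have := mem_nonZeroDivisors_iff_right.1 hs (Pi.single j 1) (funext fun k => by
      by_cases hk : k = j
      · subst hk; simp [h]
      · simp [hk])
    simpa using congrFun this j
  refine ⟨fun s => Pi.isUnit_iff.2 fun j => isUnit_iff_ne_zero.2 ?_, fun z => ?_, fun {x y} h => ⟨1, ?_⟩⟩
  · exact fun h => (hmem s).1 s.2 j (IsFractionRing.injective (R j) (K j) (h.trans (map_zero _).symm))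
  · choose a b hb hab using fun j => IsFractionRing.div_surjective (R j) (z j)
    refine ⟨(a, ⟨b, (hmem b).2 fun j => nonZeroDivisors.ne_zero (hb j)⟩), funext fun j => ?_⟩
    show z j * algebraMap (R j) (K j) (b j) = algebraMap (R j) (K j) (a j)
    rw [← hab j, div_mul_cancel₀]
    exact IsFractionRing.to_map_ne_zero_of_mem_nonZeroDivisors (hb j)
  · rw [show x = y from funext fun j => IsFractionRing.injective (R j) (K j) (congrFun h j)]

end Groth.Agent.H48.WeakDim
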